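import Cfsg.Agent.Lib.Aschbacher.OrthExplicit.NonContain
import Cfsg.Agent.Lib.Aschbacher.FieldNorm

/-!
`Ω` of a quadratic form in any characteristic is irreducible and lies in no stabiliser of a decomposition into
members of dimension at least two, in no normaliser of a field and in no subfield group.
-/

set_option autoImplicit false
set_option linter.style.haveILetI false
set_option linter.unusedSectionVars false

namespace Cfsg.Agent.Aschbacher.OrthEven

open Matrix
open scoped MatrixGroups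
open Cfsg.Agent.MaxCl
open Cfsg.Agent.MaxCl.Orth
open Cfsg.Agent.Aschbacher.OrthExplicit (FixesCodimTwo)
open Module (finrank)

variable {ι : Type} [Fintype ι] [DecidableEq ι] {F : Type*} [Field F] [Fintype F]
variable {Q : QuadraticForm F (ι → F)} (hQ : (QuadraticMap.polarBilin Q).Nondegenerate)
  (h5 : 5 ≤ Fintype.card ι)
include hQ h5

set_option quotPrecheck false in
local notation "B" => QuadraticMap.polar (⇑Q)

omit [Fintype F] in
/-- The orthogonal space of a singular vector is not totally isotropic. -/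
theorem exists_perp_pairing {u : ι → F} (hu0 : u ≠ 0) :
    ∃ w w', B u w = 0 ∧ B u w' = 0 ∧ B w w' ≠ 0 := by
  by_contra hcon
  push Not at hcon
  have hle : perp Q (F ∙ u) ≤ perp Q (perp Q (F ∙ u)) := fun w' hw' => (mem_perp Q).2 fun w hw =>
    hcon w w' (hw u (Submodule.mem_span_singleton_self u)) (hw' u (Submodule.mem_span_singleton_self u))
  have h1 := Submodule.finrank_mono hle
  rw [perp_perp hQ, finrank_perp hQ, finrank_span_singleton hu0] at h1
  omega

/-- `Ω` is irreducible. -/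
theorem omega_irr {W : Submodule F (ι → F)}
    (hW : ∀ g ∈ Geo.omegaGL (⇑Q), ∀ v ∈ W, (g : Matrix ι ι F) *ᵥ v ∈ W) (h0 : W ≠ ⊥) : W = ⊤ := by
  obtain ⟨x, hx, hx0⟩ := W.ne_bot_iff.1 h0
  obtain ⟨u, hu, hux⟩ := exists_singular_pairing hQ h5 hx0
  have hu0 : u ≠ 0 := by rintro rfl; exact hux (B_zero_left Q x)
  have hd : ∀ w, B u w = 0 → B u x • w - (B w x + Q w * B u x) • u ∈ W := fun w hw => by
    have h1 := W.sub_mem (hW _ (sg_mem_omega hQ h5 u w) x hx) hx
    rw [← act_apply, act_sg Q hu hw, add_sub_assoc, add_sub_cancel_left] at h1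
    exact h1
  obtain ⟨w, w', hw, hw', hne⟩ := exists_perp_pairing hQ h5 hu0
  have huW : u ∈ W := by
    refine (Submodule.smul_mem_iff W (mul_ne_zero hne hux)).1 ?_
    convert W.sub_mem (W.add_mem (hd w hw) (hd w' hw'))
      (hd (w + w') (by rw [B_add_right Q, hw, hw', add_zero])) using 1
    rw [B_add_left Q, Q_add Q]
    module
  have hle : perp Q (F ∙ u) ≤ W := fun v hv => by
    have h1 := W.add_mem (hd v (hv u (Submodule.mem_span_singleton_self u)))
      (W.smul_mem (B v x + Q v * B u x) huW)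
    rw [sub_add_cancel] at h1
    exact (Submodule.smul_mem_iff W hux).1 h1
  have hlt : perp Q (F ∙ u) < W := lt_of_le_of_ne hle fun he =>
    hux ((he ▸ hx : x ∈ perp Q (F ∙ u)) u (Submodule.mem_span_singleton_self u))
  have h2 := Submodule.finrank_lt_finrank_of_lt hlt
  rw [finrank_perp hQ, finrank_span_singleton hu0] at h2
  refine Submodule.eq_top_of_finrank_eq ?_
  have := Submodule.finrank_le W
  rw [Module.finrank_pi] at *
  omega

theorem omega_not_le_subspace {W : Submodule F (ι → F)} (h0 : W ≠ ⊥) (h1 : W ≠ ⊤) :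
    ¬ Geo.omegaGL (⇑Q) ≤ Geo.subspaceStabilizer W := fun hle =>
  h1 (omega_irr hQ h5 (fun g hg v hv => ((hle hg) v).1 hv) h0)

omit [Fintype F] h5 in
/-- A Siegel element moves only inside the plane of its parameters. -/
theorem sg_sub_mem_span {u w : ι → F} (hu : Q u = 0) (h : B u w = 0) (x : ι → F) :
    (sg Q u w : Matrix ι ι F) *ᵥ x - x ∈ Submodule.span F (Set.range ![u, w]) := by
  rw [← act_apply, act_sg Q hu h, add_sub_assoc, add_sub_cancel_left]
  exact sub_mem (Submodule.smul_mem _ _ (Submodule.subset_span ⟨1, rfl⟩))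
    (Submodule.smul_mem _ _ (Submodule.subset_span ⟨0, rfl⟩))

omit h5 in
/-- A Siegel element moving a member of a decomposition into planes: both parameters lie in that member and
its image. -/
theorem moved_plane {t : ℕ} {D : Fin t → Submodule F (ι → F)} (hD : Geo.IsMDecomposition 2 D) {u w : ι → F}
    (hu : Q u = 0) (hu0 : u ≠ 0) (h : B u w = 0) {π : Equiv.Perm (Fin t)}
    (hπ : ∀ i, (D i).map (Matrix.toLin' (sg Q u w : Matrix ι ι F)) = D (π i)) {i : Fin t} (hne : π i ≠ i) :
    u ∈ D i ⊔ D (π i) ∧ w ∈ D i ⊔ D (π i) ∧ u ∉ D i ∧ u ∉ D (π i) := by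
  set g := sg Q u w
  let L : D i →ₗ[F] (ι → F) := ((Matrix.toLin' (g : Matrix ι ι F)) - LinearMap.id).domRestrict (D i)
  have hL : ∀ y : D i, L y = (g : Matrix ι ι F) *ᵥ (y : ι → F) - y := fun y => by
    simp [L, Matrix.toLin'_apply]
  have himg : ∀ y : D i, (g : Matrix ι ι F) *ᵥ (y : ι → F) ∈ D (π i) := fun y =>
    hπ i ▸ ⟨y, y.2, Matrix.toLin'_apply _ _⟩
  have hdisj : ∀ v, v ∈ D i → v ∈ D (π i) → v = 0 :=
    Submodule.disjoint_def.1 (hD.indep.pairwiseDisjoint (Ne.symm hne))
  have hinj : Function.Injective L := by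
    rw [injective_iff_map_eq_zero]
    intro y hy
    rw [hL, sub_eq_zero] at hy
    exact Subtype.ext (hdisj _ y.2 (hy ▸ himg y))
  have hle : LinearMap.range L ≤ Submodule.span F (Set.range ![u, w]) := by
    rintro _ ⟨y, rfl⟩
    rw [hL]; exact sg_sub_mem_span hQ hu h _
  have heq : LinearMap.range L = Submodule.span F (Set.range ![u, w]) :=
    Submodule.eq_of_le_of_finrank_le hle ((finrank_span_list_le _).trans (by
      rw [LinearMap.finrank_range_of_inj hinj, hD.finrank_eq]))
  have hsub : LinearMap.range L ≤ D i ⊔ D (π i) := by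
    rintro _ ⟨y, rfl⟩
    rw [hL]
    exact sub_mem (Submodule.mem_sup_right (himg y)) (Submodule.mem_sup_left y.2)
  obtain ⟨y, hy⟩ : u ∈ LinearMap.range L := heq ▸ Submodule.subset_span ⟨0, rfl⟩
  rw [hL] at hy
  refine ⟨hsub (heq ▸ Submodule.subset_span ⟨0, rfl⟩), hsub (heq ▸ Submodule.subset_span ⟨1, rfl⟩),
    fun hui => hu0 ?_, fun hui => hu0 ?_⟩
  · have h0 : (g : Matrix ι ι F) *ᵥ (y : ι → F) = 0 := hdisj _ (by
      rw [show (g : Matrix ι ι F) *ᵥ (y : ι → F) = u + y by rw [← hy, sub_add_cancel]]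
      exact add_mem hui y.2) (himg y)
    rw [← hy, h0, (mulVec_eq_zero_iff g).1 h0, sub_zero]
  · have h0 : (y : ι → F) = 0 := hdisj _ y.2 (by
      rw [show (y : ι → F) = (g : Matrix ι ι F) *ᵥ (y : ι → F) - u by rw [← hy, sub_sub_cancel]]
      exact sub_mem (himg y) hui)
    rw [← hy, h0, Matrix.mulVec_zero, sub_zero]

/-- `Ω` stabilises no decomposition into members of dimension at least two. -/
theorem omega_not_le_decomposition {t m : ℕ} {D : Fin t → Submodule F (ι → F)}
    (hD : Geo.IsMDecomposition m D) (hm : 2 ≤ m) (h6 : m = 2 → 6 ≤ Fintype.card ι) :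
    ¬ Geo.omegaGL (⇑Q) ≤ Geo.decompositionStabilizer D := by
  intro hle
  have ht := hD.two_le
  have hcard := card_eq_of_isMDecomposition hD
  set i₀ : Fin t := ⟨0, by omega⟩
  refine omega_not_le_subspace hQ h5 (W := D i₀) (fun h => ?_) (fun h => ?_) ?_
  · have := hD.finrank_eq i₀
    rw [h, finrank_bot] at this
    omega
  · have h1 := hD.finrank_eq i₀
    rw [h, finrank_top, Module.finrank_fintype_fun_eq_card] at h1
    have : 2 * m ≤ t * m := Nat.mul_le_mul_right m ht
    omega
  rw [omega_eq_sgGroup hQ h5, sgGroup, Subgroup.closure_le]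
  rintro _ ⟨⟨u, w⟩, rfl⟩
  by_cases hm3 : 3 ≤ m
  · exact OrthExplicit.mem_stabilizer_of_fixesCodimTwo hD hm3 (hle (sg_mem_omega hQ h5 u w))
      (OrthExplicit.fixesCodimTwo_sg hQ u w) i₀
  obtain rfl : m = 2 := by omega
  by_cases hcond : Q u = 0 ∧ B u w = 0
  swap
  · simp only [sg_of_not Q hcond]; exact one_mem _
  obtain ⟨hu, huw⟩ := hcond
  -- the parameters whose elements fix every member
  let A : (ι → F) → Prop := fun v => ∀ i, sg Q u v ∈ Geo.subspaceStabilizer (D i)
  suffices hall : A w from hall i₀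
  by_contra hw
  have hmove : ∀ v, B u v = 0 → ¬ A v → ∃ i j, i ≠ j ∧ u ∈ D i ⊔ D j ∧ v ∈ D i ⊔ D j ∧ u ∉ D i ∧ u ∉ D j := by
    intro v hv hA
    obtain ⟨π, hπ⟩ := hle (sg_mem_omega hQ h5 u v)
    obtain ⟨i, hi⟩ : ∃ i, π i ≠ i := by
      by_contra hall
      push Not at hall
      refine hA fun i => Aschbacher.mem_subspaceStabilizer fun y hy => ?_
      have h1 := hπ i
      rw [hall i] at h1
      exact h1 ▸ ⟨y, hy, Matrix.toLin'_apply _ _⟩
    have hu0 : u ≠ 0 := by
      rintro rfl
      refine hA fun i => Aschbacher.mem_subspaceStabilizer fun y hy => ?_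
      rw [← act_apply, act_sg Q hu hv]
      simpa using hy
    exact ⟨i, π i, Ne.symm hi, moved_plane hQ hD hu hu0 hv hπ hi⟩
  obtain ⟨i, j, hij, huij, -, hui, huj⟩ := hmove w huw hw
  have hu0 : u ≠ 0 := fun h => hui (h ▸ zero_mem _)
  have hS : ∀ v, B u v = 0 → ¬ A v → v ∈ D i ⊔ D j := by
    intro v hv hA
    obtain ⟨i', j', -, huij', hvij', -, -⟩ := hmove v hv hA
    have key : ∀ a b, a ≠ b → u ∈ D a ⊔ D b → u ∉ D b → (a = i' ∨ a = j') := by
      intro a b hab huab hub
      by_contra hne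
      push Not at hne
      obtain ⟨x, hx, y, hy, rfl⟩ := Submodule.mem_sup.1 huab
      obtain ⟨x', hx', y', hy', he⟩ := Submodule.mem_sup.1 huij'
      have hx0 : x = 0 := Submodule.disjoint_def.1 (hD.indep a) x hx (by
        rw [show x = x' + y' - y by rw [he, add_sub_cancel_right]]
        refine sub_mem (add_mem ?_ ?_) ?_
        · exact Submodule.mem_iSup_of_mem i' (Submodule.mem_iSup_of_mem (Ne.symm hne.1) hx')
        · exact Submodule.mem_iSup_of_mem j' (Submodule.mem_iSup_of_mem (Ne.symm hne.2) hy')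
        · exact Submodule.mem_iSup_of_mem b (Submodule.mem_iSup_of_mem (Ne.symm hab) hy))
      exact hub (by rw [hx0, zero_add]; exact hy)
    rcases key i j hij huij huj with h1 | h1 <;> rcases key j i (Ne.symm hij) (sup_comm (D i) (D j) ▸ huij) hui with
      h2 | h2
    · exact absurd (h1.trans h2.symm) hij
    · rw [h1, h2]; exact hvij'
    · rw [h1, h2, sup_comm]; exact hvij'
    · exact absurd (h1.trans h2.symm) hij
  obtain ⟨a, ha, haS⟩ : ∃ a ∈ perp Q (F ∙ u), a ∉ D i ⊔ D j := by
    by_contra hcon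
    push Not at hcon
    have h1 := Submodule.finrank_mono (fun a ha => hcon a ha : perp Q (F ∙ u) ≤ D i ⊔ D j)
    rw [finrank_perp hQ, finrank_span_singleton hu0] at h1
    have h2 := Submodule.finrank_add_le_finrank_add_finrank (D i) (D j)
    rw [hD.finrank_eq, hD.finrank_eq] at h2
    have := h6 rfl
    omega
  have hua : B u a = 0 := ha u (Submodule.mem_span_singleton_self u)
  have hAa : A a := not_not.1 fun h => haS (hS a hua h)
  have haw : B u (a + w) = 0 := by rw [B_add_right Q, hua, huw, add_zero]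
  have hAaw : A (a + w) := not_not.1 fun h => haS (by
    simpa using sub_mem (hS _ haw h) (hS w huw hw))
  refine hw fun l => ?_
  have h1 : sg Q u a * sg Q u w = sg Q u (a + w) := sg_add Q hu hua huw
  rw [show sg Q u w = (sg Q u a)⁻¹ * sg Q u (a + w) by rw [← h1, inv_mul_cancel_left]]
  exact mul_mem (inv_mem (hAa l)) (hAaw l)

/-- `Ω` normalises no field of degree at least two. -/
theorem omega_not_le_field {r : ℕ} (hr : 2 ≤ r) {K : Subalgebra F (Matrix ι ι F)}
    (hK : Geo.IsFieldSubalgebra r K) : ¬ Geo.omegaGL (⇑Q) ≤ Geo.subalgebraNormalizer K := by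
  classical
  by_cases hr3 : 3 ≤ r
  · exact OrthExplicit.omega_not_le_subalgebraNormalizer hQ h5 hr3 hK
  intro hle
  obtain rfl : r = 2 := by omega
  obtain ⟨u, -, hu0, hu⟩ := exists_singular Q (D := (⊤ : Submodule F (ι → F))) (by
    rw [finrank_top, Module.finrank_pi]; omega)
  have hker : ∀ k ∈ K, k ≠ 0 → ∀ v, k *ᵥ v = 0 → v = 0 := by
    intro k hk hk0 v hv
    obtain ⟨y, hy, hky⟩ := hK.inv k hk hk0
    rw [← Matrix.one_mulVec v, ← hky, hK.comm k hk y hy, ← Matrix.mulVec_mulVec, hv, Matrix.mulVec_zero]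
  obtain ⟨k, hk, hku⟩ : ∃ k ∈ K, k *ᵥ u ∉ F ∙ u := by
    by_contra hcon
    push Not at hcon
    have h1 : LinearMap.range (evalAt K u) ≤ F ∙ u := by
      rintro _ ⟨z, rfl⟩
      exact hcon _ z.2
    have h2 := Submodule.finrank_mono h1
    rw [LinearMap.finrank_range_of_inj (evalAt_injective hK hu0), finrank_span_singleton hu0,
      show finrank F K = 2 from hK.finrank_eq] at h2
    omega
  have hmain : ∀ w, B u w = 0 → w ∈ Submodule.span F (Set.range ![u, k *ᵥ u]) := by
    intro w huw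
    set U := Submodule.span F (Set.range ![u, k *ᵥ u])
    have huU : u ∈ U := Submodule.subset_span ⟨0, rfl⟩
    by_cases hwu : w ∈ F ∙ u
    · exact (Submodule.span_singleton_le_iff_mem _ _).2 huU hwu
    set g := sg Q u w with hg'
    have hg := hle (sg_mem_omega hQ h5 u w)
    obtain ⟨E, hE, hEfix⟩ := OrthExplicit.fixesCodimTwo_sg hQ u w
    have hcomm : ∀ v, (g : Matrix ι ι F) *ᵥ (k *ᵥ v) = k *ᵥ ((g : Matrix ι ι F) *ᵥ v) := by
      set k' := (g : Matrix ι ι F) * k * ((g⁻¹ : GL ι F) : Matrix ι ι F) with hk'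
      have hk'K : k' ∈ K := (hg k).1 hk
      have hgk : ∀ v, (g : Matrix ι ι F) *ᵥ (k *ᵥ v) = k' *ᵥ ((g : Matrix ι ι F) *ᵥ v) := fun v => by
        simp only [hk', ← Matrix.mulVec_mulVec, inv_mulVec]
      suffices k' = k by intro v; rw [hgk v, this]
      by_contra hne
      obtain ⟨y, hy0, hy⟩ := OrthExplicit.exists_preimage hE (Matrix.toLin' k ∘ₗ E.subtype) (by omega)
      rw [LinearMap.comp_apply, Submodule.subtype_apply, Matrix.toLin'_apply] at hy
      have h1 := hgk (y : ι → F)
      rw [hEfix _ y.2, hEfix _ hy] at h1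
      exact hy0 (Subtype.ext (hker (k' - k) (K.sub_mem hk'K hk) (sub_ne_zero.2 hne) _
        (by rw [Matrix.sub_mulVec, ← h1, sub_self])))
    set S := Submodule.span F (Set.range ![u, w])
    obtain ⟨x, hx⟩ := exists_B_ne_zero hQ hu0
    set y := (g : Matrix ι ι F) *ᵥ x - x with hy
    have hyS : y ∈ S := sg_sub_mem_span hQ hu huw x
    have hkyS : k *ᵥ y ∈ S := by
      rw [hy, Matrix.mulVec_sub, ← hcomm]
      exact sg_sub_mem_span hQ hu huw _
    have hy0 : y ≠ 0 := by
      intro h0
      rw [hy, hg', ← act_apply, act_sg Q hu huw, add_sub_assoc, add_sub_cancel_left, sub_eq_zero] at h0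
      exact hwu (Submodule.mem_span_singleton.2 ⟨(B u x)⁻¹ * (B w x + Q w * B u x), by
        rw [← smul_smul, ← h0, smul_smul, inv_mul_cancel₀ hx, one_smul]⟩)
    -- the plane is a line over the field
    have hKy : LinearMap.range (evalAt K y) = S := by
      have hscal : ∀ z ∈ K, ∃ a b : F, z = a • (1 : Matrix ι ι F) + b • k := by
        have hli : LinearIndependent F ![(1 : Matrix ι ι F), k] := LinearIndependent.pair_iff.2 fun a b hab => by
          have h1 := congrArg (fun M : Matrix ι ι F => M *ᵥ u) hab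
          simp only [Matrix.add_mulVec, Matrix.smul_mulVec, Matrix.one_mulVec, Matrix.zero_mulVec] at h1
          by_cases hb : b = 0
          · rw [hb, zero_smul, add_zero] at h1
            exact ⟨(smul_eq_zero.1 h1).resolve_right hu0, hb⟩
          · exact absurd (Submodule.mem_span_singleton.2 ⟨-(a / b), by
              rw [neg_smul, div_eq_inv_mul, ← smul_smul, eq_neg_of_add_eq_zero_left h1, smul_neg, neg_neg,
                smul_smul, inv_mul_cancel₀ hb, one_smul]⟩) hku
        have hsp : Submodule.span F (Set.range ![(1 : Matrix ι ι F), k]) = Subalgebra.toSubmodule K :=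
          Submodule.eq_of_le_of_finrank_le (Submodule.span_le.2 (by
            rintro _ ⟨l, rfl⟩; fin_cases l
            · exact one_mem K
            · exact hk)) (by
            rw [Subalgebra.finrank_toSubmodule, hK.finrank_eq, finrank_span_eq_card hli, Fintype.card_fin])
        intro z hz
        obtain ⟨c, hc⟩ := (Submodule.mem_span_range_iff_exists_fun F).1 (hsp.ge hz)
        exact ⟨c 0, c 1, by rw [← hc, Fin.sum_univ_two]; rfl⟩
      refine Submodule.eq_of_le_of_finrank_le ?_ ?_
      · rintro _ ⟨z, rfl⟩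
        obtain ⟨a, b, hz⟩ := hscal _ z.2
        show (z : Matrix ι ι F) *ᵥ y ∈ S
        rw [hz, Matrix.add_mulVec, Matrix.smul_mulVec, Matrix.smul_mulVec, Matrix.one_mulVec]
        exact add_mem (S.smul_mem a hyS) (S.smul_mem b hkyS)
      · rw [LinearMap.finrank_range_of_inj (evalAt_injective hK hy0), show finrank F K = 2 from hK.finrank_eq]
        exact finrank_span_list_le _
    obtain ⟨z, hz⟩ : u ∈ LinearMap.range (evalAt K y) := hKy ▸ Submodule.subset_span ⟨0, rfl⟩
    have hkuS : k *ᵥ u ∈ S := hKy ▸ ⟨⟨k * (z : Matrix ι ι F), K.mul_mem hk z.2⟩, by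
      show (k * (z : Matrix ι ι F)) *ᵥ y = _
      rw [← Matrix.mulVec_mulVec, show (z : Matrix ι ι F) *ᵥ y = u from hz]⟩
    obtain ⟨a, b, hab⟩ := mem_span_pair_iff_range.1 hkuS
    have hb : b ≠ 0 := fun hb => hku (Submodule.mem_span_singleton.2 ⟨a, by rw [← hab, hb, zero_smul, add_zero]⟩)
    rw [show w = b⁻¹ • (k *ᵥ u - a • u) by rw [← hab, add_sub_cancel_left, smul_smul, inv_mul_cancel₀ hb, one_smul]]
    exact U.smul_mem _ (sub_mem (Submodule.subset_span ⟨1, rfl⟩) (U.smul_mem a huU))
  have h1 := Submodule.finrank_mono (fun w hw => hmain w (hw u (Submodule.mem_span_singleton_self u)) :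
    perp Q (F ∙ u) ≤ Submodule.span F (Set.range ![u, k *ᵥ u]))
  rw [finrank_perp hQ, finrank_span_singleton hu0] at h1
  have := finrank_span_list_le ![u, k *ᵥ u]
  omega

/-- `Ω` lies in no subfield group. -/
theorem omega_not_le_subfield {F₀ : Subfield F} (hF₀ : F₀ ≠ ⊤) (P : GL ι F) :
    ¬ Geo.omegaGL (⇑Q) ≤ Geo.subfieldSubgroup F₀ P := by
  classical
  intro hle
  obtain ⟨p, hpC⟩ := CharP.exists F
  haveI := hpC
  haveI : Fact p.Prime := ⟨CharP.char_is_prime F p⟩
  obtain ⟨u, v, u', v', hu, hv, hu', hv', huv, hu'v', huu', huv', hvu', hvv'⟩ := exists_two_pairs hQ h5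
  have haw : ∀ a : F, B u (a • u') = 0 := fun a => by rw [B_smul_right Q, huu', mul_zero]
  have hpow : ∀ (a : F) (m : ℕ), sg Q u (a • u') ^ m = sg Q u (((m : F) * a) • u') := by
    intro a m
    induction m with
    | zero => rw [pow_zero, Nat.cast_zero, zero_mul, zero_smul, sg_zero]
    | succ m ih => rw [pow_succ, ih, sg_add Q hu (haw _) (haw _), ← add_smul, Nat.cast_succ, add_mul,
        one_mul]
  have hent : ∀ (a : F) (i j : ι),
      ((P⁻¹ * sg Q u (a • u') * P : GL ι F) : Matrix ι ι F) i j ∈ F₀ := by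
    intro a
    obtain ⟨s, hs, hsg⟩ := hle (sg_mem_omega hQ h5 u (a • u'))
    have hsp : s ^ p = 1 := by
      apply (MulAut.conj P).injective
      rw [map_pow, show MulAut.conj P s = sg Q u (a • u') from hsg, map_one, hpow, CharP.cast_eq_zero F p,
        zero_mul, zero_smul, sg_zero]
    rw [show P⁻¹ * sg Q u (a • u') * P = s by rw [← hsg]; simp [mul_assoc]]
    obtain ⟨g', hg', z, hz, hgz⟩ := Subgroup.mem_sup_of_normal_right.1 hs
    obtain ⟨g₀, rfl⟩ := hg'
    obtain ⟨l, hl⟩ := (Geo.mem_scalars_iff z).1 hz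
    have hsl : (s : Matrix ι ι F) = (l : F) • (g₀ : Matrix ι ι F₀).map F₀.subtype := by
      rw [← hgz, Units.val_mul, hl, Matrix.mul_smul, mul_one]; rfl
    obtain ⟨i₀⟩ : Nonempty ι := Fintype.card_pos_iff.1 (by omega)
    have h1 : (l : F) ^ p • (((g₀ : Matrix ι ι F₀) ^ p).map F₀.subtype) = 1 := by
      rw [Matrix.map_pow, ← smul_pow, ← hsl, ← Units.val_pow_eq_pow_val, hsp, Units.val_one]
    have h1' := congrFun (congrFun h1 i₀) i₀
    rw [Matrix.smul_apply, Matrix.map_apply, smul_eq_mul, Matrix.one_apply_eq] at h1'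
    have hlp : (l : F) ^ p ∈ F₀ := by
      rw [eq_inv_of_mul_eq_one_left h1']
      exact inv_mem (SetLike.coe_mem _)
    have hinj : Function.Injective fun μ : F₀ => μ ^ p := fun μ ν he =>
      Subtype.ext (frobenius_inj F p (by
        simpa [frobenius_def] using congrArg (Subtype.val : F₀ → F) he))
    obtain ⟨μ, hμ⟩ := Finite.injective_iff_surjective.1 hinj ⟨_, hlp⟩
    have hlμ : (l : F) = μ := frobenius_inj F p (by
      simpa [frobenius_def] using (congrArg (Subtype.val : F₀ → F) hμ).symm)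
    intro i j
    rw [hsl, Matrix.smul_apply, Matrix.map_apply, smul_eq_mul, hlμ]
    exact mul_mem μ.2 (SetLike.coe_mem _)
  let M : F → Matrix ι ι F := fun a => (sg Q u (a • u') : Matrix ι ι F) - 1
  have hM : ∀ a x, M a *ᵥ x = a • (B u x • u' - B u' x • u) := by
    intro a x
    simp only [M, Matrix.sub_mulVec, Matrix.one_mulVec]
    rw [← act_apply, act_sg Q hu (haw a)]
    simp only [B_smul_left Q, Q_smul Q, hu']
    module
  have hlin : ∀ a, M a = a • M 1 := fun a => Matrix.ext_of_mulVec_single fun i => by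
    rw [Matrix.smul_mulVec, hM, hM, one_smul]
  let N : F → Matrix ι ι F := fun a =>
    ((P⁻¹ : GL ι F) : Matrix ι ι F) * M a * (P : Matrix ι ι F)
  have hN : ∀ a i j, N a i j ∈ F₀ := by
    intro a i j
    simp only [N, M, mul_sub, sub_mul, Matrix.sub_apply, mul_one, Units.inv_mul]
    refine sub_mem (by simpa using hent a i j) ?_
    rw [Matrix.one_apply]
    split_ifs
    exacts [one_mem _, zero_mem _]
  obtain ⟨i, j, hij⟩ : ∃ i j, N 1 i j ≠ 0 := by
    by_contra hc
    push Not at hc
    have h0 : M 1 = 0 := by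
      have h1 : (P : Matrix ι ι F) * N 1 * ((P⁻¹ : GL ι F) : Matrix ι ι F) = M 1 := by
        simp [N, ← mul_assoc]
      rw [← h1, show N 1 = 0 from Matrix.ext hc, mul_zero, zero_mul]
    have h1 := hM 1 v
    rw [h0, Matrix.zero_mulVec, one_smul, huv, one_smul, B_comm Q u' v, hvu', zero_smul, sub_zero] at h1
    have h2 := hu'v'
    rw [← h1, B_zero_left Q] at h2
    exact zero_ne_one h2
  refine hF₀ (eq_top_iff.2 fun a _ => ?_)
  have h1 := hN a i j
  rw [show N a = a • N 1 by simp only [N, hlin a, Matrix.mul_smul, Matrix.smul_mul], Matrix.smul_apply,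
    smul_eq_mul] at h1
  rw [show a = a * N 1 i j * (N 1 i j)⁻¹ by rw [mul_inv_cancel_right₀ hij]]
  exact mul_mem h1 (inv_mem (hN 1 i j))

end Cfsg.Agent.Aschbacher.OrthEven
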