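import Cfsg.Agent.Lib.Aschbacher.OrthEven.Plus
import Cfsg.Agent.Lib.Aschbacher.OrthEven.NonContain
import Cfsg.Agent.Lib.MaxCl.OrthBetween

/-!
Steps shared by the lists of maximal subgroups of the even-dimensional orthogonal groups.
-/

set_option autoImplicit false
set_option linter.unusedSectionVars false

namespace Cfsg.Agent.Aschbacher.OrthEven

open Matrix
open scoped MatrixGroups
open Cfsg.Agent.MaxCl
open Module (finrank)

variable {ι : Type} [Fintype ι] [DecidableEq ι] {F : Type*} [Field F] [Fintype F]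
variable {Q : QuadraticForm F (ι → F)} (hQ : (QuadraticMap.polarBilin Q).Nondegenerate)
  (h5 : 5 ≤ Fintype.card ι)
include hQ

theorem nonDeg_of_on {W : Submodule F (ι → F)}
    (hW : Geo.IsNondegenerateOn (QuadraticMap.polar (⇑Q)) W) : Orth.NonDeg Q W := by
  intro x hx hall
  by_contra hne
  obtain ⟨y, hy, hy'⟩ := (hW x hx hne).2
  exact hy' (hall y hy)

/-- An odd-dimensional non-degenerate subspace needs odd characteristic. -/
theorem odd_card_of_odd_finrank {W : Submodule F (ι → F)}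
    (hW : Geo.IsNondegenerateOn (QuadraticMap.polar (⇑Q)) W) (hodd : Odd (finrank F W)) :
    Odd (Fintype.card F) := by
  by_contra hq
  have h2 := two_eq_zero_of_not_odd hq
  refine Nat.not_even_iff_odd.2 hodd (Forms.SympTwo.even_finrank_of_isAlt
    (β := (QuadraticMap.polarBilin Q).compl₁₂ W.subtype W.subtype) (fun x => ?_) fun x hx => ?_)
  · show QuadraticMap.polar (⇑Q) (x : ι → F) x = 0
    rw [Orth.B_self Q, h2, zero_mul]
  · by_contra hne
    obtain ⟨y, hy, hy'⟩ := (hW x x.2 fun h => hne (Subtype.ext h)).2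
    exact hy' (hx ⟨y, hy⟩)

include h5

theorem subspace_max {H : Subgroup (GL ι F)} (hH : Geo.IsMaximalIn (Geo.omegaGL (⇑Q)) H)
    {W : Submodule F (ι → F)} (h0 : 0 < finrank F W) (h1 : finrank F W < Fintype.card ι)
    (hle : H ≤ Geo.subspaceStabilizer W) : H = Geo.subspaceStabilizer W ⊓ Geo.omegaGL (⇑Q) := by
  refine eq_inf_of_maximal hH hle (omega_not_le_subspace hQ h5 (fun h => ?_) fun h => ?_)
  · rw [h, finrank_bot] at h0; omega
  · rw [h, finrank_top, Module.finrank_pi] at h1; omega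

theorem field_max {H : Subgroup (GL ι F)} (hH : Geo.IsMaximalIn (Geo.omegaGL (⇑Q)) H) {r : ℕ} (hr : 2 ≤ r)
    {K : Subalgebra F (Matrix ι ι F)} (hK : Geo.IsFieldSubalgebra r K)
    (hle : H ≤ Geo.subalgebraNormalizer K) : H = Geo.subalgebraNormalizer K ⊓ Geo.omegaGL (⇑Q) :=
  eq_inf_of_maximal hH hle (omega_not_le_field hQ h5 hr hK)

theorem subfield_max {H : Subgroup (GL ι F)} (hH : Geo.IsMaximalIn (Geo.omegaGL (⇑Q)) H) {F₀ : Subfield F}
    {r : ℕ} (hr : r.Prime) (hcard : Fintype.card F = Nat.card F₀ ^ r) {P : GL ι F}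
    (hle : H ≤ Geo.subfieldSubgroup F₀ P) : H = Geo.subfieldSubgroup F₀ P ⊓ Geo.omegaGL (⇑Q) := by
  refine eq_inf_of_maximal hH hle (omega_not_le_subfield hQ h5 (fun h => ?_) P)
  have h1 : Nat.card F₀ = Fintype.card F := by
    rw [← Nat.card_eq_fintype_card, h]
    exact Nat.card_congr (Equiv.subtypeUnivEquiv fun x => Subfield.mem_top x)
  rw [h1] at hcard
  exact hr.one_lt.ne' (Nat.pow_right_injective Fintype.one_lt_card (by simpa using hcard.symm))

theorem decomposition_max {H : Subgroup (GL ι F)} (hH : Geo.IsMaximalIn (Geo.omegaGL (⇑Q)) H) {t m : ℕ}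
    {D : Fin t → Submodule F (ι → F)} (hD : Geo.IsMDecomposition m D) (hm : 2 ≤ m)
    (h6 : m = 2 → 6 ≤ Fintype.card ι)
    (hle : H ≤ Geo.decompositionStabilizer D) : H = Geo.decompositionStabilizer D ⊓ Geo.omegaGL (⇑Q) :=
  eq_inf_of_maximal hH hle (omega_not_le_decomposition hQ h5 hD hm h6)

/-- The stabiliser of a plus-type plane over two or three elements is not maximal. -/
theorem four_le_of_plus_plane {H : Subgroup (GL ι F)} (hH : Geo.IsMaximalIn (Geo.omegaGL (⇑Q)) H)
    {W : Submodule F (ι → F)} (hW : Geo.IsNondegenerateOn (QuadraticMap.polar (⇑Q)) W)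
    (hd : finrank F W = 2) (hplus : Geo.IsPlusTypeOn (⇑Q) W)
    (heq : H = Geo.subspaceStabilizer W ⊓ Geo.omegaGL (⇑Q)) : 4 ≤ Fintype.card F := by
  by_contra hq
  obtain ⟨K, h1, h2⟩ := Orth.plane_between hQ h5 (by omega) (nonDeg_of_on hQ hW) hd hplus
  rcases hH.2 K (heq ▸ h1.le) h2.le with h | h
  · exact h1.ne (heq.symm.trans h.symm)
  · exact h2.ne h

theorem singular_ne_top {W : Submodule F (ι → F)} (hts : Geo.IsTotallySingularQuad (⇑Q) W) :
    finrank F W < Fintype.card ι := by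
  have h1 := Orth.two_mul_finrank_le_of_singular hQ hts
  omega

end Cfsg.Agent.Aschbacher.OrthEven
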