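import Cfsg.Agent.Lib.Aschbacher.OrthEven.Common

/-!
The maximal subgroups of the eight-dimensional orthogonal group of minus type.
-/

set_option autoImplicit false

namespace Cfsg.Agent.Aschbacher.OrthEven

open Matrix
open scoped MatrixGroups
open Cfsg.Agent.MaxCl
open Module (finrank)

theorem omega8minus_cases {F : Type*} [Field F] [Fintype F] (Q : (Fin 8 → F) → F) (hQ : Cfsg.Geo.IsNondegenerateQuadraticForm Q) (hminus : ¬ Cfsg.Geo.IsPlusTypeOn Q ⊤) (H : Subgroup (Matrix.GeneralLinearGroup (Fin 8) F)) (hH : Cfsg.Geo.IsMaximalIn (Cfsg.Geo.omegaGL Q) H) :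
    (∃ W : Submodule F (Fin 8 → F), W ≠ ⊥ ∧ Cfsg.Geo.IsTotallySingularQuad Q W ∧ H = Cfsg.Geo.subspaceStabilizer W ⊓ Cfsg.Geo.omegaGL Q) ∨
    (Odd (Fintype.card F) ∧ ∃ W : Submodule F (Fin 8 → F), W ≠ ⊥ ∧ W ≠ ⊤ ∧ Odd (Module.finrank F W) ∧ Cfsg.Geo.IsNondegenerateOn (QuadraticMap.polar Q) W ∧ H = Cfsg.Geo.subspaceStabilizer W ⊓ Cfsg.Geo.omegaGL Q) ∨
    (∃ W : Submodule F (Fin 8 → F), Module.finrank F W = 2 ∧ Cfsg.Geo.IsNondegenerateOn (QuadraticMap.polar Q) W ∧ ¬ Cfsg.Geo.IsPlusTypeOn Q W ∧ H = Cfsg.Geo.subspaceStabilizer W ⊓ Cfsg.Geo.omegaGL Q) ∨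
    (4 ≤ Fintype.card F ∧ ∃ W : Submodule F (Fin 8 → F), Module.finrank F W = 2 ∧ Cfsg.Geo.IsNondegenerateOn (QuadraticMap.polar Q) W ∧ Cfsg.Geo.IsPlusTypeOn Q W ∧ H = Cfsg.Geo.subspaceStabilizer W ⊓ Cfsg.Geo.omegaGL Q) ∨
    (∃ W : Submodule F (Fin 8 → F), Module.finrank F W = 4 ∧ Cfsg.Geo.IsNondegenerateOn (QuadraticMap.polar Q) W ∧ H = Cfsg.Geo.subspaceStabilizer W ⊓ Cfsg.Geo.omegaGL Q) ∨
    (¬ Odd (Fintype.card F) ∧ ∃ v : (Fin 8 → F), Q v ≠ 0 ∧ H = Cfsg.Geo.subspaceStabilizer (Submodule.span F {v}) ⊓ Cfsg.Geo.omegaGL Q) ∨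
    (∃ K : Subalgebra F (Matrix (Fin 8) (Fin 8) F), Cfsg.Geo.IsFieldSubalgebra 2 K ∧ H = Cfsg.Geo.subalgebraNormalizer K ⊓ Cfsg.Geo.omegaGL Q) ∨
    (∃ (F₀ : Subfield F) (r : ℕ) (P : Matrix.GeneralLinearGroup (Fin 8) F) (ζ : F), r.Prime ∧ Odd r ∧ Fintype.card F = Nat.card F₀ ^ r ∧ ζ ≠ 0 ∧ Cfsg.Geo.IsQuadFormRationalStructure (fun v : Fin 8 → F => ζ * Q v) F₀ P ∧ H = Cfsg.Geo.subfieldSubgroup F₀ P ⊓ Cfsg.Geo.omegaGL Q) ∨
    Cfsg.Geo.InOrthogonalResidualClass H := by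
  classical
  have h8 : Fintype.card (Fin 8) = 8 := Fintype.card_fin 8
  have h5 : 5 ≤ Fintype.card (Fin 8) := by omega
  obtain ⟨q, rfl, hq⟩ := Orth.exists_form hQ
  have hHI : H ≤ isometryGroup F (⇑q) := hH.1.le.trans Orth.omega_le_iso
  cases even_outcome_eight hQ h8 hminus hHI with
  | totallySingular W h0 hts hle =>
    exact Or.inl ⟨W, h0, hts, subspace_max hq h5 hH
      (Nat.pos_of_ne_zero fun h => h0 (Submodule.finrank_eq_zero.1 h)) (singular_ne_top hq h5 hts) hle⟩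
  | nonsingularPoint v hchar hv hle =>
    have hv0 : v ≠ 0 := fun h => hv (by rw [h, QuadraticMap.map_zero])
    exact Or.inr <| Or.inr <| Or.inr <| Or.inr <| Or.inr <| Or.inl ⟨hchar, v, hv, subspace_max hq h5 hH
      (by rw [finrank_span_singleton hv0]; exact one_pos) (by rw [finrank_span_singleton hv0]; omega) hle⟩
  | nondegenerate W h0 hnd hdim hle =>
    rw [h8] at hdim
    have hpos : 0 < finrank F W := Nat.pos_of_ne_zero fun h => h0 (Submodule.finrank_eq_zero.1 h)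
    have heq := subspace_max hq h5 hH hpos (by omega) hle
    rcases Nat.even_or_odd (finrank F W) with hev | hodd
    · have h2 : finrank F W = 2 := by obtain ⟨a, ha⟩ := hev; omega
      by_cases hp : Geo.IsPlusTypeOn (⇑q) W
      · exact Or.inr <| Or.inr <| Or.inr <| Or.inl
          ⟨four_le_of_plus_plane hq h5 hH hnd h2 hp heq, W, h2, hnd, hp, heq⟩
      · exact Or.inr <| Or.inr <| Or.inl ⟨W, h2, hnd, hp, heq⟩
    · refine Or.inr <| Or.inl ⟨odd_card_of_odd_finrank hq hnd hodd, W, h0, ?_, hodd, hnd, heq⟩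
      rintro rfl
      rw [finrank_top, Module.finrank_pi] at hdim
      omega
  | halves D k hk hD hle =>
    have h4 : finrank F (D 0) = 4 := by rw [hD.decomp.finrank_eq]; omega
    exact Or.inr <| Or.inr <| Or.inr <| Or.inr <| Or.inl ⟨D 0, h4, hD.nondegenerate 0,
      subspace_max hq h5 hH (by omega) (by omega) (hle 0)⟩
  | decomposition t m D hD hline hle =>
    exfalso
    have hcard := card_eq_of_isMDecomposition hD.decomp.decomp
    have ht := hD.decomp.decomp.two_le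
    have hm := hD.decomp.decomp.pos
    rw [h8] at hcard
    have ht8 : t ≤ 8 := Nat.le_of_dvd (by norm_num) ⟨m, hcard⟩
    refine hminus (plus_of_orth_decomposition hQ hD ?_ ?_)
    · interval_cases t <;> first | decide | omega
    · interval_cases t <;> first | exact Or.inl (by decide) | exact Or.inr ⟨2, by omega⟩
  | pair k D hk hD hts hle =>
    exfalso
    refine hminus ⟨D 0, le_top, hts 0, ?_⟩
    rw [finrank_top, Module.finrank_pi, hD.finrank_eq, hk]
  | field r K hr hne hK hsa hle =>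
    obtain rfl : r = 2 := (Nat.prime_dvd_prime_iff_eq hr Nat.prime_two).1
      (hr.dvd_of_dvd_pow (n := 3) (by
        have := dvd_card_of_isFieldSubalgebra hK
        rwa [h8] at this))
    exact Or.inr <| Or.inr <| Or.inr <| Or.inr <| Or.inr <| Or.inr <| Or.inl
      ⟨K, hK, field_max hq h5 hH le_rfl hK hle⟩
  | unitaryField K hK hcl hns hsim hle =>
    exact Or.inr <| Or.inr <| Or.inr <| Or.inr <| Or.inr <| Or.inr <| Or.inl
      ⟨K, hK, field_max hq h5 hH le_rfl hK hle⟩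
  | tensorSymm n₁ n₂ e P f₁ f₂ hodd h3 h12 hf₁ hf₂ hstr hle =>
    exfalso
    have hcard : Fintype.card (Fin 8) = n₁ * n₂ := by simpa using Fintype.card_congr e
    nlinarith
  | tensorAlt n₁ n₂ e P f₁ f₂ h2 h12 hf₁ hf₂ hstr hvan hle =>
    exfalso
    have hcard : Fintype.card (Fin 8) = n₁ * n₂ := by simpa using Fintype.card_congr e
    obtain rfl : n₁ = 2 := by nlinarith
    exact hminus (plus_of_tensor e P hvan)
  | subfield F₀ r P ζ hr hcard hζ hrat hle =>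
    have hr2 : r ≠ 2 := by
      rintro rfl
      exact hminus (plus_of_index_two hQ (by rw [h8]; decide) hζ hcard hrat)
    exact Or.inr <| Or.inr <| Or.inr <| Or.inr <| Or.inr <| Or.inr <| Or.inr <| Or.inl
      ⟨F₀, r, P, ζ, hr, hr.odd_of_ne_two hr2, hcard, hζ, hrat, subfield_max hq h5 hH hr hcard hle⟩
  | residual hres => exact Or.inr <| Or.inr <| Or.inr <| Or.inr <| Or.inr <| Or.inr <| Or.inr <| Or.inr hres

end Cfsg.Agent.Aschbacher.OrthEven
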