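import Cfsg.Agent.Lib.Aschbacher.OrthEven.Common
import Cfsg.Agent.Lib.Aschbacher.FieldInvolution
import Cfsg.Agent.Lib.MaxCl.OrthExtGeom
import Cfsg.Agent.Lib.MaxCl.FieldSubalgebra
import Cfsg.Agent.Lib.MaxCl.OrthBlockVal

/-!
Fields acting on a quadratic space of dimension twice an odd number: no quadratic field of similitudes in plus
type, no self-adjoint quadratic field in characteristic two, and a self-adjoint field over which the space is a
plane gives a totally singular pair or a quadratic field of similitudes.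
-/

set_option autoImplicit false
set_option linter.unusedSectionVars false
set_option maxHeartbeats 1000000
set_option synthInstance.maxHeartbeats 80000
set_option linter.style.haveILetI false
set_option linter.unusedVariables false

namespace Cfsg.Agent.Aschbacher.OrthEven

open Matrix
open scoped MatrixGroups
open Cfsg.Agent.MaxCl
open Module (finrank)

variable {ι : Type} [Fintype ι] [DecidableEq ι] {F : Type*} [Field F] [Fintype F]
variable {Q : QuadraticForm F (ι → F)}

set_option quotPrecheck false in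
local notation "B" => QuadraticMap.polar (⇑Q)

/-- A quadratic space of plus type in dimension twice an odd number has no quadratic field of similitudes. -/
theorem no_similar_field_plus (hQ : (QuadraticMap.polarBilin Q).Nondegenerate) [Nonempty ι] {n : ℕ}
    (hn : Fintype.card ι = 2 * n) (hodd : Odd n) (hplus : Geo.IsPlusTypeOn (⇑Q) ⊤)
    {K : Subalgebra F (Matrix ι ι F)} (hK : Geo.IsFieldSubalgebra 2 K)
    (hsim : ∀ k ∈ K, ∃ c : F, ∀ v, Q (k *ᵥ v) = c * Q v) : False := by
  classical
  obtain ⟨X, -, hX, hXd⟩ := hplus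
  rw [finrank_top, Module.finrank_pi] at hXd
  letI : Field K := (isField_of_isFieldSubalgebra hK).toField
  letI : Module K (ι → F) :=
    { smul := fun a v => (a : Matrix ι ι F) *ᵥ v
      one_smul := fun v => Matrix.one_mulVec v
      mul_smul := fun a b v => (Matrix.mulVec_mulVec v (a : Matrix ι ι F) (b : Matrix ι ι F)).symm
      smul_zero := fun a => Matrix.mulVec_zero _
      smul_add := fun a v w => Matrix.mulVec_add _ _ _
      add_smul := fun a b v => Matrix.add_mulVec _ _ _
      zero_smul := fun v => Matrix.zero_mulVec v }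
  haveI : IsScalarTower F K (ι → F) := ⟨fun c k v => Matrix.smul_mulVec c (k : Matrix ι ι F) v⟩
  have hsmul : ∀ (k : K) (v : ι → F), k • v = (k : Matrix ι ι F) *ᵥ v := fun k v => rfl
  obtain ⟨k, hk⟩ := ExtF.exists_not_scalar (F := F) (K := K) (by
    rw [show finrank F K = 2 from hK.finrank_eq]; omega)
  have hk0 : k ≠ 0 := fun h => hk 0 (by rw [h, map_zero])
  let mapX : K → Submodule F (ι → F) := fun l => X.map (Algebra.lsmul F F (ι → F) l)
  have hts : ∀ l : K, ∀ x ∈ mapX l, Q x = 0 := by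
    rintro l _ ⟨x, hx, rfl⟩
    obtain ⟨c, hc⟩ := hsim _ l.2
    show Q ((l : Matrix ι ι F) *ᵥ x) = 0
    rw [hc, hX x hx, mul_zero]
  have hinj : ∀ l : K, l ≠ 0 → Function.Injective (Algebra.lsmul F F (ι → F) l) := fun l hl x y hxy => by
    simpa [hl] using congrArg (l⁻¹ • ·) (show l • x = l • y from hxy)
  have hdim : ∀ l : K, l ≠ 0 → finrank F (mapX l) = n := fun l hl => by
    rw [← (Submodule.equivMapOfInjective _ (hinj l hl) X).finrank_eq]; omega
  have hcomp : ∀ l l' : K, mapX (l * l') = (mapX l').map (Algebra.lsmul F F (ι → F) l) := fun l l' => by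
    show X.map _ = (X.map _).map _
    rw [← Submodule.map_comp]
    congr 1
    exact LinearMap.ext fun x => mul_smul l l' x
  -- a translate meets `X` in a space over the field
  have heven : ∀ l : K, (∀ c : F, algebraMap F K c ≠ l) → Even (finrank F ↥(X ⊓ mapX l)) := by
    intro l hl
    set R := X ⊓ mapX l
    have hgen : ∀ z : K, ∃ a b : F, z = algebraMap F K a + algebraMap F K b * l := by
      have hli : LinearIndependent F ![(1 : K), l] := LinearIndependent.pair_iff.2 fun a b hab => by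
        by_cases hb : b = 0
        · rw [hb, zero_smul, add_zero] at hab
          exact ⟨(smul_eq_zero.1 hab).resolve_right one_ne_zero, hb⟩
        · refine absurd ?_ (hl (-(a / b)))
          rw [Algebra.algebraMap_eq_smul_one, neg_smul, div_eq_inv_mul, mul_smul,
            eq_neg_of_add_eq_zero_left hab, smul_neg, neg_neg, smul_smul, inv_mul_cancel₀ hb, one_smul]
      have hsp : Submodule.span F (Set.range ![(1 : K), l]) = ⊤ := Submodule.eq_top_of_finrank_eq (by
        rw [finrank_span_eq_card hli, Fintype.card_fin, show finrank F K = 2 from hK.finrank_eq])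
      intro z
      obtain ⟨c, hc⟩ := (Submodule.mem_span_range_iff_exists_fun F).1 (hsp.ge (Submodule.mem_top (x := z)))
      refine ⟨c 0, c 1, ?_⟩
      rw [← hc, Fin.sum_univ_two]
      simp [Algebra.smul_def]
    obtain ⟨a, b, hab⟩ := hgen (l * l)
    have hstab : ∀ (z : K), ∀ x ∈ R, z • x ∈ R := by
      intro z x hx
      obtain ⟨hxX, y, hy, rfl⟩ := hx
      obtain ⟨p, r, rfl⟩ := hgen z
      have h1 : l • (l • y : ι → F) = a • y + b • (l • y) := by
        rw [smul_smul, hab, add_smul, mul_smul, algebraMap_smul, algebraMap_smul]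
      change (algebraMap F K p + algebraMap F K r * l) • (l • y : ι → F) ∈ R
      rw [add_smul, mul_smul, algebraMap_smul, algebraMap_smul]
      have hmem : (l • y : ι → F) ∈ R := ⟨hxX, ⟨y, hy, rfl⟩⟩
      refine R.add_mem (R.smul_mem _ hmem) (R.smul_mem _ ⟨?_, ⟨l • y, hxX, rfl⟩⟩)
      rw [h1]
      exact X.add_mem (X.smul_mem a hy) (X.smul_mem b hxX)
    let R' : Submodule K (ι → F) :=
      { carrier := R, add_mem' := fun hx hy => R.add_mem hx hy, zero_mem' := R.zero_mem,
        smul_mem' := fun z x hx => hstab z x hx }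
    haveI : Module.Free K R' := Module.Free.of_divisionRing K R'
    have h := Module.finrank_mul_finrank F K R'
    rw [show finrank F K = 2 from hK.finrank_eq] at h
    exact ⟨finrank K R', by rw [← two_mul, h]; exact rfl⟩
  have hk1 : ∀ c : F, algebraMap F K c ≠ k + 1 := fun c h => hk (c - 1) (by rw [map_sub, map_one, h]; ring)
  have hk10 : k + 1 ≠ 0 := fun h => hk1 0 (by rw [h, map_zero])
  have hk2 : ∀ c : F, algebraMap F K c ≠ k⁻¹ * (k + 1) := fun c h => by
    have h' : algebraMap F K (c - 1) = k⁻¹ := by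
      rw [map_sub, map_one, h]; field_simp; ring
    exact hk (c - 1)⁻¹ (by rw [map_inv₀, h', inv_inv])
  have hpar := QForm.finrank_inf_parity hQ (Orth.card_eq_finrank hQ hn) hX (by omega : finrank F X = n)
    (hts k) (hdim k hk0) (hts (k + 1)) (hdim _ hk10)
  have h3 : finrank F ↥(mapX k ⊓ mapX (k + 1)) = finrank F ↥(X ⊓ mapX (k⁻¹ * (k + 1))) := by
    rw [show k + 1 = k * (k⁻¹ * (k + 1)) by field_simp, hcomp, show k⁻¹ * (k * (k⁻¹ * (k + 1))) = k⁻¹ * (k + 1)
      by field_simp]
    show finrank F ↥(X.map _ ⊓ _) = _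
    rw [← Submodule.map_inf _ (hinj k hk0)]
    exact (Submodule.equivMapOfInjective _ (hinj k hk0) _).finrank_eq.symm
  obtain ⟨e1, he1⟩ := heven k hk
  obtain ⟨e2, he2⟩ := heven (k + 1) hk1
  obtain ⟨e3, he3⟩ := heven _ hk2
  obtain ⟨m, hm⟩ := hodd
  rw [h3, he1, he2, he3] at hpar
  omega

/-- A self-adjoint field in characteristic two has even codimension. -/
theorem no_selfAdjoint_field_two (hQ : (QuadraticMap.polarBilin Q).Nondegenerate) [Nonempty ι]
    (h2 : (2 : F) = 0) {r n : ℕ} (hn : Fintype.card ι = r * n) (hodd : Odd n) {K : Subalgebra F (Matrix ι ι F)}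
    (hK : Geo.IsFieldSubalgebra r K) (hsa : Geo.IsSelfAdjointFor (QuadraticMap.polar (⇑Q)) K) : False := by
  classical
  letI : Field K := (isField_of_isFieldSubalgebra hK).toField
  letI : Module K (ι → F) :=
    { smul := fun a v => (a : Matrix ι ι F) *ᵥ v
      one_smul := fun v => Matrix.one_mulVec v
      mul_smul := fun a b v => (Matrix.mulVec_mulVec v (a : Matrix ι ι F) (b : Matrix ι ι F)).symm
      smul_zero := fun a => Matrix.mulVec_zero _
      smul_add := fun a v w => Matrix.mulVec_add _ _ _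
      add_smul := fun a b v => Matrix.add_mulVec _ _ _
      zero_smul := fun v => Matrix.zero_mulVec v }
  haveI : IsScalarTower F K (ι → F) := ⟨fun c k v => Matrix.smul_mulVec c (k : Matrix ι ι F) v⟩
  haveI : Fintype K := Fintype.ofFinite K
  haveI : Module.Finite K (ι → F) := Module.Finite.of_finite
  have hsa' : ∀ (k : K) (x y : ι → F), B (k • x) y = B x (k • y) := fun k x y => hsa _ k.2 x y
  have hsquare : ∀ k : K, ∃ l : K, k = l * l := fun k => by
    have h2K : (2 : K) = 0 := by rw [← map_ofNat (algebraMap F K) 2, h2, map_zero]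
    haveI : CharP K 2 := CharTwo.of_one_ne_zero_of_two_eq_zero one_ne_zero h2K
    exact FiniteField.isSquare_of_char_two (ringChar.eq K 2) k
  have halt : ∀ (k : K) (x : ι → F), B (k • x) x = 0 := fun k x => by
    obtain ⟨l, rfl⟩ := hsquare k
    rw [mul_smul, hsa', Orth.B_self Q, h2, zero_mul]
  have hf : Geo.IsSymplecticForm (QuadraticMap.polar (⇑Q)) := by
    refine ⟨⟨fun x y z => Orth.B_add_left Q x y z, fun c x z => Orth.B_smul_left Q c x z,
      fun z x y => Orth.B_add_right Q z x y, fun c z x => Orth.B_smul_right Q c z x⟩,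
      fun x y => by rw [Orth.B_comm Q y x, neg_eq_self_of_two_eq_zero h2],
      fun x => by rw [Orth.B_self Q, h2, zero_mul], fun x hx => ?_⟩
    obtain ⟨y, hy⟩ := Orth.exists_B_ne_zero hQ hx
    exact ⟨⟨y, by rwa [Orth.B_comm Q]⟩, y, hy⟩
  obtain ⟨Φ, hΦ⟩ := SpExt.exists_kform hf hsa' halt
  have h := Forms.SympTwo.even_finrank_of_isAlt (β := Φ) hΦ.alt fun x hx => by
    by_contra hne
    obtain ⟨y, hy⟩ := SpExt.exists_ne hΦ hf hne
    exact hy (hx y)
  have h1 := Module.finrank_mul_finrank F K (ι → F)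
  rw [show finrank F K = r from hK.finrank_eq, Module.finrank_pi, hn] at h1
  rw [Nat.eq_of_mul_eq_mul_left (by have := hK.finrank_eq ▸ (Module.finrank_pos (R := F) (M := K)); omega) h1]
    at h
  exact Nat.not_even_iff_odd.2 hodd h

/-- A quadratic function over a self-adjoint field whose trace is the quadratic form. -/
theorem exists_field_quad (hQ : (QuadraticMap.polarBilin Q).Nondegenerate) {K : Type*} [Field K] [Algebra F K]
    [Module K (ι → F)] [IsScalarTower F K (ι → F)] [Module.Finite F K]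
    (hsa : ∀ (k : K) (x y : ι → F), B (k • x) y = B x (k • y)) :
    ∃ (q : (ι → F) → K) (Φ : (ι → F) →ₗ[K] (ι → F) →ₗ[K] K),
      (∀ (m : K) x, Algebra.trace F K (m * m * q x) = Q (m • x)) ∧
      (∀ (l : K) x, q (l • x) = l * l * q x) ∧ (∀ x y, q (x + y) = q x + q y + Φ x y) ∧
      (∀ x y, Φ x y = Φ y x) ∧ (∀ x, x ≠ 0 → ∃ y, Φ x y ≠ 0) ∧
      (∀ (c : K) x y, Algebra.trace F K (c * Φ x y) = B (c • x) y) ∧
      ∀ c : K, ∃ s t : K, c = s * s + t * t := by
  classical
  haveI : Finite K := Module.finite_of_finite F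
  haveI : Fintype K := Fintype.ofFinite K
  have hcase : (∃ h : (2 : F) = 0, ∀ k : K, ∃ l : K, k = l * l) ∨ (2 : F) ≠ 0 := by
    by_cases h2 : (2 : F) = 0
    · refine Or.inl ⟨h2, fun k => ?_⟩
      have h2K : (2 : K) = 0 := by rw [← map_ofNat (algebraMap F K) 2, h2, map_zero]
      haveI : CharP K 2 := CharTwo.of_one_ne_zero_of_two_eq_zero one_ne_zero h2K
      exact FiniteField.isSquare_of_char_two (ringChar.eq K 2) k
    · exact Or.inr h2
  have hsum : ∀ c : K, ∃ s t : K, c = s * s + t * t := by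
    intro c
    rcases hcase with ⟨-, hs⟩ | h2
    · obtain ⟨l, hl⟩ := hs c
      exact ⟨l, 0, by rw [hl]; ring⟩
    · have h2K : (2 : K) ≠ 0 := by
        rw [← map_ofNat (algebraMap F K) 2]; exact (map_ne_zero _).2 h2
      obtain ⟨s, t, h⟩ := Orth.exists_two_squares h2K (a := (1 : K)) (b := 1) one_ne_zero one_ne_zero c
      exact ⟨s, t, by linear_combination -h⟩
  have hlin : ∀ x, ∃ a : K, ∀ m : K, Algebra.trace F K (m * m * a) = Q (m • x) := by
    intro x
    suffices hl : ∃ l : K →ₗ[F] F, ∀ m, l (m * m) = Q (m • x) by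
      obtain ⟨l, hl⟩ := hl
      obtain ⟨a, ha⟩ := SpExt.exists_trace_repr (F := F) l
      exact ⟨a, fun m => (ha _).symm.trans (hl m)⟩
    rcases hcase with ⟨h2, hs⟩ | h2
    · choose rt hrt using hs
      have h2K : (2 : K) = 0 := by rw [← map_ofNat (algebraMap F K) 2, h2, map_zero]
      have huniq : ∀ a b : K, a * a = b * b → a = b := fun a b hab => by
        have : (a - b) * (a - b) = 0 := by linear_combination hab + (b * b - a * b) * h2K
        exact sub_eq_zero.1 (mul_self_eq_zero.1 this)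
      have hrt' : ∀ m, rt (m * m) = m := fun m => huniq _ _ (hrt _).symm
      have halt : ∀ a b : K, B (a • x) (b • x) = 0 := fun a b => by
        rw [← hrt' (a : K)]
        have h1 : B ((a * b) • x) x = 0 := by
          rw [hrt (a * b), mul_smul, hsa, Orth.B_self Q, h2, zero_mul]
        rw [hrt', hsa, smul_smul, ← hsa]
        exact h1
      refine ⟨{ toFun := fun k => Q (rt k • x), map_add' := fun a b => ?_, map_smul' := fun c a => ?_ },
        fun m => by show Q (rt (m * m) • x) = _; rw [hrt']⟩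
      · have : rt (a + b) = rt a + rt b := huniq _ _ (by
          rw [← hrt]; linear_combination hrt a + hrt b - (rt a * rt b) * h2K)
        rw [this, add_smul, Orth.Q_add Q, halt, add_zero]
      · haveI : CharP F 2 := CharTwo.of_one_ne_zero_of_two_eq_zero one_ne_zero h2
        obtain ⟨d, hd⟩ := FiniteField.isSquare_of_char_two (ringChar.eq F 2) c
        have : rt (c • a) = d • rt a := huniq _ _ (by
          rw [← hrt, hd, smul_mul_smul_comm, ← hrt])
        rw [this, smul_assoc, Orth.Q_smul Q, RingHom.id_apply, smul_eq_mul, hd]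
    · refine ⟨{ toFun := fun k => B (k • x) x / 2, map_add' := fun a b => ?_, map_smul' := fun c a => ?_ },
        fun m => ?_⟩
      · rw [add_smul, Orth.B_add_left Q, add_div]
      · rw [smul_assoc, Orth.B_smul_left Q, RingHom.id_apply, smul_eq_mul, mul_div_assoc]
      · show B ((m * m) • x) x / 2 = _
        rw [mul_smul, hsa, Orth.B_self Q, mul_div_assoc, mul_comm, div_mul_cancel₀ _ h2]
  choose q hq using hlin
  have hext : ∀ a b : K, (∀ m : K, Algebra.trace F K (m * m * a) = Algebra.trace F K (m * m * b)) → a = b :=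
    fun a b h => SpExt.ext_trace (F := F) fun c => by
      obtain ⟨s, t, rfl⟩ := hsum c
      rw [add_mul, add_mul, map_add, map_add, h s, h t]
  obtain ⟨Φ, htr, hsym⟩ := OExt.exists_kform (K := K) (Q := Q) hsa
  have htrc : ∀ (c : K) x y, Algebra.trace F K (c * Φ x y) = B (c • x) y := fun c x y => by
    rw [← htr (c • x) y, map_smul, LinearMap.smul_apply, smul_eq_mul]
  refine ⟨q, Φ, fun m x => hq x m, fun l x => hext _ _ fun m => ?_, fun x y => hext _ _ fun m => ?_, hsym,
    fun x hx => ?_, htrc, hsum⟩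
  · rw [hq, show m * m * (l * l * q x) = m * l * (m * l) * q x by ring, hq, smul_smul]
  · rw [hq, mul_add, mul_add, map_add, map_add, hq, hq, htrc, smul_add, Orth.Q_add Q, mul_smul, hsa m (m • x)]
  · obtain ⟨y, hy⟩ := Orth.exists_B_ne_zero hQ hx
    exact ⟨y, fun h => hy (by rw [← htr, h, map_zero])⟩

/-- A self-adjoint field over which the space is a plane: a totally singular pair or a quadratic field of
similitudes. -/
theorem plane_field_cases (hG : Geo.IsNondegenerateQuadraticForm (⇑Q)) [Nonempty ι] {r : ℕ} (hr : Odd r)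
    (hn : Fintype.card ι = 2 * r) {H : Subgroup (GL ι F)} (hHI : H ≤ isometryGroup F (⇑Q))
    {K : Subalgebra F (Matrix ι ι F)} (hK : Geo.IsFieldSubalgebra r K)
    (hsa : Geo.IsSelfAdjointFor (QuadraticMap.polar (⇑Q)) K) (hle : H ≤ Geo.subalgebraNormalizer K) :
    (∃ D : Fin 2 → Submodule F (ι → F), Geo.IsMDecomposition r D ∧ (∀ i, ∀ x ∈ D i, Q x = 0) ∧
      H ≤ Geo.decompositionStabilizer D) ∨
    ∃ K₂ : Subalgebra F (Matrix ι ι F), Geo.IsFieldSubalgebra 2 K₂ ∧
      Geo.IsAdjointClosedFor (QuadraticMap.polar (⇑Q)) K₂ ∧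
      ¬ Geo.IsSelfAdjointFor (QuadraticMap.polar (⇑Q)) K₂ ∧
      (∀ z ∈ K₂, ∃ c : F, ∀ v, Q (z *ᵥ v) = c * Q v) ∧ H ≤ Geo.subalgebraNormalizer K₂ := by
  classical
  have hQ : (QuadraticMap.polarBilin Q).Nondegenerate := by
    obtain ⟨q', hq', hq⟩ := Orth.exists_form hG
    rwa [DFunLike.coe_injective hq'] at hq
  letI : Field K := (isField_of_isFieldSubalgebra hK).toField
  letI : Module K (ι → F) :=
    { smul := fun a v => (a : Matrix ι ι F) *ᵥ v
      one_smul := fun v => Matrix.one_mulVec v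
      mul_smul := fun a b v => (Matrix.mulVec_mulVec v (a : Matrix ι ι F) (b : Matrix ι ι F)).symm
      smul_zero := fun a => Matrix.mulVec_zero _
      smul_add := fun a v w => Matrix.mulVec_add _ _ _
      add_smul := fun a b v => Matrix.add_mulVec _ _ _
      zero_smul := fun v => Matrix.zero_mulVec v }
  haveI : IsScalarTower F K (ι → F) := ⟨fun c k v => Matrix.smul_mulVec c (k : Matrix ι ι F) v⟩
  haveI : Fintype K := Fintype.ofFinite K
  haveI : Module.Finite K (ι → F) := Module.Finite.of_finite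
  haveI : Module.Free K (ι → F) := Module.Free.of_divisionRing K _
  have hKv : ∀ (k : K) (v : ι → F), k • v = (k : Matrix ι ι F) *ᵥ v := fun k v => rfl
  obtain ⟨q, Φ, htr, hqs, hqa, hsym, hnd, htrc, hsum⟩ :=
    exists_field_quad (Q := Q) hQ (K := K) fun k x y => hsa _ k.2 x y
  have hΦs : ∀ x, Φ x x = 2 * q x := fun x => by
    have h1 := hqa x x
    rw [← two_smul K x, hqs] at h1
    linear_combination -h1
  have hq0 : q 0 = 0 := by
    have h1 := hqs 0 0
    rwa [zero_smul, mul_zero, zero_mul] at h1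
  have hQq : ∀ x, Q x = Algebra.trace F K (q x) := fun x => by
    have := htr 1 x; rw [one_smul, one_mul, one_mul] at this; exact this.symm
  have hdim : finrank K (ι → F) = 2 := by
    have h1 := Module.finrank_mul_finrank F K (ι → F)
    rw [show finrank F K = r from hK.finrank_eq, Module.finrank_pi, hn, mul_comm 2 r] at h1
    exact Nat.eq_of_mul_eq_mul_left hr.pos h1
  -- conjugates of the field
  have hconj : ∀ g ∈ H, ∀ k : K, ∃ k' : K, ∀ x : ι → F,
      k' • ((g : Matrix ι ι F) *ᵥ x) = (g : Matrix ι ι F) *ᵥ (k • x) := fun g hg k =>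
    ⟨⟨_, ((hle hg) k).1 k.2⟩, fun x => by
      rw [hKv, hKv, Matrix.mulVec_mulVec, Matrix.mulVec_mulVec, mul_assoc, Units.inv_mul, mul_one]⟩
  by_cases hiso : ∃ x, x ≠ 0 ∧ q x = 0
  · -- two singular lines
    left
    obtain ⟨x, hx0, hx⟩ := hiso
    obtain ⟨w, hw⟩ := hnd x hx0
    obtain ⟨w, hw⟩ : ∃ w, Φ x w = 1 := ⟨(Φ x w)⁻¹ • w, by rw [map_smul, smul_eq_mul, inv_mul_cancel₀ hw]⟩
    have hxx : Φ x x = 0 := by rw [hΦs, hx, mul_zero]
    set y := w + (-q w) • x with hy'
    have hxy : Φ x y = 1 := by rw [hy', map_add, map_smul, hw, hxx]; simp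
    have hy : q y = 0 := by
      rw [hy', hqa, hqs, hx, map_smul, hsym w x, hw, smul_eq_mul]; ring
    have hyy : Φ y y = 0 := by rw [hΦs, hy, mul_zero]
    have hcomb : ∀ s t : K, q (s • x + t • y) = s * t := fun s t => by
      rw [hqa, hqs, hqs, hx, hy, LinearMap.map_smul Φ s x, LinearMap.smul_apply, map_smul, hxy]
      simp only [smul_eq_mul]; ring
    have hind : ∀ s t : K, s • x + t • y = 0 → s = 0 ∧ t = 0 := fun s t hst => by
      refine ⟨?_, ?_⟩
      · have := congrArg (Φ y) hst
        rw [map_add, map_smul, map_smul, map_zero, hsym y x, hxy, hyy] at this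
        simpa using this
      · have := congrArg (Φ x) hst
        rw [map_add, map_smul, map_smul, map_zero, hxx, hxy] at this
        simpa using this
    let bas : Module.Basis (Fin 2) K (ι → F) := basisOfLinearIndependentOfCardEqFinrank
      (b := ![x, y]) (LinearIndependent.pair_iff.2 hind) (by rw [hdim, Fintype.card_fin])
    have hrep : ∀ v : ι → F, ∃ s t : K, v = s • x + t • y := fun v => ⟨bas.repr v 0, bas.repr v 1, by
      conv_lhs => rw [← bas.sum_repr v]
      simp [bas, Fin.sum_univ_two]⟩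
    let line : (ι → F) → Submodule F (ι → F) := fun u => LinearMap.range (evalAt K u)
    have hline : ∀ u v : ι → F, v ∈ line u ↔ ∃ s : K, v = s • u := fun u v =>
      ⟨fun ⟨s, hs⟩ => ⟨s, hs.symm⟩, fun ⟨s, hs⟩ => ⟨s, hs.symm⟩⟩
    let D : Fin 2 → Submodule F (ι → F) := ![line x, line y]
    have hDx : ∀ i, ∃ u, u ≠ 0 ∧ q u = 0 ∧ D i = line u := by
      intro i
      fin_cases i
      · exact ⟨x, hx0, hx, rfl⟩
      · exact ⟨y, fun h => by simp [h] at hxy, hy, rfl⟩
    have hsing : ∀ v, q v = 0 → ∃ i, v ∈ D i := fun v hv => by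
      obtain ⟨s, t, rfl⟩ := hrep v
      rw [hcomb] at hv
      rcases mul_eq_zero.1 hv with rfl | rfl
      · exact ⟨1, (hline _ _).2 ⟨t, by rw [zero_smul, zero_add]⟩⟩
      · exact ⟨0, (hline _ _).2 ⟨s, by rw [zero_smul, add_zero]⟩⟩
    have hdisj : Disjoint (line x) (line y) := Submodule.disjoint_def.2 fun v h1 h2 => by
      obtain ⟨s, rfl⟩ := (hline _ _).1 h1
      obtain ⟨t, ht⟩ := (hline _ _).1 h2
      rw [(hind s (-t) (by rw [neg_smul, ht, add_neg_cancel])).1, zero_smul]
    have hdec : Geo.IsMDecomposition r D := by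
      refine ⟨le_rfl, hr.pos, fun i => ?_, ?_, ?_⟩
      · obtain ⟨u, hu0, -, hDu⟩ := hDx i
        rw [hDu]
        exact (LinearMap.finrank_range_of_inj (evalAt_injective hK hu0)).trans hK.finrank_eq
      · intro i
        fin_cases i
        · refine hdisj.mono_right (iSup₂_le fun j hj => ?_)
          fin_cases j <;> [exact absurd rfl hj; exact le_rfl]
        · refine hdisj.symm.mono_right (iSup₂_le fun j hj => ?_)
          fin_cases j <;> [exact le_rfl; exact absurd rfl hj]
      · refine eq_top_iff.2 fun v _ => ?_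
        obtain ⟨s, t, rfl⟩ := hrep v
        exact Submodule.add_mem _ (Submodule.mem_iSup_of_mem 0 ((hline _ _).2 ⟨s, rfl⟩))
          (Submodule.mem_iSup_of_mem 1 ((hline _ _).2 ⟨t, rfl⟩))
    refine ⟨D, hdec, fun i v hv => ?_, fun g hg => ?_⟩
    · obtain ⟨u, -, hu, hDu⟩ := hDx i
      rw [hDu] at hv
      obtain ⟨s, rfl⟩ := (hline _ _).1 hv
      rw [hQq, hqs, hu, mul_zero, map_zero]
    -- the singular set is invariant
    have hqg : ∀ v, q v = 0 → q ((g : Matrix ι ι F) *ᵥ v) = 0 := fun v hv => by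
      refine SpExt.ext_trace (F := F) fun c => ?_
      obtain ⟨s, t, rfl⟩ := hsum c
      have key : ∀ m : K, Algebra.trace F K (m * m * q ((g : Matrix ι ι F) *ᵥ v)) = 0 := fun m => by
        obtain ⟨k', hk'⟩ := hconj g⁻¹ (H.inv_mem hg) m
        have h1 : m • ((g : Matrix ι ι F) *ᵥ v) = (g : Matrix ι ι F) *ᵥ (k' • v) := by
          have h2 := hk' ((g : Matrix ι ι F) *ᵥ v)
          rw [inv_mulVec] at h2
          rw [h2, mulVec_inv]
        rw [htr, h1, ← act_apply, Orth.Q_act (hHI hg), ← htr, hv, mul_zero, map_zero]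
      rw [add_mul, map_add, key, key, mul_zero, map_zero, add_zero]
    have hmap : ∀ i, ∃ j, translate g (D i) = D j := fun i => by
      obtain ⟨u, hu0, hu, hDu⟩ := hDx i
      obtain ⟨j, hj⟩ := hsing _ (hqg u hu)
      refine ⟨j, Submodule.eq_of_le_of_finrank_eq (fun v hv => ?_) ?_⟩
      · obtain ⟨z, hz, rfl⟩ := mem_translate.1 hv
        rw [hDu] at hz
        obtain ⟨s, rfl⟩ := (hline _ _).1 hz
        obtain ⟨k', hk'⟩ := hconj g hg s
        rw [← hk']
        obtain ⟨u', -, -, hDu'⟩ := hDx j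
        rw [hDu'] at hj ⊢
        obtain ⟨t, ht⟩ := (hline _ _).1 hj
        exact (hline _ _).2 ⟨k' * t, by rw [ht, smul_smul]⟩
      · rw [finrank_translate, hdec.finrank_eq, hdec.finrank_eq]
    choose π hπ using hmap
    have hπi : Function.Injective π := fun i j hij => by
      refine hdec.indep.injective (fun l hl => ?_) (Submodule.map_injective_of_injective
        (f := Matrix.toLin' (g : Matrix ι ι F)) (fun a b hab => by
          simpa [inv_mulVec] using congrArg (((g⁻¹ : GL ι F) : Matrix ι ι F) *ᵥ ·) hab)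
        ((hπ i).trans (hij ▸ (hπ j).symm)))
      have := hdec.finrank_eq l
      rw [hl, finrank_bot] at this
      exact hr.pos.ne this
    exact ⟨Equiv.ofBijective π (Finite.injective_iff_bijective.1 hπi), hπ⟩
  -- anisotropic over the field: a field of twice the degree
  right
  push Not at hiso
  obtain ⟨u, hu0⟩ := exists_ne (0 : ι → F)
  obtain ⟨w, hw⟩ : ∃ w, w ∉ Submodule.span K {u} := by
    by_contra hc
    push Not at hc
    have h1 := finrank_span_singleton (K := K) hu0
    rw [show Submodule.span K {u} = (⊤ : Submodule K (ι → F)) from eq_top_iff.2 fun v _ => hc v, finrank_top,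
      hdim] at h1
    omega
  have hind : ∀ s t : K, s • u + t • w = 0 → s = 0 ∧ t = 0 := fun s t hst => by
    by_cases ht : t = 0
    · rw [ht, zero_smul, add_zero] at hst
      exact ⟨(smul_eq_zero.1 hst).resolve_right hu0, ht⟩
    · refine absurd (Submodule.mem_span_singleton.2 ⟨-(t⁻¹ * s), ?_⟩) hw
      rw [neg_smul, mul_smul, eq_neg_of_add_eq_zero_left hst, smul_neg, neg_neg, smul_smul,
        inv_mul_cancel₀ ht, one_smul]
  let bas : Module.Basis (Fin 2) K (ι → F) := basisOfLinearIndependentOfCardEqFinrank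
    (b := ![u, w]) (LinearIndependent.pair_iff.2 hind) (by rw [hdim, Fintype.card_fin])
  have hrep : ∀ v : ι → F, ∃ s t : K, v = s • u + t • w := fun v => ⟨bas.repr v 0, bas.repr v 1, by
    conv_lhs => rw [← bas.sum_repr v]
    simp [bas, Fin.sum_univ_two]⟩
  set a := q u
  set b := Φ u w
  set c := q w
  have ha : a ≠ 0 := hiso u hu0
  have hcomb : ∀ s t : K, q (s • u + t • w) = a * s * s + b * s * t + c * t * t := fun s t => by
    rw [hqa, hqs, hqs, LinearMap.map_smul Φ s u, LinearMap.smul_apply, map_smul]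
    simp only [smul_eq_mul]; ring
  have hbil : ∀ s t s' t' : K, Φ (s • u + t • w) (s' • u + t' • w) =
      2 * a * s * s' + b * (s * t' + t * s') + 2 * c * t * t' := fun s t s' t' => by
    simp only [map_add, LinearMap.add_apply, map_smul, LinearMap.smul_apply, smul_eq_mul, hΦs, hsym w u]
    ring
  have hdisc : b * b - 4 * a * c ≠ 0 := fun h => by
    by_cases h2 : (2 : K) = 0
    · have hb : b = 0 := mul_self_eq_zero.1 (by linear_combination h + (2 * a * c) * h2)
      obtain ⟨y, hy⟩ := hnd u hu0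
      obtain ⟨s, t, rfl⟩ := hrep y
      refine hy ?_
      have := hbil 1 0 s t
      rw [one_smul, zero_smul, add_zero] at this
      rw [this, hb, h2]; ring
    · have h0 : q ((-b) • u + (2 * a) • w) = 0 := by rw [hcomb]; linear_combination (-a) * h
      have h1 : (-b) • u + (2 * a) • w = 0 := by
        by_contra hne
        exact hiso _ hne h0
      exact mul_ne_zero h2 ha (hind _ _ h1).2
  obtain ⟨Jl, hJu, hJw⟩ : ∃ Jl : (ι → F) →ₗ[K] (ι → F), Jl u = a • w ∧ Jl w = (-c) • u + b • w :=
    ⟨bas.constr K ![a • w, (-c) • u + b • w],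
      by simpa [bas] using bas.constr_basis K ![a • w, (-c) • u + b • w] 0,
      by simpa [bas] using bas.constr_basis K ![a • w, (-c) • u + b • w] 1⟩
  have hJ : ∀ s t : K, Jl (s • u + t • w) = (-(c * t)) • u + (a * s + b * t) • w := fun s t => by
    rw [map_add, map_smul, map_smul, hJu, hJw]
    match_scalars <;> ring
  have hJJ : ∀ v, Jl (Jl v) = b • Jl v + (-(a * c)) • v := fun v => by
    obtain ⟨s, t, rfl⟩ := hrep v
    rw [hJ, hJ]
    match_scalars <;> ring
  have hΦJ : ∀ v, Φ (Jl v) v = b * q v := fun v => by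
    obtain ⟨s, t, rfl⟩ := hrep v
    rw [hJ, hbil, hcomb]; ring
  have hqJ : ∀ v, q (Jl v) = a * c * q v := fun v => by
    obtain ⟨s, t, rfl⟩ := hrep v
    rw [hJ, hcomb, hcomb]; ring
  -- the field
  let L : Subalgebra F (Matrix ι ι F) :=
    { carrier := {M | ∃ k l : K, ∀ v, M *ᵥ v = k • v + l • Jl v}
      mul_mem' := by
        rintro M N ⟨k, l, hM⟩ ⟨k', l', hN⟩
        refine ⟨k * k' - l * l' * (a * c), k * l' + l * k' + l * l' * b, fun v => ?_⟩
        rw [← Matrix.mulVec_mulVec, hN, hM, map_add, map_smul, map_smul, hJJ]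
        match_scalars <;> ring
      add_mem' := by
        rintro M N ⟨k, l, hM⟩ ⟨k', l', hN⟩
        refine ⟨k + k', l + l', fun v => ?_⟩
        rw [Matrix.add_mulVec, hM, hN, add_smul, add_smul]; abel
      algebraMap_mem' := fun d => ⟨algebraMap F K d, 0, fun v => by
        rw [Algebra.algebraMap_eq_smul_one, Matrix.smul_mulVec, Matrix.one_mulVec, zero_smul, add_zero,
          algebraMap_smul]⟩ }
  have hLmem : ∀ M, M ∈ L ↔ ∃ k l : K, ∀ v, M *ᵥ v = k • v + l • Jl v := fun M => Iff.rfl
  have huniq : ∀ k l : K, (∀ v, k • v + l • Jl v = 0) → k = 0 ∧ l = 0 := fun k l h => by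
    have h1 := h u
    rw [hJu, smul_smul] at h1
    obtain ⟨e1, e2⟩ := hind _ _ h1
    exact ⟨e1, (mul_eq_zero.1 e2).resolve_right ha⟩
  obtain ⟨mk, hmk⟩ : ∃ mk : K × K →ₗ[F] Matrix ι ι F, ∀ p v, mk p *ᵥ v = p.1 • v + p.2 • Jl v := by
    let f : K × K → Matrix ι ι F := fun p =>
      LinearMap.toMatrix' ((p.1 • LinearMap.id + p.2 • Jl : (ι → F) →ₗ[K] (ι → F)).restrictScalars F)
    have hf : ∀ p v, f p *ᵥ v = p.1 • v + p.2 • Jl v := fun p v => LinearMap.toMatrix'_mulVec _ v
    refine ⟨{ toFun := f, map_add' := fun p p' => ?_, map_smul' := fun d p => ?_ }, hf⟩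
    · refine Matrix.ext_of_mulVec_single fun i => ?_
      rw [Matrix.add_mulVec, hf, hf, hf, Prod.fst_add, Prod.snd_add, add_smul, add_smul]
      abel
    · refine Matrix.ext_of_mulVec_single fun i => ?_
      rw [RingHom.id_apply, Matrix.smul_mulVec, hf, hf, Prod.smul_fst, Prod.smul_snd, smul_assoc, smul_assoc,
        smul_add]
  have hinvK : ∀ k l : K, (k ≠ 0 ∨ l ≠ 0) → k * k + k * l * b + l * l * (a * c) ≠ 0 := fun k l hkl h => by
    have h0 : q (k • u + (l * a) • w) = 0 := by rw [hcomb]; linear_combination a * h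
    have h1 : k • u + (l * a) • w = 0 := by
      by_contra hne
      exact hiso _ hne h0
    obtain ⟨e1, e2⟩ := hind _ _ h1
    exact hkl.elim (fun h' => h' e1) fun h' => h' ((mul_eq_zero.1 e2).resolve_right ha)
  have hcommL : ∀ M ∈ L, ∀ N ∈ L, M * N = N * M := by
    rintro M ⟨k, l, hM⟩ N ⟨k', l', hN⟩
    refine Matrix.ext_of_mulVec_single fun i => ?_
    rw [← Matrix.mulVec_mulVec, ← Matrix.mulVec_mulVec, hN, hM, hM, hN, map_add, map_smul, map_smul,
      map_add, map_smul, map_smul]
    match_scalars <;> ring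
  have hL : Geo.IsFieldSubalgebra (2 * r) L := by
    refine ⟨hcommL, ?_, ?_⟩
    · rintro M ⟨k, l, hM⟩ hM0
      have hkl : k ≠ 0 ∨ l ≠ 0 := by
        by_contra hc
        push Not at hc
        exact hM0 (Matrix.ext_of_mulVec_single fun i => by
          rw [hM, hc.1, hc.2, zero_smul, zero_smul, add_zero, Matrix.zero_mulVec])
      set N := k * k + k * l * b + l * l * (a * c)
      have hN0 := hinvK k l hkl
      refine ⟨mk (N⁻¹ * (k + l * b), -(N⁻¹ * l)), ⟨_, _, hmk _⟩, Matrix.ext_of_mulVec_single fun i => ?_⟩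
      rw [← Matrix.mulVec_mulVec, hM, hmk, map_add, map_smul, map_smul, hJJ, Matrix.one_mulVec]
      have e : (k * k + k * l * b + l * l * (a * c)) * N⁻¹ = 1 := mul_inv_cancel₀ hN0
      match_scalars <;> first | ring1 | linear_combination e
    · have hrange : LinearMap.range mk = Subalgebra.toSubmodule L := by
        refine le_antisymm ?_ fun M hM => ?_
        · rintro _ ⟨p, rfl⟩; exact ⟨_, _, hmk p⟩
        · obtain ⟨k, l, hM⟩ := hM
          exact ⟨(k, l), Matrix.ext_of_mulVec_single fun i => by rw [hmk, hM]⟩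
      rw [← Subalgebra.finrank_toSubmodule, ← hrange, LinearMap.finrank_range_of_inj, Module.finrank_prod,
        show finrank F K = r from hK.finrank_eq, two_mul]
      rw [injective_iff_map_eq_zero]
      intro p hp
      obtain ⟨e1, e2⟩ := huniq p.1 p.2 fun v => by rw [← hmk, hp, Matrix.zero_mulVec]
      exact Prod.ext e1 e2
  -- an intrinsic description
  have hLP : ∀ M ∈ L, (∀ z : K, ∀ v, M *ᵥ (z • v) = z • (M *ᵥ v)) ∧
      ∃ n₁ n₂ : K, ∀ x, B (M *ᵥ x) x = Q (n₁ • x) + Q (n₂ • x) := by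
    rintro M ⟨k, l, hM⟩
    refine ⟨fun z v => by rw [hM, hM, map_smul]; match_scalars <;> ring, ?_⟩
    obtain ⟨n₁, n₂, hn⟩ := hsum (2 * k + l * b)
    refine ⟨n₁, n₂, fun x => ?_⟩
    have hΦM : Φ (M *ᵥ x) x = (n₁ * n₁ + n₂ * n₂) * q x := by
      rw [hM, map_add, LinearMap.add_apply, map_smul, LinearMap.smul_apply, map_smul, LinearMap.smul_apply,
        hΦs, hΦJ, ← hn]
      simp only [smul_eq_mul]; ring
    have h1 := htrc 1 (M *ᵥ x) x
    rw [one_mul, one_smul] at h1
    rw [← h1, hΦM, add_mul, map_add, htr, htr]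
  have hPL : ∀ M : Matrix ι ι F, (∀ z : K, ∀ v, M *ᵥ (z • v) = z • (M *ᵥ v)) →
      (∃ n₁ n₂ : K, ∀ x, B (M *ᵥ x) x = Q (n₁ • x) + Q (n₂ • x)) → M ∈ L := by
    rintro M hlin ⟨n₁, n₂, hn⟩
    set m := n₁ * n₁ + n₂ * n₂
    have hm : ∀ x, Φ (M *ᵥ x) x = m * q x := by
      intro x
      refine SpExt.ext_trace (F := F) fun d => ?_
      obtain ⟨s, t, rfl⟩ := hsum d
      have key : ∀ l : K, Algebra.trace F K (l * l * Φ (M *ᵥ x) x) = Algebra.trace F K (l * l * (m * q x)) := by
        intro l
        rw [htrc, mul_smul, show B (l • l • (M *ᵥ x)) x = B (l • (M *ᵥ x)) (l • x) from hsa _ l.2 _ x,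
          ← hlin l x, hn, smul_smul, smul_smul, ← htr, ← htr, ← map_add]
        congr 1; ring
      rw [add_mul, add_mul, map_add, map_add, key, key]
    obtain ⟨α, γ, hMu⟩ := hrep (M *ᵥ u)
    obtain ⟨δ, ε, hMw⟩ := hrep (M *ᵥ w)
    have hMst : ∀ s t : K, M *ᵥ (s • u + t • w) = (s * α + t * δ) • u + (s * γ + t * ε) • w := fun s t => by
      rw [Matrix.mulVec_add, hlin, hlin, hMu, hMw]
      match_scalars <;> ring
    have heq : ∀ s t : K, 2 * a * (s * α + t * δ) * s + b * ((s * α + t * δ) * t + (s * γ + t * ε) * s) +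
        2 * c * (s * γ + t * ε) * t = m * (a * s * s + b * s * t + c * t * t) := fun s t => by
      rw [← hbil, ← hMst, hm, hcomb]
    have E1 := heq 1 0
    have E2 := heq 0 1
    have E3 := heq 1 1
    set g := γ / a
    have hγ : γ = g * a := by rw [div_mul_cancel₀ _ ha]
    have hma : m = 2 * α + b * g := mul_left_cancel₀ ha (by rw [hγ] at E1; linear_combination -E1)
    rw [hγ, hma] at E2 E3
    have e2 : b * (δ + g * c) + 2 * c * (ε - g * b - α) = 0 := by linear_combination E2
    have e3 : 2 * a * (δ + g * c) + b * (ε - g * b - α) = 0 := by linear_combination E3 - E2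
    have hδ : δ = -(g * c) := by
      have : (b * b - 4 * a * c) * (δ + g * c) = 0 := by linear_combination b * e2 - 2 * c * e3
      exact eq_neg_of_add_eq_zero_left ((mul_eq_zero.1 this).resolve_left hdisc)
    have hε : ε = α + g * b := by
      have : (b * b - 4 * a * c) * (ε - g * b - α) = 0 := by linear_combination b * e3 - 2 * a * e2
      linear_combination (mul_eq_zero.1 this).resolve_left hdisc
    refine ⟨α, g, fun v => ?_⟩
    obtain ⟨s, t, rfl⟩ := hrep v
    rw [hMst, hJ, hδ, hε, hγ]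
    match_scalars <;> ring
  -- it is normalised
  have hnormL : ∀ g ∈ H, ∀ M ∈ L, (g : Matrix ι ι F) * M * ((g⁻¹ : GL ι F) : Matrix ι ι F) ∈ L := by
    intro g hg M hM
    obtain ⟨hlin, n₁, n₂, hn⟩ := hLP M hM
    refine hPL _ (fun z v => ?_) ?_
    · obtain ⟨z', hz'⟩ := hconj g⁻¹ (H.inv_mem hg) z
      obtain ⟨z'', hz''⟩ := hconj g hg z'
      simp only [← Matrix.mulVec_mulVec]
      rw [← hz', hlin, ← hz'']
      have hzz : z'' = z := by
        have h1 := hz'' (((g⁻¹ : GL ι F) : Matrix ι ι F) *ᵥ u)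
        rw [hz', mulVec_inv, mulVec_inv] at h1
        exact smul_left_injective K hu0 h1
      rw [hzz]
    · obtain ⟨k₁, hk₁⟩ := hconj g hg n₁
      obtain ⟨k₂, hk₂⟩ := hconj g hg n₂
      refine ⟨k₁, k₂, fun x => ?_⟩
      simp only [← Matrix.mulVec_mulVec]
      set y := ((g⁻¹ : GL ι F) : Matrix ι ι F) *ᵥ x with hy
      have hx : x = (g : Matrix ι ι F) *ᵥ y := by rw [hy, mulVec_inv]
      rw [hx, hk₁, hk₂, ← act_apply g, ← act_apply g, ← act_apply g, ← act_apply g, Orth.B_act (hHI hg),
        Orth.Q_act (hHI hg), Orth.Q_act (hHI hg), hn]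
  -- the adjoint
  have hΦJ2 : ∀ x y, Φ (Jl x) y + Φ (Jl y) x = b * Φ x y := fun x y => by
    have h1 := hΦJ (x + y)
    simp only [map_add, LinearMap.add_apply, hqa, hΦJ] at h1
    linear_combination h1
  have h := refForm hG
  have hadjB : ∀ M ∈ L, ∀ k l : K, (∀ v, M *ᵥ v = k • v + l • Jl v) →
      h.adj M = mk (k + l * b, -l) := fun M hM k l hMv => h.adj_eq fun x y => by
    rw [hmk, hMv]
    simp only
    have h1 := htrc 1 ((k + l * b) • x + (-l) • Jl x) y
    have h2 := htrc 1 x (k • y + l • Jl y)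
    rw [one_mul, one_smul] at h1 h2
    rw [← h1, ← h2]
    congr 1
    simp only [map_add, LinearMap.add_apply, map_smul, LinearMap.smul_apply, smul_eq_mul, hsym x (Jl y)]
    linear_combination (-l) * hΦJ2 x y
  have hθ : FieldInvolution (RingEquiv.refl F) L h.adj := by
    refine ⟨?_, fun p _ p' _ => h.adj_add p p', fun p hp p' hp' => by rw [hcommL p hp p' hp', h.adj_mul],
      fun d => by rw [h.adj_smul, h.adj_one], fun z _ => h.adj_adj z⟩
    rintro M ⟨k, l, hM⟩
    rw [hadjB M ⟨k, l, hM⟩ k l hM]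
    exact ⟨_, _, hmk _⟩
  have hfr : ∀ z ∈ L, h.adj z = z ^ Fintype.card F ^ r := by
    rcases hθ.cases hL with ⟨-, hid⟩ | ⟨-, -, hfr⟩ | ⟨hσ, -, -⟩
    · exfalso
      have hJL : mk (0, 1) ∈ L := ⟨_, _, hmk _⟩
      have h1 := hid _ hJL
      rw [hadjB _ hJL 0 1 (hmk _)] at h1
      have h2 := congrArg (· *ᵥ u) h1
      simp only [hmk, hJu] at h2
      have h3 : b • u + (-(2 * a)) • w = 0 := by
        linear_combination (norm := (match_scalars <;> ring)) h2
      obtain ⟨e1, e2⟩ := hind _ _ h3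
      rw [neg_eq_zero] at e2
      exact hdisc (by rw [e1]; linear_combination (-2 * c) * e2)
    · intro z hz
      rw [hfr z hz, Nat.mul_div_cancel_left r two_pos]
    · exact absurd rfl hσ
  -- its quadratic subfield
  obtain ⟨K₂, hK₂, hmem⟩ := exists_subfield_degree hL (dvd_mul_right 2 r)
  obtain ⟨s', rfl⟩ := hr
  have hadj₂ : ∀ z ∈ K₂, h.adj z = z ^ Fintype.card F := by
    intro z hz
    obtain ⟨hzL, hzq⟩ := (hmem z).1 hz
    rw [hfr z hzL]
    have key : ∀ j : ℕ, z ^ Fintype.card F ^ (2 * j + 1) = z ^ Fintype.card F := by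
      intro j
      induction j with
      | zero => simp
      | succ j ih => rw [show 2 * (j + 1) + 1 = 2 + (2 * j + 1) by ring, pow_add, pow_mul, hzq, ih]
    exact key s'
  refine ⟨K₂, hK₂, fun z hz => ⟨z ^ Fintype.card F, pow_mem hz _, fun x y => ?_⟩,
    (not_selfAdjoint_of_pow h hK₂ hadj₂).2, fun z hz => ?_, fun g hg => mem_subalgebraNormalizer fun z hz => ?_⟩
  · rw [← hadj₂ z hz]
    exact h.adj_right z x y
  · obtain ⟨k, l, hzv⟩ := ((hmem z).1 hz).1
    set N := k * k + k * l * b + l * l * (a * c) with hN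
    have hzz : ∀ v, (h.adj z * z) *ᵥ v = N • v := fun v => by
      rw [hadjB z ((hmem z).1 hz).1 k l hzv, ← Matrix.mulVec_mulVec, hzv, hmk, map_add, map_smul, map_smul,
        hJJ, hN]
      match_scalars <;> ring
    obtain ⟨d, hd⟩ := fixed_mem_scalar hK₂ (x := h.adj z * z) (by
      rw [hadj₂ z hz]; exact mul_mem (pow_mem hz _) hz) (by
      rw [hadj₂ z hz, ← pow_succ, ← pow_mul, Nat.succ_mul, ← pow_two (Fintype.card F), pow_add,
        show z ^ Fintype.card F ^ 2 = z from pow_card_field hK₂ hz, ← pow_succ'])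
    have hNd : N = algebraMap F K d := smul_left_injective K hu0 (show N • u = algebraMap F K d • u by
      rw [← hzz, hd, Matrix.smul_mulVec, Matrix.one_mulVec, algebraMap_smul])
    refine ⟨d, fun v => ?_⟩
    have hqz : q (z *ᵥ v) = N * q v := by
      rw [hzv, hqa, hqs, hqs, hqJ]
      simp only [map_smul, LinearMap.smul_apply, smul_eq_mul, hsym v (Jl v), hΦJ, hN]
      ring
    rw [hQq, hQq, hqz, hNd, ← Algebra.smul_def, map_smul, smul_eq_mul]
  · obtain ⟨hzL, hzq⟩ := (hmem z).1 hz
    exact (hmem _).2 ⟨hnormL g hg z hzL, by rw [Units.conj_pow, hzq]⟩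

end Cfsg.Agent.Aschbacher.OrthEven
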