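import Cfsg.Agent.Lib.Aschbacher.OrthEven.Tools
import Cfsg.Agent.Lib.Forms.SympTwo

/-!
Aschbacher's theorem for the isometry group of a quadratic form in even dimension, any characteristic.
-/

set_option autoImplicit false
set_option linter.unusedSectionVars false

namespace Cfsg.Agent.Aschbacher.OrthEven

open Matrix
open scoped MatrixGroups Kronecker

variable {ι : Type} [Fintype ι] [DecidableEq ι] {F : Type*} [Field F] [Fintype F]

/-- The geometric classes for a quadratic form `Q` in even dimension, or the residual class. -/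
inductive EvenOutcome (Q : (ι → F) → F) (H : Subgroup (GL ι F)) : Prop
  | totallySingular (W : Submodule F (ι → F)) (h0 : W ≠ ⊥) (hts : Geo.IsTotallySingularQuad Q W)
      (hle : H ≤ Geo.subspaceStabilizer W)
  | nonsingularPoint (v : ι → F) (hchar : ¬ Odd (Fintype.card F)) (hv : Q v ≠ 0)
      (hle : H ≤ Geo.subspaceStabilizer (Submodule.span F {v}))
  | nondegenerate (W : Submodule F (ι → F)) (h0 : W ≠ ⊥)
      (hnd : Geo.IsNondegenerateOn (QuadraticMap.polar Q) W)
      (hdim : 2 * Module.finrank F W < Fintype.card ι) (hle : H ≤ Geo.subspaceStabilizer W)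
  | halves (D : Fin 2 → Submodule F (ι → F)) (k : ℕ) (hk : 2 * k = Fintype.card ι)
      (hD : Geo.IsNondegenerateMDecomposition (QuadraticMap.polar Q) k D)
      (hle : ∀ i, H ≤ Geo.subspaceStabilizer (D i))
  | decomposition (t m : ℕ) (D : Fin t → Submodule F (ι → F)) (hD : Geo.IsOrthogonalMDecomposition Q m D)
      (hline : m = 1 → (Fintype.card F).Prime ∧ Odd (Fintype.card F))
      (hle : H ≤ Geo.decompositionStabilizer D)
  | pair (k : ℕ) (D : Fin 2 → Submodule F (ι → F)) (hk : 2 * k = Fintype.card ι)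
      (hD : Geo.IsMDecomposition k D) (hts : ∀ i, Geo.IsTotallySingularQuad Q (D i))
      (hle : H ≤ Geo.decompositionStabilizer D)
  | field (r : ℕ) (K : Subalgebra F (Matrix ι ι F)) (hr : r.Prime) (hne : r ≠ Fintype.card ι)
      (hK : Geo.IsFieldSubalgebra r K) (hsa : Geo.IsSelfAdjointFor (QuadraticMap.polar Q) K)
      (hle : H ≤ Geo.subalgebraNormalizer K)
  | unitaryField (K : Subalgebra F (Matrix ι ι F)) (hK : Geo.IsFieldSubalgebra 2 K)
      (hcl : Geo.IsAdjointClosedFor (QuadraticMap.polar Q) K)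
      (hns : ¬ Geo.IsSelfAdjointFor (QuadraticMap.polar Q) K)
      (hsim : ∀ k ∈ K, ∃ c : F, ∀ v, Q (k *ᵥ v) = c * Q v)
      (hle : H ≤ Geo.subalgebraNormalizer K)
  | tensorSymm (n₁ n₂ : ℕ) (e : ι ≃ Fin n₁ × Fin n₂) (P : GL ι F) (f₁ : (Fin n₁ → F) → (Fin n₁ → F) → F)
      (f₂ : (Fin n₂ → F) → (Fin n₂ → F) → F) (hodd : Odd (Fintype.card F)) (h3 : 3 ≤ n₁) (h12 : n₁ ≤ n₂)
      (hf₁ : Geo.IsSymmetricForm f₁) (hf₂ : Geo.IsSymmetricForm f₂)
      (hstr : Geo.IsTensorFormStructure id (QuadraticMap.polar Q) f₁ f₂ e P)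
      (hle : H ≤ Geo.tensorProductSubgroup n₁ n₂ e P)
  | tensorAlt (n₁ n₂ : ℕ) (e : ι ≃ Fin n₁ × Fin n₂) (P : GL ι F) (f₁ : (Fin n₁ → F) → (Fin n₁ → F) → F)
      (f₂ : (Fin n₂ → F) → (Fin n₂ → F) → F) (h2 : 2 ≤ n₁) (h12 : n₁ ≤ n₂)
      (hf₁ : Geo.IsSymplecticForm f₁) (hf₂ : Geo.IsSymplecticForm f₂)
      (hstr : Geo.IsTensorFormStructure id (QuadraticMap.polar Q) f₁ f₂ e P)
      (hvan : ∀ (x₁ : Fin n₁ → F) (x₂ : Fin n₂ → F),
        Q ((P : Matrix ι ι F) *ᵥ ((fun a : Fin n₁ × Fin n₂ => x₁ a.1 * x₂ a.2) ∘ e)) = 0)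
      (hle : H ≤ Geo.tensorProductSubgroup n₁ n₂ e P)
  | subfield (F₀ : Subfield F) (r : ℕ) (P : GL ι F) (ζ : F) (hr : r.Prime)
      (hcard : Fintype.card F = Nat.card F₀ ^ r) (hζ : ζ ≠ 0)
      (hrat : Geo.IsQuadFormRationalStructure (fun v => ζ * Q v) F₀ P)
      (hle : H ≤ Geo.subfieldSubgroup F₀ P)
  | residual (hres : Geo.InOrthogonalResidualClass H)

variable {Q : (ι → F) → F} {H : Subgroup (GL ι F)}

theorem even_dim_of_symplectic {d : ℕ} {f : (Fin d → F) → (Fin d → F) → F} (hf : Geo.IsSymplecticForm f) :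
    Even d := by
  let β : LinearMap.BilinForm F (Fin d → F) := LinearMap.mk₂ F f hf.bilinear.add_left hf.bilinear.smul_left
    hf.bilinear.add_right hf.bilinear.smul_right
  have h := Forms.SympTwo.even_finrank_of_isAlt (β := β) hf.alternating fun x hx => by
    by_contra hne
    obtain ⟨y, hy⟩ := (hf.nondegenerate x hne).2
    exact hy (hx y)
  simpa using h

theorem isSymmetric_matForm {d : ℕ} {G : Matrix (Fin d) (Fin d) F} (hd : G.det ≠ 0) (hs : Gᵀ = G) :
    Geo.IsSymmetricForm (matForm id G) :=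
  ⟨matForm_bilinear G, fun u v => by rw [← matForm_transpose, hs], matForm_nondegenerate (RingEquiv.refl F) hd⟩

/-- An orthogonal basis of constant value permuted up to scalars over a field of composite order. -/
theorem EvenOutcome.of_lines (hQ : Geo.IsNondegenerateQuadraticForm Q) [Nonempty ι]
    (hH : H ≤ isometryGroup F Q) (h2 : (2 : F) ≠ 0) (hp : ¬ (Fintype.card F).Prime) {v : ι → ι → F} {c : F}
    (hc : c ≠ 0) (hv : ∀ i j, QuadraticMap.polar Q (v i) (v j) = if i = j then c else 0)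
    (hmon : ∀ g ∈ H, ∀ i, ∃ (j : ι) (a : F), (g : Matrix ι ι F) *ᵥ v i = a • v j) : EvenOutcome Q H := by
  classical
  have hb := hQ.polar_bilinear
  have hPdet : (Matrix.of fun i j => v j i : Matrix ι ι F).det ≠ 0 := by
    intro h0
    have h1 : (Matrix.of fun i j => v j i : Matrix ι ι F)ᵀ * Geo.gramMatrix (QuadraticMap.polar Q) *
        (Matrix.of fun i j => v j i : Matrix ι ι F) = c • 1 := by
      rw [← gram_conj hb]
      ext i j
      show QuadraticMap.polar Q _ _ = _
      rw [Matrix.mulVec_single_one, Matrix.mulVec_single_one, Matrix.smul_apply, Matrix.one_apply,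
        smul_eq_mul, mul_ite, mul_one, mul_zero]
      exact hv i j
    have h3 := congrArg Matrix.det h1
    rw [Matrix.det_mul, h0, mul_zero, Matrix.det_smul, Matrix.det_one, mul_one] at h3
    exact pow_ne_zero _ hc h3.symm
  let P : GL ι F := Matrix.GeneralLinearGroup.mkOfDetNeZero _ hPdet
  have hP : ∀ i, (P : Matrix ι ι F) *ᵥ Pi.single i 1 = v i := fun i => by
    rw [Matrix.mulVec_single_one]; rfl
  choose π a hπ using hmon
  have ha : ∀ g hg i, a g hg i * a g hg i = 1 := by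
    intro g hg i
    have h1 := RefForm.mem_isometry.1 (iso_polar hH hg) (v i) (v i)
    simp only [hπ g hg, hb.smul_left, hb.smul_right, hv, if_true] at h1
    rw [← mul_assoc] at h1
    exact (mul_eq_right₀ hc).1 h1
  obtain ⟨p, hpC⟩ := CharP.exists F
  have := hpC
  obtain ⟨e, hpp, hcard⟩ := FiniteField.card F p
  have : Fact p.Prime := ⟨hpp⟩
  have he : 1 < (e : ℕ) := by
    rcases Nat.lt_or_ge 1 (e : ℕ) with h1 | h1
    · exact h1
    · exact absurd (by rw [hcard, show (e : ℕ) = 1 by have := e.pos; omega, pow_one]; exact hpp) hp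
  have hF₁ : fixedOf (frob (F := F) p 1) ≠ ⊤ := fixedOf_ne_top fun h0 => by
    obtain ⟨x, hx⟩ := exists_pow_ne_self (F := F) p one_pos (hcard ▸ Nat.pow_lt_pow_right hpp.one_lt he)
    exact hx (by simpa [frob_apply] using RingEquiv.congr_fun h0 x)
  obtain ⟨F₀, r, -, hr, hcard₀⟩ := exists_prime_index hF₁
  refine .subfield F₀ r P (c * 2⁻¹)⁻¹ hr hcard₀ (inv_ne_zero (mul_ne_zero hc (inv_ne_zero h2))) (fun u hu => ?_)
    fun g hg => mem_subfieldSubgroup_of_entries fun i j => ?_
  · have hR : IsQuadFun fun u => Q ((P : Matrix ι ι F) *ᵥ u) := by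
      have hp : ∀ u v, QuadraticMap.polar (fun u => Q ((P : Matrix ι ι F) *ᵥ u)) u v =
          QuadraticMap.polar Q ((P : Matrix ι ι F) *ᵥ u) ((P : Matrix ι ι F) *ᵥ v) := fun u v => by
        simp only [QuadraticMap.polar, Matrix.mulVec_add]
      exact ⟨fun c v => by simp only [Matrix.mulVec_smul, hQ.smul],
        ⟨fun x y v => by simp only [hp, Matrix.mulVec_add, hb.add_left],
          fun c x v => by simp only [hp, Matrix.mulVec_smul, hb.smul_left],
          fun v x y => by simp only [hp, Matrix.mulVec_add, hb.add_right],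
          fun c v x => by simp only [hp, Matrix.mulVec_smul, hb.smul_right]⟩⟩
    have hkey : ∀ s : Finset ι, Q ((P : Matrix ι ι F) *ᵥ ∑ i ∈ s, u i • (Pi.single i 1 : ι → F)) =
        c * 2⁻¹ * ∑ i ∈ s, u i ^ 2 := by
      intro s
      induction s using Finset.induction with
      | empty => simp [(quadFun hQ).zero]
      | insert x s hx ih =>
        rw [Finset.sum_insert hx, Finset.sum_insert hx, Matrix.mulVec_add, (quadFun hQ).map_add, ih,
          Matrix.mulVec_smul, hQ.smul, hP]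
        have h1 : Q (v x) = c * 2⁻¹ := by
          have h1 := polar_self hQ (v x)
          rw [hv, if_pos rfl] at h1
          rw [h1]; field_simp
        rw [h1, hb.smul_left, show QuadraticMap.polar Q (v x)
          ((P : Matrix ι ι F) *ᵥ ∑ i ∈ s, u i • (Pi.single i 1 : ι → F)) = 0 from ?_]
        · ring
        let φ : (ι → F) →ₗ[F] F :=
          { toFun := fun y => QuadraticMap.polar Q (v x) y
            map_add' := fun y z => hb.add_right _ y z
            map_smul' := fun t y => hb.smul_right t _ y }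
        show φ _ = 0
        rw [Matrix.mulVec_sum, map_sum]
        refine Finset.sum_eq_zero fun i hi => ?_
        rw [Matrix.mulVec_smul, map_smul, hP]
        show u i * QuadraticMap.polar Q (v x) (v i) = 0
        rw [hv, if_neg (fun h : x = i => hx (h ▸ hi)), mul_zero]
    have h1 := hkey Finset.univ
    rw [← pi_eq_sum_univ'] at h1
    show (c * 2⁻¹)⁻¹ * Q _ ∈ F₀
    rw [h1, ← mul_assoc, inv_mul_cancel₀ (mul_ne_zero hc (inv_ne_zero h2)), one_mul]
    exact sum_mem fun i _ => pow_mem (hu i) 2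
  · have h1 : ((P⁻¹ * g * P : GL ι F) : Matrix ι ι F) *ᵥ Pi.single j 1 =
        a g hg j • Pi.single (π g hg j) 1 := by
      rw [mulVec_mul, mulVec_mul, hP, hπ g hg, Matrix.mulVec_smul, ← hP, inv_mulVec]
    rw [Matrix.mulVec_single_one] at h1
    have h3 := congrFun h1 i
    rw [Matrix.col_apply] at h3
    rw [h3, Pi.smul_apply, smul_eq_mul, Pi.single_apply]
    split_ifs
    · rw [mul_one]
      rcases mul_self_eq_one_iff.1 (ha g hg j) with h4 | h4 <;> rw [h4]
      exacts [one_mem _, neg_mem (one_mem _)]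
    · rw [mul_zero]; exact zero_mem _

/-- An orthogonal decomposition with the members permuted transitively. -/
theorem EvenOutcome.of_orth (hQ : Geo.IsNondegenerateQuadraticForm Q) [Nonempty ι]
    (hH : H ≤ isometryGroup F Q) {t m : ℕ} {D : Fin t → Submodule F (ι → F)}
    (hD : Geo.IsNondegenerateMDecomposition (QuadraticMap.polar Q) m D)
    (hle : H ≤ Geo.decompositionStabilizer D) (htrans : ∀ i j, ∃ g ∈ H, translate g (D i) = D j) :
    EvenOutcome Q H := by
  classical
  have hb := hQ.polar_bilinear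
  have hiso : Geo.IsOrthogonalMDecomposition Q m D := by
    refine ⟨hD, fun i j => ?_⟩
    obtain ⟨g, hg, hgD⟩ := htrans i j
    have hinj : Function.Injective (Matrix.toLin' (g : Matrix ι ι F)) := fun x y hxy => by
      simpa [inv_mulVec] using congrArg (((g⁻¹ : GL ι F) : Matrix ι ι F) *ᵥ ·) hxy
    refine ⟨(Submodule.equivMapOfInjective _ hinj (D i)).trans (LinearEquiv.ofEq _ _ hgD), fun w => ?_⟩
    show Q (Matrix.toLin' (g : Matrix ι ι F) w) = _
    rw [Matrix.toLin'_apply, iso_fix hH hg]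
  by_cases hm : m = 1
  swap
  · exact .decomposition t m D hiso (fun h => absurd h hm) hle
  subst hm
  have hcardι : Fintype.card ι = t := by rw [card_eq_of_isMDecomposition hD.decomp, mul_one]
  let eι : ι ≃ Fin t := Fintype.equivFinOfCardEq hcardι
  set r₀ := eι (Classical.arbitrary ι)
  obtain ⟨v₀, hv₀, hv₀0⟩ := Submodule.exists_mem_ne_zero_of_ne_bot (p := D r₀) fun h0 => by
    have := hD.decomp.finrank_eq r₀
    rw [h0, finrank_bot] at this
    exact zero_ne_one this
  have hspan : ∀ r, ∀ w ∈ D r, ∀ u ∈ D r, u ≠ 0 → ∃ x : F, w = x • u := by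
    intro r w hw u hu hu0
    obtain ⟨x, hx⟩ := (finrank_eq_one_iff_of_nonzero' (⟨u, hu⟩ : D r) (fun h0 => hu0
      (congrArg Subtype.val h0))).1 (hD.decomp.finrank_eq r) ⟨w, hw⟩
    exact ⟨x, (congrArg Subtype.val hx).symm⟩
  have hc0 : QuadraticMap.polar Q v₀ v₀ ≠ 0 := by
    intro hc0
    obtain ⟨u, hu, hne⟩ := (hD.nondegenerate r₀ v₀ hv₀ hv₀0).2
    obtain ⟨x, rfl⟩ := hspan r₀ u hu v₀ hv₀ hv₀0
    rw [hb.smul_right, hc0, mul_zero] at hne
    exact hne rfl
  have h2 : (2 : F) ≠ 0 := fun h0 => hc0 (by rw [polar_self hQ, h0, zero_mul])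
  by_cases hp : (Fintype.card F).Prime
  · exact .decomposition t 1 D hiso (fun _ => ⟨hp, odd_card_of_two_ne_zero h2⟩) hle
  choose g hg hgD using fun i => htrans r₀ (eι i)
  let v : ι → ι → F := fun i => (g i : Matrix ι ι F) *ᵥ v₀
  have hvD : ∀ i, v i ∈ D (eι i) := fun i => hgD i ▸ mem_translate.2 ⟨v₀, hv₀, rfl⟩
  refine .of_lines hQ hH h2 hp (v := v) hc0 (fun i j => ?_) fun x hx i => ?_
  · rcases eq_or_ne i j with rfl | hij
    · rw [if_pos rfl]; exact RefForm.mem_isometry.1 (iso_polar hH (hg i)) v₀ v₀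
    · rw [if_neg hij]
      exact hD.orthogonal (eι i) (eι j) (eι.injective.ne hij) _ (hvD i) _ (hvD j)
  · obtain ⟨π, hπ⟩ := hle hx
    have h1 : (x : Matrix ι ι F) *ᵥ v i ∈ D (eι (eι.symm (π (eι i)))) := by
      rw [Equiv.apply_symm_apply, ← hπ (eι i)]
      exact mem_translate.2 ⟨_, hvD i, rfl⟩
    obtain ⟨a, ha⟩ := hspan _ _ h1 _ (hvD _) fun h0 => hv₀0 ((mulVec_eq_zero_iff _).1 h0)
    exact ⟨_, a, ha⟩

/-- A quadratic field of adjoint type Frobenius. -/
theorem EvenOutcome.of_twisted (hQ : Geo.IsNondegenerateQuadraticForm Q) [Nonempty ι]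
    (hι : 2 ≤ Fintype.card ι) (hH : H ≤ isometryGroup F Q) (hirr : Irr H) {K : Subalgebra F (Matrix ι ι F)}
    (hK : Geo.IsFieldSubalgebra 2 K) (hle : H ≤ Geo.subalgebraNormalizer K)
    (hadj : ∀ z ∈ K, (refForm hQ).adj z = z ^ Fintype.card F) : EvenOutcome Q H := by
  refine .unitaryField K hK (fun z hz => ⟨z ^ Fintype.card F, pow_mem hz _, fun u v => ?_⟩)
    (not_selfAdjoint_of_pow _ hK hadj).2 (quad_similar_of_pow hQ hι hirr hH hK hle hadj) hle
  rw [← hadj z hz]
  exact (refForm hQ).adj_right z u v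

theorem coordGram_prodComm {d k : ℕ} {f : (ι → F) → (ι → F) → F} {e : ι ≃ Fin d × Fin k} {P : GL ι F}
    {G₁ : Matrix (Fin d) (Fin d) F} {G₂ : Matrix (Fin k) (Fin k) F}
    (hgram : coordGram f e P = G₁ ⊗ₖ G₂) :
    coordGram f (e.trans (Equiv.prodComm _ _)) P = G₂ ⊗ₖ G₁ := by
  ext ⟨p, a⟩ ⟨q, b⟩
  have h1 := congrFun (congrFun hgram (a, p)) (b, q)
  simp only [Matrix.kroneckerMap_apply] at h1 ⊢
  rw [mul_comm, ← h1]
  have hs : ∀ z : Fin k × Fin d, (Pi.single (z.1, z.2) (1 : F) : Fin k × Fin d → F) ∘ (e.trans (Equiv.prodComm _ _)) =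
      (Pi.single (z.2, z.1) (1 : F) : Fin d × Fin k → F) ∘ e := fun z => funext fun i => by
    simp [Pi.single_apply, Prod.ext_iff, and_comm]
  show f _ _ = f _ _
  rw [hs (p, a), hs (q, b)]

/-- A tensor decomposition with symmetric factors in odd characteristic. -/
theorem EvenOutcome.of_symmetric_tensor (hQ : Geo.IsNondegenerateQuadraticForm Q) [Nonempty ι]
    (hι : 4 ≤ Fintype.card ι) (hH : H ≤ isometryGroup F Q) (hirr : Irr H) (hodd : Odd (Fintype.card F))
    {d k : ℕ} (hd : 2 ≤ d) (hdk : d ≤ k) (e : ι ≃ Fin d × Fin k) (P : GL ι F)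
    {G₁ : Matrix (Fin d) (Fin d) F} {G₂ : Matrix (Fin k) (Fin k) F} (hd₁ : G₁.det ≠ 0) (hd₂ : G₂.det ≠ 0)
    (hs₁ : G₁ᵀ = G₁) (hs₂ : G₂ᵀ = G₂) (hgram : coordGram (QuadraticMap.polar Q) e P = G₁ ⊗ₖ G₂)
    (hle : H ≤ Geo.tensorProductSubgroup d k e P) : EvenOutcome Q H := by
  by_cases hd2 : d = 2
  · subst hd2
    have : NeZero k := ⟨by omega⟩
    rcases (refForm hQ).symmetric_two_factor (two_ne_zero_of_odd hodd) hirr (iso_polar hH)
        (e.trans (Equiv.prodComm _ _)) P (fun h0 => hd₂ (by rw [h0, Matrix.det_zero])) hd₁ hs₁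
        (coordGram_prodComm hgram) (hle.trans (tensorProductSubgroup_le_swap e P)) with
      ⟨c, D, hc, hD, hts, hle'⟩ | ⟨K, hK, hcl, hns, hle'⟩
    · exact .pair c D hc hD (pair_singular hQ hι hirr hH hc hD hts hle') hle'
    · exact .of_twisted hQ (by omega) hH hirr hK hle' (adj_eq_pow_of_not_selfAdjoint _ hK hcl hns)
  exact .tensorSymm d k e P _ _ hodd (by omega) hdk (isSymmetric_matForm hd₁ hs₁)
    (isSymmetric_matForm hd₂ hs₂) ((refForm hQ).tensorFormStructure hgram) hle

/-- A tensor decomposition with alternating factors. -/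
theorem EvenOutcome.of_alternating_tensor (hQ : Geo.IsNondegenerateQuadraticForm Q) [Nonempty ι]
    (hι : 2 ≤ Fintype.card ι) (hH : H ≤ isometryGroup F Q) (hirr : Irr H)
    {d k : ℕ} (hd : 2 ≤ d) (hdk : d ≤ k) (e : ι ≃ Fin d × Fin k) (P : GL ι F)
    {G₁ : Matrix (Fin d) (Fin d) F} {G₂ : Matrix (Fin k) (Fin k) F} (hd₁ : G₁.det ≠ 0) (hd₂ : G₂.det ≠ 0)
    (hs₁ : G₁ᵀ = -G₁) (hs₂ : G₂ᵀ = -G₂) (hz₁ : ∀ a, G₁ a a = 0) (hz₂ : ∀ a, G₂ a a = 0)
    (hgram : coordGram (QuadraticMap.polar Q) e P = G₁ ⊗ₖ G₂)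
    (hle : H ≤ Geo.tensorProductSubgroup d k e P) : EvenOutcome Q H := by
  classical
  have h := refForm hQ
  have hf₁ := matForm_symplectic hd₁ hs₁ hz₁
  refine .tensorAlt d k e P _ _ hd hdk hf₁ (matForm_symplectic hd₂ hs₂ hz₂) (h.tensorFormStructure hgram) ?_ hle
  intro x y
  show Q ((P : Matrix ι ι F) *ᵥ (pureVec x y ∘ e)) = 0
  by_cases h2 : (2 : F) = 0
  swap
  · refine (mul_eq_zero.1 (show (2 : F) * Q _ = 0 from ?_)).resolve_left h2
    rw [← polar_self hQ]
    show coordForm (QuadraticMap.polar Q) e P (pureVec x y) (pureVec x y) = 0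
    rw [coordForm_eq h, hgram]
    show matForm id _ _ _ = 0
    rw [matForm_kron_pure, hf₁.alternating, zero_mul]
  have hsym : ∀ {n : ℕ} {G : Matrix (Fin n) (Fin n) F}, Gᵀ = -G → Gᵀ = G := fun hG => by
    rw [hG]; ext i j; exact neg_eq_self_of_two_eq_zero h2 _
  obtain ⟨R, hR, hpolR, hR0⟩ := exists_quad_of_alternating (A := G₁ ⊗ₖ G₂)
    (by rw [← Matrix.kroneckerMap_transpose, hsym hs₁, hsym hs₂]) fun z => by simp [hz₁]
  let c : (ι → F) →ₗ[F] (Fin d × Fin k → F) :=
    (LinearMap.funLeft F F e.symm).comp (Matrix.toLin' ((P⁻¹ : GL ι F) : Matrix ι ι F))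
  have hc : ∀ x, c ((P : Matrix ι ι F) *ᵥ (x ∘ e)) = x := fun x => funext fun z => by
    simp [c, LinearMap.funLeft, inv_mulVec, Matrix.mulVec_mulVec]
  have hpc : ∀ u v, QuadraticMap.polar (fun v => R (c v)) u v = QuadraticMap.polar Q u v := by
    intro u v
    obtain ⟨a, rfl⟩ := exists_coord_vec e P u
    obtain ⟨b, rfl⟩ := exists_coord_vec e P v
    show R (c (_ + _)) - _ - _ = coordForm (QuadraticMap.polar Q) e P a b
    rw [coordForm_eq h, hgram]
    simp only [map_add, hc]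
    exact hpolR a b
  have hpure : ∀ x y, R (pureVec x y) = 0 := fun x y =>
    pure_vanish hf₁.alternating hz₂ hR hpolR hR0 x y
  have key := quad_unique hQ hι hirr hH (Q' := fun v => R (c v))
    (fun t v => by simp only [map_smul, hR.smul]) hpc fun g hg v _ => by
      obtain ⟨g₀, a, b, rfl, hab⟩ := exists_of_mem_tensorProductSubgroup (hle hg)
      obtain ⟨z, rfl⟩ := exists_coord_vec e P v
      show R (c _) = R (c _)
      rw [coordGL_mulVec, hc, hc]
      refine hR.fixed (fun u w => ?_) (fun i => ?_) z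
      · rw [hpolR, hpolR]
        have h1 := coordGram_invariant h e P (iso_polar hH hg)
        rw [hgram, RingEquiv.coe_refl, Matrix.map_id] at h1
        rw [show matForm id (G₁ ⊗ₖ G₂) = matForm (RingHom.id F) (G₁ ⊗ₖ G₂) from rfl, matForm_conj]
        simp only [RingHom.coe_id, Matrix.map_id]
        rw [h1]
      · rw [hR0, show (g₀ : Matrix (Fin d × Fin k) (Fin d × Fin k) F) *ᵥ Pi.single i 1 =
          pureVec (fun p => (a : Matrix (Fin d) (Fin d) F) p i.1) (fun q => (b : Matrix (Fin k) (Fin k) F) q i.2)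
          from funext fun z => by simp [Matrix.mulVec_single_one, hab, pureVec], hpure]
  rw [← key, hc, hpure]

/-- The Clifford cases. -/
theorem EvenOutcome.of_clifford (hQ : Geo.IsNondegenerateQuadraticForm Q) [Nonempty ι]
    (hι : 4 ≤ Fintype.card ι) (heven : Even (Fintype.card ι)) (hH : H ≤ isometryGroup F Q) (hirr : Irr H)
    {N : Subgroup (GL ι F)} (hs : ¬ N ≤ Geo.scalars ι F) (ha : ¬ AbsIrr N)
    (hc : FormClifford (refForm hQ) H N) : EvenOutcome Q H := by
  cases hc with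
  | scalar hN => exact absurd hN hs
  | absIrr hN => exact absurd hN ha
  | orth t m D hD hle htrans => exact .of_orth hQ hH hD hle htrans
  | pair k D hk hD hts hle => exact .pair k D hk hD (pair_singular hQ hι hirr hH hk hD hts hle) hle
  | selfAdjointField r K _ hr hK hle hsa =>
    refine .field r K hr (fun he => ?_) hK (fun z hz u w => by rw [(refForm hQ).adj_right, hsa z hz]) hle
    have h1 := hr.eq_two_or_odd'
    rcases h1 with h1 | h1
    · omega
    · exact Nat.not_even_iff_odd.2 h1 (he ▸ heven)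
  | twistedField K _ hK hle hadj => exact .of_twisted hQ (by omega) hH hirr hK hle hadj
  | unitaryField r K hσ => exact absurd rfl hσ
  | tensor d k e P hd hk G₁ G₂ l hd₁ hd₂ hl hh₁ hh₂ N' hN' hfix hgram hle =>
    have hs₁ : G₁ᵀ = l • G₁ := by simpa using hh₁
    have hs₂ : G₂ᵀ = l • G₂ := Matrix.ext fun p q => by
      rw [Matrix.transpose_apply, hh₂ p q, RingEquiv.refl_apply, Matrix.smul_apply, smul_eq_mul]; ring
    by_cases hodd : Odd (Fintype.card F)
    · have h2 := two_ne_zero_of_odd hodd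
      rcases mul_self_eq_one_iff.1 (show l * l = 1 from hl) with rfl | rfl
      · rw [one_smul] at hs₁ hs₂
        rcases le_total d k with hdk | hdk
        · exact .of_symmetric_tensor hQ hι hH hirr hodd hd hdk e P hd₁ hd₂ hs₁ hs₂ hgram hle
        · exact .of_symmetric_tensor hQ hι hH hirr hodd hk hdk _ P hd₂ hd₁ hs₂ hs₁ (coordGram_prodComm hgram)
            (hle.trans (tensorProductSubgroup_le_swap e P))
      · rw [neg_one_smul] at hs₁ hs₂
        have hz : ∀ {n : ℕ} {G : Matrix (Fin n) (Fin n) F}, Gᵀ = -G → ∀ a, G a a = 0 := fun hG a => by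
          have h1 := congrFun (congrFun hG a) a
          rw [Matrix.transpose_apply, Matrix.neg_apply] at h1
          exact (mul_eq_zero.1 (show (2 : F) * _ = 0 by linear_combination h1)).resolve_left h2
        rcases le_total d k with hdk | hdk
        · exact .of_alternating_tensor hQ (by omega) hH hirr hd hdk e P hd₁ hd₂ hs₁ hs₂ (hz hs₁) (hz hs₂)
            hgram hle
        · exact .of_alternating_tensor hQ (by omega) hH hirr hk hdk _ P hd₂ hd₁ hs₂ hs₁ (hz hs₂) (hz hs₁)
            (coordGram_prodComm hgram) (hle.trans (tensorProductSubgroup_le_swap e P))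
    have h2 := two_eq_zero_of_not_odd hodd
    have hl1 : l = 1 := by
      rcases mul_self_eq_one_iff.1 (show l * l = 1 from hl) with h1 | h1
      · exact h1
      · rw [h1, neg_eq_self_of_two_eq_zero h2]
    subst hl1
    rw [one_smul] at hs₁ hs₂
    have : NeZero d := ⟨by omega⟩
    have : NeZero k := ⟨by omega⟩
    have hG₁ : G₁ ≠ 0 := fun h0 => hd₁ (by rw [h0, Matrix.det_zero])
    have hG₂ : G₂ ≠ 0 := fun h0 => hd₂ (by rw [h0, Matrix.det_zero])
    have hz₁ : ∀ a, G₁ a a = 0 := diag_eq_zero_of_irr h2 (by simpa using hd) hs₁ (S := Geo.matrixSet N')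
      (fun K hK => irr_iff.1 hN'.1 K fun x hx v hv => hK _ ⟨x, hx, rfl⟩ v hv) (by
        rintro _ ⟨x, hx, rfl⟩
        exact ⟨1, by simpa using hfix x hx⟩)
    have hz₂ : ∀ a, G₂ a a = 0 := diag_eq_zero_of_irr h2 (by simpa using hk) hs₂
      (S := {B | ∃ b : GL (Fin k) F, (∃ g ∈ H, ∃ (g₀ : GL (Fin d × Fin k) F) (a : GL (Fin d) F),
        coordGL e P g₀ = g ∧ (g₀ : Matrix (Fin d × Fin k) (Fin d × Fin k) F) =
          (a : Matrix (Fin d) (Fin d) F) ⊗ₖ (b : Matrix (Fin k) (Fin k) F)) ∧ (b : Matrix _ _ F) = B})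
      (fun K hK => factor_irr e P hirr hle K fun b hb v hv => hK _ ⟨b, hb, rfl⟩ v hv) (by
        rintro _ ⟨b, ⟨g, hg, g₀, a, rfl, hab⟩, rfl⟩
        obtain ⟨⟨μ, hμ⟩, -⟩ := (refForm hQ).tensor_similitude hgram hG₁ hG₂ (iso_polar hH hg) hab
        exact ⟨μ, by simpa using hμ⟩)
    have hneg : ∀ {n : ℕ} {G : Matrix (Fin n) (Fin n) F}, Gᵀ = G → Gᵀ = -G := fun hG => by
      rw [hG]; ext i j; exact (neg_eq_self_of_two_eq_zero h2 _).symm
    rcases le_total d k with hdk | hdk
    · exact .of_alternating_tensor hQ (by omega) hH hirr hd hdk e P hd₁ hd₂ (hneg hs₁) (hneg hs₂) hz₁ hz₂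
        hgram hle
    · exact .of_alternating_tensor hQ (by omega) hH hirr hk hdk _ P hd₂ hd₁ (hneg hs₂) (hneg hs₁) hz₂ hz₁
        (coordGram_prodComm hgram) (hle.trans (tensorProductSubgroup_le_swap e P))

theorem EvenOutcome.of_simple (hQ : Geo.IsNondegenerateQuadraticForm Q) [Nonempty ι]
    (hι : 2 ≤ Fintype.card ι) (hH : H ≤ isometryGroup F Q) {P : Subgroup (GL ι F)} (hP : SimpleCore H P) :
    EvenOutcome Q H := by
  have hfP := hP.le.trans (iso_polar hH)
  by_cases hF : ∃ F₁ : Subfield F, F₁ ≠ ⊤ ∧ Geo.RealisableOver F₁ (Geo.matrixSet P)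
  · obtain ⟨F₁, h1, h2⟩ := hF
    obtain ⟨F₀, r, B, ζ, hr, hcard, hζ, hrat, hle⟩ :=
      quad_to_subfield hQ hι hH hP.absIrred hP.le hP.normal h1 h2
    exact .subfield F₀ r B ζ hr hcard hζ hrat hle
  refine .residual ⟨P, hP.isResidualCore fun F₀ h0 h1 => hF ⟨F₀, h0, h1⟩, ?_⟩
  rintro ⟨σ, g, hg, hfix⟩
  exact hF (hP.absIrred.realisable_of_two_forms (σ₁ := σ) (σ₂ := RingEquiv.refl F)
    (fun h0 => hg.ne_refl (by rw [← h0]; rfl)) (RefForm.of_unitary hg) (refForm hQ)
    (fun x hx u v => hfix _ ⟨x, hx, rfl⟩ u v) hfP)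

/-- A totally isotropic invariant subspace. -/
theorem EvenOutcome.of_isotropic (hQ : Geo.IsNondegenerateQuadraticForm Q) (hH : H ≤ isometryGroup F Q)
    {W : Submodule F (ι → F)} (h0 : W ≠ ⊥) (hts : Geo.IsTotallySingularFor (QuadraticMap.polar Q) W)
    (hle : H ≤ Geo.subspaceStabilizer W) : EvenOutcome Q H := by
  by_cases hk : sqKer hQ W hts = ⊥
  swap
  · exact .totallySingular _ hk (fun w hw => hw.2) fun g hg => mem_subspaceStabilizer fun w hw =>
      ⟨((hle hg) w).1 hw.1, by rw [iso_fix hH hg]; exact hw.2⟩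
  have h1 := finrank_le_one_of_sqKer_bot hQ hts hk
  obtain ⟨v, hv, hv0⟩ := Submodule.exists_mem_ne_zero_of_ne_bot h0
  have hspan : Submodule.span F {v} = W := Submodule.eq_of_le_of_finrank_le
    ((Submodule.span_singleton_le_iff_mem _ _).2 hv) (by rw [finrank_span_singleton hv0]; exact h1)
  have hQv : Q v ≠ 0 := fun h => hv0 ((Submodule.mem_bot F).1 (hk ▸ (⟨hv, h⟩ : v ∈ sqKer hQ W hts)))
  refine .nonsingularPoint v (fun hodd => hQv ?_) hQv (hspan ▸ hle)
  exact (mul_eq_zero.1 (show (2 : F) * Q v = 0 by rw [← polar_self hQ]; exact hts v hv v hv)).resolve_left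
    (two_ne_zero_of_odd hodd)

/-- Aschbacher's theorem in even dimension, given that the class-two and tensor-power shapes do not occur. -/
theorem even_outcome (hQ : Geo.IsNondegenerateQuadraticForm Q) (hι : 4 ≤ Fintype.card ι)
    (heven : Even (Fintype.card ι)) (hH : H ≤ isometryGroup F Q)
    (hctwo : ∀ M, ClassTwo H M → False)
    (hcomm : ∀ (P : Subgroup (GL ι F)) (t : ℕ) (L : Fin t → Subgroup (GL ι F)), CommutingData H P L → False) :
    EvenOutcome Q H := by
  classical
  have : Nonempty ι := Fintype.card_pos_iff.1 (by omega)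
  by_cases hirr : Irr H
  swap
  · rcases reducible_cases (refForm hQ) (iso_polar hH) hirr with ⟨W, h0, hts, hle⟩ |
      ⟨W, h0, -, hnd, hdim, hle, -⟩ | ⟨D, k, hk, -, hD, hle⟩
    · exact .of_isotropic hQ hH h0 hts hle
    · exact .nondegenerate W h0 hnd hdim hle
    · exact .halves D k hk hD hle
  by_cases hnorm : ∀ A, A ≤ H → NormalIn H A → ¬ A ≤ Geo.scalars ι F → AbsIrr A
  swap
  · push Not at hnorm
    obtain ⟨N, hNH, hn, hs, ha⟩ := hnorm
    exact .of_clifford hQ hι heven hH hirr hs ha ((refForm hQ).clifford (iso_polar hH) hirr hNH hn)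
  cases normal_shape (show 2 ≤ Fintype.card ι by omega) hirr hnorm with
  | classTwo M hM => exact (hctwo M hM).elim
  | simple P hP => exact .of_simple hQ (by omega) hH hP
  | commuting P t L hP => exact (hcomm P t L hP).elim

/-- Aschbacher's theorem in an even dimension that is not a proper power. -/
theorem even_outcome_of_not_power (hQ : Geo.IsNondegenerateQuadraticForm Q) (hι : 4 ≤ Fintype.card ι)
    (heven : Even (Fintype.card ι)) (hH : H ≤ isometryGroup F Q)
    (hpow : ∀ d t : ℕ, 2 ≤ d → 2 ≤ t → Fintype.card ι ≠ d ^ t) : EvenOutcome Q H := by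
  have : Nonempty ι := Fintype.card_pos_iff.1 (by omega)
  refine even_outcome hQ hι heven hH (fun M hM => ?_) fun P t L hP => ?_
  · obtain ⟨k, hb⟩ := hM.bilinear (refForm hQ) (iso_polar hH)
    rcases Nat.lt_or_ge k 2 with hk | hk
    · have := hb.dim; interval_cases k <;> simp at this <;> omega
    · exact hpow 2 k le_rfl hk hb.dim
  · obtain ⟨d, e, B, N', G, c, l, hd⟩ := (refForm hQ).power_data (iso_polar hH) hP
    exact hpow d t hd.two_le hP.two_le (by simpa using Fintype.card_congr e)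

end Cfsg.Agent.Aschbacher.OrthEven
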