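import Cfsg.Agent.Lib.Aschbacher.OrthEven.Tensor
import Cfsg.Agent.Lib.Aschbacher.OrthEven.Outcome

/-!
A symmetric tensor decomposition `3 ⊗ 4` of a space of plus type refines an alternating decomposition
`2 ⊗ 6`, which is preserved by the elements of determinant one.
-/

set_option autoImplicit false
set_option linter.unusedSectionVars false
set_option maxHeartbeats 1000000

namespace Cfsg.Agent.Aschbacher.OrthEven

open Matrix
open scoped MatrixGroups Kronecker
open Cfsg.Agent.MaxCl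
open Module (finrank)

variable {ι : Type} [Fintype ι] [DecidableEq ι] {F : Type*} [Field F]

/-- The polar form of the determinant of two by two matrices. -/
def detPolar (M N : Matrix (Fin 2) (Fin 2) F) : F :=
  M 0 0 * N 1 1 + M 1 1 * N 0 0 - M 0 1 * N 1 0 - M 1 0 * N 0 1

theorem mulVec_kron {m k : ℕ} (a : Matrix (Fin m) (Fin m) F) (b : Matrix (Fin k) (Fin k) F)
    (x : Fin m × Fin k → F) (p : Fin m) (i : Fin k) :
    ((a ⊗ₖ b) *ᵥ x) (p, i) = ∑ q, a p q * (b *ᵥ fun j => x (q, j)) i := by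
  simp [Matrix.mulVec, dotProduct, Fintype.sum_prod_type, Finset.mul_sum, mul_assoc]

/-- Coordinates of a four dimensional symmetric form of plus type by two by two matrices. -/
theorem exists_det_coords [Fintype F] (h2 : (2 : F) ≠ 0) {f₂ : (Fin 4 → F) → (Fin 4 → F) → F}
    (hf₂ : Geo.IsSymmetricForm f₂) (hsq : IsSquare (Geo.gramMatrix f₂).det) :
    ∃ φ : Matrix (Fin 2) (Fin 2) F ≃ₗ[F] (Fin 4 → F), ∀ M N, 2 * f₂ (φ M) (φ N) = detPolar M N := by
  classical
  let β : LinearMap.BilinForm F (Fin 4 → F) := LinearMap.mk₂ F f₂ hf₂.bilinear.add_left hf₂.bilinear.smul_left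
    hf₂.bilinear.add_right hf₂.bilinear.smul_right
  have hβ : ∀ x y, β x y = f₂ x y := fun x y => rfl
  have hS : β.IsSymm := ⟨fun x y => hf₂.symm x y⟩
  have hl : ∀ x, (∀ y, β x y = 0) → x = 0 := fun x hx => by
    by_contra hne
    obtain ⟨y, hy⟩ := (hf₂.nondegenerate x hne).2
    exact hy (hx y)
  have hB : β.Nondegenerate := ⟨hl, fun y hy => hl y fun x => by rw [hβ, hf₂.symm]; exact hy x⟩
  have hmat : LinearMap.BilinForm.toMatrix (Pi.basisFun F (Fin 4)) β = Geo.gramMatrix f₂ := by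
    ext i j
    simp [LinearMap.BilinForm.toMatrix_apply, Geo.gramMatrix, hβ]
  obtain ⟨X, hXd, hX⟩ := (QForm.exists_isotropic_iff h2 hS hB (n := 2) (by simp) (Pi.basisFun F (Fin 4))).2
    (by rw [hmat]; simpa using hsq)
  set R : QuadraticForm F (Fin 4 → F) := LinearMap.BilinMap.toQuadraticMap β
  have hR : ∀ x, R x = f₂ x x := fun x => rfl
  have hpol : ∀ x y, QuadraticMap.polar (⇑R) x y = 2 * f₂ x y := fun x y => by
    rw [QuadraticMap.polar, hR, hR, hR, hf₂.bilinear.add_left, hf₂.bilinear.add_right, hf₂.bilinear.add_right,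
      hf₂.symm y x]
    ring
  have hRn : (QuadraticMap.polarBilin R).Nondegenerate := by
    have hl' : ∀ x, (∀ y, QuadraticMap.polarBilin R x y = 0) → x = 0 := fun x hx => hl x fun y => by
      have := hx y
      rw [QuadraticMap.polarBilin_apply_apply, hpol] at this
      exact (mul_eq_zero.1 this).resolve_left h2
    exact ⟨hl', fun y hy => hl' y fun x => (QuadraticMap.polar_comm _ _ _).trans (hy x)⟩
  let bX := Module.finBasisOfFinrankEq F X hXd
  obtain ⟨f, hp⟩ := QForm.exists_pairs_of_singular hRn (fun i => (bX i : Fin 4 → F))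
    (bX.linearIndependent.map' X.subtype X.ker_subtype) (fun i => by rw [hR]; exact hX _ (bX i).2 _ (bX i).2)
    (fun i j => by rw [hpol]; exact mul_eq_zero_of_right _ (hX _ (bX i).2 _ (bX j).2))
  set E := fun i => (bX i : Fin 4 → F)
  have hee : ∀ i j, QuadraticMap.polar (⇑R) (E i) (E j) = 0 := hp.hee
  have hef' : ∀ i j, QuadraticMap.polar (⇑R) (E i) (f j) = if i = j then 1 else 0 := hp.hef
  clear_value E
  let φ : Matrix (Fin 2) (Fin 2) F →ₗ[F] (Fin 4 → F) :=
    { toFun := fun M => M 0 0 • E 0 + M 1 1 • f 0 + (M 0 1 • E 1 - M 1 0 • f 1)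
      map_add' := fun M N => by simp only [Matrix.add_apply]; module
      map_smul' := fun c M => by simp only [Matrix.smul_apply, smul_eq_mul, RingHom.id_apply]; module }
  have hef : ∀ i j, QuadraticMap.polar (⇑R) (f i) (E j) = if j = i then 1 else 0 := fun i j => by
    rw [QuadraticMap.polar_comm]; exact hp.hef j i
  have hφ : ∀ M N, 2 * f₂ (φ M) (φ N) = detPolar M N := fun M N => by
    rw [← hpol]
    show QuadraticMap.polarBilin R (φ M) (φ N) = _
    simp only [φ, LinearMap.coe_mk, AddHom.coe_mk, map_add, map_sub, map_smul, LinearMap.add_apply,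
      LinearMap.sub_apply, LinearMap.smul_apply, QuadraticMap.polarBilin_apply_apply, smul_eq_mul]
    simp only [hee, hp.hff, hef', hef, detPolar]
    simp
    ring
  have hinj : Function.Injective φ := by
    rw [injective_iff_map_eq_zero]
    intro M hM
    have key : ∀ N, detPolar M N = 0 := fun N => by
      rw [← hφ, hM, show f₂ 0 (φ N) = β 0 (φ N) from rfl, map_zero, LinearMap.zero_apply, mul_zero]
    have e1 := key (Matrix.single 1 1 1)
    have e2 := key (Matrix.single 0 0 1)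
    have e3 := key (Matrix.single 1 0 1)
    have e4 := key (Matrix.single 0 1 1)
    simp [detPolar] at e1 e2 e3 e4
    ext i j
    fin_cases i <;> fin_cases j <;> assumption
  exact ⟨LinearEquiv.ofBijective φ ⟨hinj, (LinearMap.injective_iff_surjective_of_finrank_eq_finrank
    (by simp [Module.finrank_matrix])).1 hinj⟩, hφ⟩

/-- The refinement of a decomposition `3 ⊗ 4` with symmetric factors in a space of plus type. -/
theorem tensor_refine [Fintype F] {Q : QuadraticForm F (ι → F)} (hQ : (QuadraticMap.polarBilin Q).Nondegenerate)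
    (hG : Geo.IsNondegenerateQuadraticForm (⇑Q)) (hodd : Odd (Fintype.card F))
    (hplus : Geo.IsPlusTypeOn (⇑Q) ⊤) (e : ι ≃ Fin 3 × Fin 4) (P : GL ι F)
    {f₁ : (Fin 3 → F) → (Fin 3 → F) → F} {f₂ : (Fin 4 → F) → (Fin 4 → F) → F}
    (hf₁ : Geo.IsSymmetricForm f₁) (hf₂ : Geo.IsSymmetricForm f₂)
    (hstr : Geo.IsTensorFormStructure id (QuadraticMap.polar (⇑Q)) f₁ f₂ e P)
    {H : Subgroup (GL ι F)} (hHI : H ≤ isometryGroup F (⇑Q)) (hdet : ∀ g ∈ H, (g : Matrix ι ι F).det = 1)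
    (hle : H ≤ Geo.tensorProductSubgroup 3 4 e P) :
    ∃ (e' : ι ≃ Fin 2 × Fin 6) (P' : GL ι F) (g₁ : (Fin 2 → F) → (Fin 2 → F) → F)
      (g₂ : (Fin 6 → F) → (Fin 6 → F) → F), Geo.IsSymplecticForm g₁ ∧ Geo.IsSymplecticForm g₂ ∧
      Geo.IsTensorFormStructure id (QuadraticMap.polar (⇑Q)) g₁ g₂ e' P' ∧
      (∀ (x₁ : Fin 2 → F) (x₂ : Fin 6 → F),
        Q ((P' : Matrix ι ι F) *ᵥ ((fun a : Fin 2 × Fin 6 => x₁ a.1 * x₂ a.2) ∘ e')) = 0) ∧
      H ≤ Geo.tensorProductSubgroup 2 6 e' P' := by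
  classical
  have h2 := two_ne_zero_of_odd hodd
  have hcard : Fintype.card ι = 12 := by rw [Fintype.card_congr e]; simp
  obtain ⟨c, hc, hpure⟩ := SpExplicit.form_pureVec hf₁.bilinear hf₂.bilinear hstr
  set G₁ := Geo.gramMatrix f₁
  set G₂ := Geo.gramMatrix f₂
  let lam₀ : (Fin 3 × Fin 4 → F) →ₗ[F] (ι → F) :=
    (Matrix.toLin' (P : Matrix ι ι F)).comp (LinearMap.funLeft F F e)
  have hlinj : Function.Injective lam₀ := fun x y hxy => funext fun z => by
    have h1 := congrFun (mulVec_injective P (show (P : Matrix ι ι F) *ᵥ (x ∘ e) = (P : Matrix ι ι F) *ᵥ (y ∘ e)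
      by simpa [lam₀, LinearMap.funLeft] using hxy)) (e.symm z)
    simpa using h1
  let lam : (Fin 3 × Fin 4 → F) ≃ₗ[F] (ι → F) := LinearEquiv.ofBijective lam₀
    ⟨hlinj, (LinearMap.injective_iff_surjective_of_finrank_eq_finrank
      (by simp [Fintype.card_congr e])).1 hlinj⟩
  have hlam : ∀ x, lam x = (P : Matrix ι ι F) *ᵥ (x ∘ e) := fun x => by simp [lam, lam₀, LinearMap.funLeft]
  clear_value lam
  have hsingle : ∀ z : Fin 3 × Fin 4, (Pi.single z (1 : F) : Fin 3 × Fin 4 → F) =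
      fun a => (Pi.single z.1 1 : Fin 3 → F) a.1 * (Pi.single z.2 1 : Fin 4 → F) a.2 := fun z => funext fun a => by
    simp [Pi.single_apply, Prod.ext_iff, ← ite_and, and_comm]
  -- the form on general vectors
  have hform : ∀ x y, QuadraticMap.polar (⇑Q) (lam x) (lam y) =
      c * ∑ p, ∑ q, G₁ p q * f₂ (fun i => x (p, i)) (fun i => y (q, i)) := by
    intro x y
    have hdec : ∀ x, lam x = ∑ p, pureLin e P (Pi.single p 1) fun i => x (p, i) := fun x => by
      rw [hlam]
      simp only [pureLin, LinearMap.mk₂_apply, SpExplicit.pureVec, ← Matrix.mulVec_sum]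
      congr 1
      funext l
      simp [Pi.single_apply]
    rw [hdec, hdec, ← QuadraticMap.polarBilin_apply_apply, map_sum]
    simp only [LinearMap.sum_apply, map_sum, QuadraticMap.polarBilin_apply_apply, pureLin, LinearMap.mk₂_apply,
      hpure, Finset.mul_sum]
    rw [Finset.sum_comm]
    rfl
  -- the second factor is of plus type
  have hG₁ : G₁.det ≠ 0 ∧ G₁ᵀ = G₁ ∧ G₂.det ≠ 0 := by
    refine ⟨?_, Matrix.ext fun i j => hf₁.symm _ _, ?_⟩ <;>
    · intro h0
      obtain ⟨v, hv, hv0⟩ := Matrix.exists_mulVec_eq_zero_iff.2 h0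
      first
        | (obtain ⟨y, hy⟩ := (hf₁.nondegenerate v hv).1
           refine hy ?_
           rw [SpExplicit.bilinear_eq_gram hf₁.bilinear y v]
           exact Finset.sum_eq_zero fun a _ => by
             simp only [mul_assoc, ← Finset.mul_sum]
             exact mul_eq_zero_of_right _ (congrFun hv0 a))
        | (obtain ⟨y, hy⟩ := (hf₂.nondegenerate v hv).1
           refine hy ?_
           rw [SpExplicit.bilinear_eq_gram hf₂.bilinear y v]
           exact Finset.sum_eq_zero fun a _ => by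
             simp only [mul_assoc, ← Finset.mul_sum]
             exact mul_eq_zero_of_right _ (congrFun hv0 a))
  obtain ⟨hd₁, hs₁, hd₂⟩ := hG₁
  have hsq : IsSquare G₂.det := by
    let bV := (Pi.basisFun F (Fin 3 × Fin 4)).map lam
    obtain ⟨X, -, hX, hXd⟩ := hplus
    rw [finrank_top, Module.finrank_pi, hcard] at hXd
    obtain ⟨r, hr⟩ := QForm.isSquare_of_isotropic (B := QuadraticMap.polarBilin Q)
      ⟨fun x y => QuadraticMap.polar_comm _ x y⟩ (n := 6) (by rw [Module.finrank_pi, hcard]) (by omega)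
      (fun x hx y hy => Orth.B_eq_zero_of_singular hX hx hy) bV
    have hmat : LinearMap.BilinForm.toMatrix bV (QuadraticMap.polarBilin Q) = c • (G₁ ⊗ₖ G₂) := by
      ext z z'
      rw [LinearMap.BilinForm.toMatrix_apply, QuadraticMap.polarBilin_apply_apply]
      simp only [bV, Module.Basis.map_apply, Pi.basisFun_apply, hlam, hsingle]
      exact hpure _ _ _ _
    rw [hmat, Matrix.det_smul, Matrix.det_kronecker] at hr
    simp only [Fintype.card_prod, Fintype.card_fin] at hr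
    refine ⟨r / (c ^ 6 * G₁.det ^ 2 * G₂.det), ?_⟩
    field_simp
    linear_combination hr
  obtain ⟨φ, hφ⟩ := exists_det_coords h2 hf₂ hsq
  -- the factors of an element
  have hfac : ∀ g ∈ H, ∃ (a : Matrix (Fin 3) (Fin 3) F) (A C : Matrix (Fin 2) (Fin 2) F),
      a.det ≠ 0 ∧ A.det ≠ 0 ∧ C.det ≠ 0 ∧ ∀ x : Fin 3 × Fin 4 → F, ∀ p i,
        lam.symm ((g : Matrix ι ι F) *ᵥ lam x) (p, i) =
          ∑ q, a p q * φ (A * φ.symm (fun j => x (q, j)) * C) i := by
    intro g hg
    obtain ⟨g₀, a, b, hge, hab⟩ := exists_of_mem_tensorProductSubgroup (hle hg)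
    have hact : ∀ x, (g : Matrix ι ι F) *ᵥ lam x = lam ((g₀ : Matrix (Fin 3 × Fin 4) (Fin 3 × Fin 4) F) *ᵥ x) := fun x => by
      rw [hlam, hlam, ← hge, coordGL_mulVec]
    have hdet' : (a : Matrix (Fin 3) (Fin 3) F).det ^ 4 * (b : Matrix (Fin 4) (Fin 4) F).det ^ 3 = 1 := by
      rw [← hdet g hg, ← hge, coordGL_val, coordEquiv_apply, Matrix.det_units_conj,
        Matrix.det_submatrix_equiv_self, hab, Matrix.det_kronecker, Fintype.card_fin, Fintype.card_fin]
    have hpv : ∀ x y, (g : Matrix ι ι F) *ᵥ SpExplicit.pureVec e P x y =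
        SpExplicit.pureVec e P ((a : Matrix (Fin 3) (Fin 3) F) *ᵥ x) ((b : Matrix (Fin 4) (Fin 4) F) *ᵥ y) := fun x y => by
      rw [SpExplicit.pureVec, ← hge, coordGL_mulVec, hab, SpExplicit.pureVec]
      congr 1
      funext l
      simp [Function.comp_apply, Matrix.mulVec, dotProduct, Fintype.sum_prod_type, Finset.sum_mul_sum, mul_assoc,
        mul_comm, mul_left_comm]
    have hinv : ∀ x y x' y', f₁ ((a : Matrix (Fin 3) (Fin 3) F) *ᵥ x) ((a : Matrix (Fin 3) (Fin 3) F) *ᵥ x') *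
        f₂ ((b : Matrix (Fin 4) (Fin 4) F) *ᵥ y) ((b : Matrix (Fin 4) (Fin 4) F) *ᵥ y') = f₁ x x' * f₂ y y' := fun x y x' y' => by
      refine mul_left_cancel₀ hc ?_
      rw [← hpure, ← hpure, ← hpv, ← hpv, ← act_apply, ← act_apply, Orth.B_act (hHI hg)]
    obtain ⟨x₀, hx₀⟩ := exists_ne (0 : Fin 3 → F)
    obtain ⟨x₀', hx₀'⟩ := (hf₁.nondegenerate x₀ hx₀).2
    obtain ⟨y₀, hy₀⟩ := exists_ne (0 : Fin 4 → F)
    obtain ⟨y₀', hy₀'⟩ := (hf₂.nondegenerate y₀ hy₀).2
    have hlv : f₁ ((a : Matrix (Fin 3) (Fin 3) F) *ᵥ x₀) ((a : Matrix (Fin 3) (Fin 3) F) *ᵥ x₀') ≠ 0 := fun h =>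
      mul_ne_zero hx₀' hy₀' (by rw [← hinv x₀ y₀ x₀' y₀', h, zero_mul])
    obtain ⟨μ, hμd⟩ : ∃ μ : F, μ * f₁ ((a : Matrix (Fin 3) (Fin 3) F) *ᵥ x₀) ((a : Matrix (Fin 3) (Fin 3) F) *ᵥ x₀') =
        f₁ x₀ x₀' := ⟨_, div_mul_cancel₀ _ hlv⟩
    have hμ : μ ≠ 0 := fun h => hx₀' (by rw [← hμd, h, zero_mul])
    have hb2 : ∀ y y', f₂ ((b : Matrix (Fin 4) (Fin 4) F) *ᵥ y) ((b : Matrix (Fin 4) (Fin 4) F) *ᵥ y') =
        μ * f₂ y y' := fun y y' => mul_left_cancel₀ hlv (by
      rw [hinv, ← hμd]; ring)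
    have ha2 : ∀ x x', f₁ ((a : Matrix (Fin 3) (Fin 3) F) *ᵥ x) ((a : Matrix (Fin 3) (Fin 3) F) *ᵥ x') = μ⁻¹ * f₁ x x' := fun x x' => by
      have h1 := hinv x y₀ x' y₀'
      rw [hb2] at h1
      field_simp
      refine mul_right_cancel₀ hy₀' ?_
      linear_combination h1
    have hgramdet : ∀ {m : ℕ} {f : (Fin m → F) → (Fin m → F) → F} (M : Matrix (Fin m) (Fin m) F) (s : F),
        Geo.IsBilinearForm f → (∀ x x', f (M *ᵥ x) (M *ᵥ x') = s * f x x') → (Geo.gramMatrix f).det ≠ 0 →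
        M.det ^ 2 = s ^ m := by
      intro m f M s hf hM hd
      have hmat : Mᵀ * Geo.gramMatrix f * M = s • Geo.gramMatrix f := by
        ext i j
        show _ = s * f _ _
        rw [← hM, SpExplicit.bilinear_eq_gram hf]
        simp only [Matrix.mul_apply, Matrix.transpose_apply, Matrix.mulVec_single_one, Matrix.col_apply,
          Finset.sum_mul]
        exact Finset.sum_comm
      have h1 := congrArg Matrix.det hmat
      rw [Matrix.det_mul, Matrix.det_mul, Matrix.det_transpose, Matrix.det_smul, Fintype.card_fin] at h1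
      exact mul_right_cancel₀ hd (by linear_combination h1)
    have hb_sq := hgramdet (b : Matrix (Fin 4) (Fin 4) F) μ hf₂.bilinear hb2 hd₂
    have ha_sq := hgramdet (a : Matrix (Fin 3) (Fin 3) F) μ⁻¹ hf₁.bilinear ha2 hd₁
    have hbdet : (b : Matrix (Fin 4) (Fin 4) F).det = μ ^ 2 := by
      rcases mul_eq_zero.1 (show ((b : Matrix (Fin 4) (Fin 4) F).det - μ ^ 2) * ((b : Matrix (Fin 4) (Fin 4) F).det + μ ^ 2) = 0 by
        linear_combination hb_sq) with h | h
      · exact sub_eq_zero.1 h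
      · exfalso
        rw [show (a : Matrix (Fin 3) (Fin 3) F).det ^ 4 = (μ⁻¹ ^ 3) ^ 2 by rw [← ha_sq]; ring,
          eq_neg_of_add_eq_zero_left h] at hdet'
        have h3 : (μ⁻¹ ^ 3) ^ 2 * (μ ^ 2) ^ 3 = 1 := by field_simp
        exact h2 (by linear_combination -hdet' - h3)
    let T : Matrix (Fin 2) (Fin 2) F →ₗ[F] Matrix (Fin 2) (Fin 2) F :=
      φ.symm.toLinearMap ∘ₗ Matrix.toLin' (b : Matrix (Fin 4) (Fin 4) F) ∘ₗ φ.toLinearMap
    have hTφ : ∀ M, φ (T M) = (b : Matrix (Fin 4) (Fin 4) F) *ᵥ φ M := fun M => by simp [T]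
    have hTdet : ∀ M, (T M).det = μ * M.det := fun M => by
      refine mul_left_cancel₀ h2 ?_
      have h1 : ∀ N : Matrix (Fin 2) (Fin 2) F, 2 * N.det = detPolar N N := fun N => by
        simp [detPolar, Matrix.det_fin_two]; ring
      rw [h1, ← hφ, hTφ, hb2, mul_left_comm 2 μ, hφ, ← h1, mul_left_comm]
    have hTinj : Function.Injective T := fun M N hMN => φ.injective (mulVec_injective b (show
      (b : Matrix (Fin 4) (Fin 4) F) *ᵥ φ M = (b : Matrix (Fin 4) (Fin 4) F) *ᵥ φ N by rw [← hTφ, ← hTφ, hMN]))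
    obtain ⟨A, C, hAC, hT | hT⟩ := det_similitude_cases T hμ hTdet hTinj
    swap
    · exfalso
      have h1 : LinearMap.det T = (b : Matrix (Fin 4) (Fin 4) F).det := by
        rw [show T = (φ.symm : (Fin 4 → F) →ₗ[F] _) ∘ₗ Matrix.toLin' (b : Matrix (Fin 4) (Fin 4) F) ∘ₗ
          (φ.symm.symm : Matrix (Fin 2) (Fin 2) F →ₗ[F] _) from rfl, LinearMap.det_conj, LinearMap.det_toLin']
      rw [det_transpose_similitude hT, hAC, hbdet] at h1
      exact mul_ne_zero h2 (pow_ne_zero 2 hμ) (by linear_combination -h1)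
    refine ⟨(a : Matrix (Fin 3) (Fin 3) F), A, C, ?_, fun h => hμ (by rw [← hAC, h, zero_mul]),
      fun h => hμ (by rw [← hAC, h, mul_zero]), fun x p i => ?_⟩
    · exact (Matrix.isUnit_iff_isUnit_det _).1 a.isUnit |>.ne_zero
    rw [hact, LinearEquiv.symm_apply_apply, hab, mulVec_kron]
    refine Finset.sum_congr rfl fun q _ => ?_
    rw [← hT, hTφ, LinearEquiv.apply_symm_apply]
  -- the new coordinates
  let e6 : Fin 6 ≃ Fin 3 × Fin 2 := (finProdFinEquiv (m := 3) (n := 2)).symm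
  let e' : ι ≃ Fin 2 × Fin 6 := Fintype.equivOfCardEq (by rw [hcard]; simp)
  let blk : (Fin 2 × Fin 6 → F) → Fin 3 → Matrix (Fin 2) (Fin 2) F := fun z p =>
    Matrix.of fun r s => z (r, e6.symm (p, s))
  let ψ : (Fin 2 × Fin 6 → F) →ₗ[F] (Fin 3 × Fin 4 → F) :=
    { toFun := fun z u => φ (blk z u.1) u.2
      map_add' := fun z z' => funext fun u => by
        show φ _ _ = φ _ _ + φ _ _
        rw [← Pi.add_apply (φ _) (φ _), ← map_add]
        rfl
      map_smul' := fun d z => funext fun u => by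
        show φ _ _ = d * φ _ _
        rw [← smul_eq_mul, ← Pi.smul_apply d (φ _), ← map_smul]
        rfl }
  have hψ : ∀ z p, (fun i => ψ z (p, i)) = φ (blk z p) := fun z p => rfl
  have hψinj : Function.Injective ψ := by
    rw [injective_iff_map_eq_zero]
    intro z hz
    funext ⟨r, l⟩
    have h1 : blk z (e6 l).1 = 0 := φ.map_eq_zero_iff.1 (by rw [← hψ, hz]; rfl)
    simpa [blk] using congrFun (congrFun h1 r) (e6 l).2
  let Ψ : (Fin 2 × Fin 6 → F) ≃ₗ[F] (ι → F) := (LinearEquiv.ofBijective ψ ⟨hψinj,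
    (LinearMap.injective_iff_surjective_of_finrank_eq_finrank (by simp)).1 hψinj⟩).trans lam
  have hΨ : ∀ z, Ψ z = lam (ψ z) := fun z => rfl
  obtain ⟨P', hP'⟩ : ∃ P' : GL ι F, ∀ z, (P' : Matrix ι ι F) *ᵥ (z ∘ e') = lam (ψ z) := by
    let E := (LinearEquiv.funCongrLeft F F e'.symm).trans Ψ
    refine ⟨⟨LinearMap.toMatrix' (E : (ι → F) →ₗ[F] (ι → F)),
      LinearMap.toMatrix' (E.symm : (ι → F) →ₗ[F] (ι → F)),
      by rw [← LinearMap.toMatrix'_comp]; simp, by rw [← LinearMap.toMatrix'_comp]; simp⟩, fun z => ?_⟩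
    show LinearMap.toMatrix' (E : (ι → F) →ₗ[F] (ι → F)) *ᵥ _ = _
    rw [LinearMap.toMatrix'_mulVec, ← hΨ]
    show Ψ _ = _
    congr 1
    funext l
    simp [LinearEquiv.funCongrLeft, LinearMap.funLeft]
  clear_value ψ e'
  have hB' : ∀ z z', QuadraticMap.polar (⇑Q) (lam (ψ z)) (lam (ψ z')) =
      c / 2 * ∑ p, ∑ q, G₁ p q * detPolar (blk z p) (blk z' q) := fun z z' => by
    rw [hform, div_mul_eq_mul_div, eq_div_iff h2, mul_assoc, Finset.sum_mul]
    congr 1
    refine Finset.sum_congr rfl fun p _ => ?_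
    rw [Finset.sum_mul]
    refine Finset.sum_congr rfl fun q _ => ?_
    rw [hψ, hψ, ← hφ]; ring
  let J : Matrix (Fin 2) (Fin 2) F := !![0, 1; -1, 0]
  let G : Matrix (Fin 6) (Fin 6) F := ((c / 2) • (G₁ ⊗ₖ J)).submatrix e6 e6
  have hJd : J.det = 1 := by simp [J, Matrix.det_fin_two]
  have hJt : Jᵀ = -J := by ext i j; fin_cases i <;> fin_cases j <;> simp [J]
  have hc2 : c / 2 ≠ 0 := div_ne_zero hc h2
  have hGd : G.det ≠ 0 := by
    rw [Matrix.det_submatrix_equiv_self, Matrix.det_smul, Matrix.det_kronecker, hJd]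
    exact mul_ne_zero (pow_ne_zero _ hc2) (mul_ne_zero (pow_ne_zero _ hd₁) (by simp))
  have hGt : Gᵀ = -G := by
    rw [Matrix.transpose_submatrix, Matrix.transpose_smul, ← Matrix.kroneckerMap_transpose, hs₁, hJt]
    ext i j
    simp [Matrix.neg_apply, G]
  have hGz : ∀ i, G i i = 0 := fun i => by
    simp only [G, Matrix.submatrix_apply, Matrix.smul_apply, Matrix.kroneckerMap_apply]
    have : ∀ s, J s s = 0 := fun s => by fin_cases s <;> simp [J]
    rw [this]; simp
  have hJz : ∀ i, J i i = 0 := fun s => by fin_cases s <;> simp [J]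
  have hgram : coordGram (QuadraticMap.polar (⇑Q)) e' P' = J ⊗ₖ G := by
    ext ⟨r, l⟩ ⟨r', l'⟩
    simp only [coordGram, Geo.gramMatrix, coordForm]
    rw [hP', hP', hB']
    have hblk : ∀ (r : Fin 2) (l : Fin 6) (p : Fin 3), blk (Pi.single (r, l) 1) p =
        if p = (e6 l).1 then Matrix.single r (e6 l).2 1 else 0 := fun r l p => by
      ext i j
      obtain ⟨⟨p', s⟩, rfl⟩ := e6.symm.surjective l
      simp only [blk, Matrix.of_apply, Equiv.apply_symm_apply]
      by_cases hp : p = p'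
      · subst hp
        rw [if_pos rfl, Matrix.single_apply, Pi.single_apply]
        refine if_congr ?_ rfl rfl
        simp [eq_comm]
      · rw [if_neg hp, Pi.single_eq_of_ne, Matrix.zero_apply]
        simp [hp]
    have hdp : ∀ r s r' s' : Fin 2, detPolar (Matrix.single r s (1 : F)) (Matrix.single r' s' 1) = J r r' * J s s' := by
      intro r s r' s'
      fin_cases r <;> fin_cases s <;> fin_cases r' <;> fin_cases s' <;> simp [detPolar, J]
    rw [Finset.sum_eq_single (e6 l).1 (fun p _ hp => Finset.sum_eq_zero fun q _ => by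
      rw [hblk r l p, if_neg hp]; simp [detPolar]) (by simp), Finset.sum_eq_single (e6 l').1 (fun q _ hq => by
      rw [hblk r' l' q, if_neg hq]; simp [detPolar]) (by simp), hblk, hblk, if_pos rfl, if_pos rfl, hdp]
    simp [G]
    ring
  refine ⟨e', P', matForm id J, matForm id G, matForm_symplectic (by rw [hJd]; exact one_ne_zero) hJt hJz,
    matForm_symplectic hGd hGt hGz, (refForm hG).tensorFormStructure hgram, fun x₁ x₂ => ?_, fun g hg => ?_⟩
  · refine (mul_eq_zero.1 (show (2 : F) * Q _ = 0 from ?_)).resolve_left h2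
    rw [← Orth.B_self Q, hP', hB']
    refine mul_eq_zero_of_right _ (Finset.sum_eq_zero fun p _ => Finset.sum_eq_zero fun q _ => ?_)
    simp [detPolar, blk]
    ring_nf
    exact Or.inr trivial
  · obtain ⟨a, A, C, had, hAd, hCd, hact⟩ := hfac g hg
    let b6 : Matrix (Fin 6) (Fin 6) F := (a ⊗ₖ Cᵀ).submatrix e6 e6
    have hb6 : b6.det ≠ 0 := by
      rw [Matrix.det_submatrix_equiv_self, Matrix.det_kronecker, Matrix.det_transpose]
      exact mul_ne_zero (pow_ne_zero _ had) (pow_ne_zero _ hCd)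
    let A' := Matrix.GeneralLinearGroup.mkOfDetNeZero A hAd
    let B' := Matrix.GeneralLinearGroup.mkOfDetNeZero b6 hb6
    have hk : (A ⊗ₖ b6).det ≠ 0 := by
      rw [Matrix.det_kronecker]; exact mul_ne_zero (pow_ne_zero _ hAd) (pow_ne_zero _ hb6)
    let g₀ := Matrix.GeneralLinearGroup.mkOfDetNeZero (A ⊗ₖ b6) hk
    suffices hgg : g = coordGL e' P' g₀ from hgg ▸ mem_tensorProductSubgroup e' P' ⟨A', B', rfl⟩
    refine Units.ext (Matrix.ext_of_mulVec_single fun i => ?_)
    obtain ⟨z, hz⟩ : ∃ z, Ψ z = Pi.single i 1 := Ψ.surjective _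
    rw [← hz, hΨ]
    conv_rhs => rw [← hP', coordGL_mulVec, hP']
    apply lam.symm.injective
    rw [LinearEquiv.symm_apply_apply]
    funext ⟨p, k⟩
    rw [hact]
    show _ = (fun i => ψ ((g₀ : Matrix (Fin 2 × Fin 6) (Fin 2 × Fin 6) F) *ᵥ z) (p, i)) k
    rw [hψ]
    have hblk : blk ((g₀ : Matrix (Fin 2 × Fin 6) (Fin 2 × Fin 6) F) *ᵥ z) p = ∑ q, a p q • (A * blk z q * C) := by
      ext r s
      show ((A ⊗ₖ b6) *ᵥ z) (r, e6.symm (p, s)) = _
      rw [mulVec_kron, Matrix.sum_apply]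
      simp only [Matrix.mulVec, dotProduct, Matrix.smul_apply, smul_eq_mul, Matrix.mul_apply, Finset.mul_sum,
        Finset.sum_mul, b6, Matrix.submatrix_apply, Equiv.apply_symm_apply, Matrix.kroneckerMap_apply,
        Matrix.transpose_apply, blk, Matrix.of_apply]
      conv_lhs => arg 2; ext r'; rw [← e6.symm.sum_comp, Fintype.sum_prod_type]
      rw [Finset.sum_comm]
      refine Finset.sum_congr rfl fun q _ => ?_
      rw [Finset.sum_comm]
      refine Finset.sum_congr rfl fun s' _ => Finset.sum_congr rfl fun r' _ => ?_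
      simp only [Equiv.apply_symm_apply]
      ring
    rw [hblk, map_sum, Finset.sum_apply]
    refine Finset.sum_congr rfl fun q _ => ?_
    rw [map_smul, Pi.smul_apply, smul_eq_mul, hψ, LinearEquiv.symm_apply_apply]

end Cfsg.Agent.Aschbacher.OrthEven
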