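import Cfsg.Agent.Lib.Aschbacher.OrthEven.Common
import Cfsg.Agent.Lib.MaxCl.OrthDecompMax
import Cfsg.Agent.Lib.QForm.Classify
import Cfsg.Agent.Lib.QForm.PlusType
import Cfsg.Agent.Lib.Semisimple.OrthBlocks

/-!
The type of the members of a decomposition against the type of the whole space: totally singular complements
and discriminants.
-/

set_option autoImplicit false
set_option linter.unusedSectionVars false

namespace Cfsg.Agent.Aschbacher.OrthEven

open Matrix
open scoped MatrixGroups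
open Cfsg.Agent.MaxCl
open Module (finrank)

variable {ι : Type} [Fintype ι] [DecidableEq ι] {F : Type*} [Field F] [Fintype F]
variable {Q : QuadraticForm F (ι → F)} (hQ : (QuadraticMap.polarBilin Q).Nondegenerate)

set_option quotPrecheck false in
local notation "B" => QuadraticMap.polar (⇑Q)

include hQ

/-- In a space of plus type the orthogonal complement of a hyperbolic subspace is of plus type. -/
theorem plus_of_singular_complement (hplus : Geo.IsPlusTypeOn (⇑Q) ⊤) {W : Submodule F (ι → F)}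
    (hW : Orth.NonDeg Q W) {U : Submodule F (ι → F)} (hU : ∀ x ∈ U, Q x = 0) (hUW : U ≤ Orth.perp Q W)
    (hd : 2 * finrank F U + finrank F W = Fintype.card ι) : Geo.IsPlusTypeOn (⇑Q) W := by
  obtain ⟨X, -, hX, hXd⟩ := hplus
  rw [finrank_top, Module.finrank_pi] at hXd
  -- extend `U` to a maximal totally singular subspace
  set U' := U ⊔ X ⊓ Orth.perp Q U
  have hWp : U' ≤ Orth.perp Q U := sup_le (fun x hx w hw => Orth.B_eq_zero_of_singular hU hw hx) inf_le_right
  have hU' : ∀ x ∈ U', Q x = 0 := by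
    intro x hx
    obtain ⟨a, ha, b, hb, rfl⟩ := Submodule.mem_sup.1 hx
    rw [Orth.Q_add Q, hU a ha, hX b hb.1, Orth.orth hb.2 ha]; ring
  have hd' : Fintype.card ι ≤ 2 * finrank F U' := by
    have h1 := Submodule.finrank_sup_add_finrank_inf_eq U (X ⊓ Orth.perp Q U)
    have h2 := Submodule.finrank_mono (inf_le_inf_left U (inf_le_left (b := Orth.perp Q U)) :
      U ⊓ (X ⊓ Orth.perp Q U) ≤ U ⊓ X)
    have h3 := Submodule.finrank_sup_add_finrank_inf_eq X (Orth.perp Q U)
    have h4 := Submodule.finrank_sup_add_finrank_inf_eq U X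
    -- `perp (X ∩ U)` contains `X + perp U`
    have h5 : finrank F ↥(X ⊔ Orth.perp Q U) ≤ finrank F ↥(Orth.perp Q (U ⊓ X)) :=
      Submodule.finrank_mono (sup_le (fun x hx w hw => Orth.B_eq_zero_of_singular hX hw.2 hx)
        fun x hx w hw => hx w hw.1)
    rw [Orth.finrank_perp hQ] at h5 h3
    have h6 := Submodule.finrank_le (U ⊓ X)
    have h7 := Submodule.finrank_le U
    rw [Module.finrank_pi] at h6 h7
    have h8 := Orth.two_mul_finrank_le_of_singular hQ hU'
    show _ ≤ 2 * finrank F ↥(U ⊔ X ⊓ Orth.perp Q U)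
    omega
  -- it splits along `U` and `W`
  have hdisj : U ⊓ W = ⊥ := eq_bot_iff.2 fun x hx =>
    (Submodule.mem_bot F).2 (hW x hx.2 fun y hy => (Orth.B_comm Q x y).trans (hUW hx.1 y hy))
  have hsum : U ⊔ W = Orth.perp Q U := by
    refine Submodule.eq_of_le_of_finrank_le (sup_le (fun x hx w hw => Orth.B_eq_zero_of_singular hU hw hx)
      fun x hx w hw => (Orth.B_comm Q w x).trans (hUW hw x hx)) ?_
    have h1 := Submodule.finrank_sup_add_finrank_inf_eq U W
    rw [hdisj, finrank_bot, add_zero] at h1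
    rw [Orth.finrank_perp hQ]
    omega
  have hsplit : U ⊔ U' ⊓ W = U' := by
    rw [inf_comm U' W, ← sup_inf_assoc_of_le W (le_sup_left : U ≤ U'), hsum]
    exact inf_eq_right.2 hWp
  refine ⟨U' ⊓ W, inf_le_right, fun x hx => hU' x hx.1, ?_⟩
  have h1 := Submodule.finrank_sup_add_finrank_inf_eq U (U' ⊓ W)
  rw [hsplit, show U ⊓ (U' ⊓ W) = ⊥ from eq_bot_iff.2 fun x hx => hdisj.le ⟨hx.1, hx.2.2⟩, finrank_bot,
    add_zero] at h1
  have h8 := Orth.two_mul_finrank_le_of_singular hQ hU'
  omega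

/-- A hyperbolic subspace orthogonal to a subspace of plus type gives plus type. -/
theorem plus_of_complement {W : Submodule F (ι → F)} (hW : Orth.NonDeg Q W)
    (hplus : Geo.IsPlusTypeOn (⇑Q) W) {U : Submodule F (ι → F)} (hU : ∀ x ∈ U, Q x = 0)
    (hUW : U ≤ Orth.perp Q W) (hd : 2 * finrank F U + finrank F W = Fintype.card ι) :
    Geo.IsPlusTypeOn (⇑Q) ⊤ := by
  obtain ⟨X, hXW, hX, hXd⟩ := hplus
  refine ⟨U ⊔ X, le_top, fun x hx => ?_, ?_⟩
  · obtain ⟨a, ha, b, hb, rfl⟩ := Submodule.mem_sup.1 hx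
    rw [Orth.Q_add Q, hU a ha, hX b hb, Orth.B_comm Q, Orth.orth (hUW ha) (hXW hb)]; ring
  · have h1 := Submodule.finrank_sup_add_finrank_inf_eq U X
    rw [show U ⊓ X = ⊥ from eq_bot_iff.2 fun x hx => (Submodule.mem_bot F).2
      (hW x (hXW hx.2) fun y hy => (Orth.B_comm Q x y).trans (hUW hx.1 y hy)), finrank_bot, add_zero] at h1
    rw [finrank_top, Module.finrank_pi]
    omega

/-- Two isometric members of even dimension carry a totally singular subspace of half their joint dimension. -/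
theorem exists_pair_singular {t m : ℕ} {D : Fin t → Submodule F (ι → F)}
    (hD : Geo.IsOrthogonalMDecomposition (⇑Q) m D) (hm : Even m) {i j : Fin t} (hij : i ≠ j) :
    ∃ U : Submodule F (ι → F), U ≤ D i ⊔ D j ∧ (∀ x ∈ U, Q x = 0) ∧ finrank F U = m := by
  have hdi := hD.decomp.decomp.finrank_eq i
  obtain ⟨φ, hφ⟩ := hD.isometric i j
  obtain ⟨μ, hμ⟩ := Orth.exists_neg_similitude (Q := Q) (W := D i)
    (Orth.block_nonDeg hD i) (hdi.symm ▸ hm)
  let μi : D i →ₗ[F] D i := μ.restrict fun w hw => (hμ w hw).1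
  let f : D i →ₗ[F] (ι → F) := (D i).subtype + (D j).subtype ∘ₗ φ.toLinearMap ∘ₗ μi
  have hf : ∀ x : D i, f x = (x : ι → F) + ((φ (μi x) : D j) : ι → F) := fun x => rfl
  have hinj : Function.Injective f := by
    rw [injective_iff_map_eq_zero]
    intro x hx
    rw [hf] at hx
    refine Subtype.ext (Submodule.disjoint_def.1 ((hD.decomp.decomp.indep i).mono_right
      (le_iSup₂_of_le j hij.symm le_rfl)) _ x.2 ?_)
    rw [eq_neg_of_add_eq_zero_left hx]
    exact (D j).neg_mem (φ (μi x)).2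
  refine ⟨LinearMap.range f, ?_, ?_, ?_⟩
  · rintro _ ⟨x, rfl⟩
    exact Submodule.add_mem_sup x.2 (φ (μi x)).2
  · rintro _ ⟨x, rfl⟩
    rw [hf, Orth.Q_add Q, hφ, Orth.block_orth hD x.2 (φ (μi x)).2 hij, add_zero]
    show Q (x : ι → F) + Q (μ (x : ι → F)) = 0
    rw [(hμ _ x.2).2, add_neg_cancel]
  · rw [LinearMap.finrank_range_of_inj hinj, hdi]

/-- A sum of members is orthogonal to any other member. -/
theorem pair_le_perp {t m : ℕ} {D : Fin t → Submodule F (ι → F)}
    (hD : Geo.IsOrthogonalMDecomposition (⇑Q) m D) {i j k : Fin t} (hik : k ≠ i) (hjk : k ≠ j) :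
    D i ⊔ D j ≤ Orth.perp Q (D k) :=
  sup_le (fun _ hx => Orth.block_orth_perp hD hx hik) fun _ hx => Orth.block_orth_perp hD hx hjk

/-- Three members of even dimension in a space of plus type are of plus type. -/
theorem plus_of_three (hplus : Geo.IsPlusTypeOn (⇑Q) ⊤) {m : ℕ} {D : Fin 3 → Submodule F (ι → F)}
    (hD : Geo.IsOrthogonalMDecomposition (⇑Q) m D) (hm : Even m) (i : Fin 3) :
    Geo.IsPlusTypeOn (⇑Q) (D i) := by
  obtain ⟨U, hle, hU, hUd⟩ := exists_pair_singular hQ hD hm (show (1 : Fin 3) ≠ 2 by decide)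
  refine Orth.plus_of_plus hD (plus_of_singular_complement hQ hplus (W := D 0) (Orth.block_nonDeg hD 0) hU
    (hle.trans (pair_le_perp hQ hD (by decide) (by decide))) ?_) i
  have := Orth.card_eq_mul hD
  rw [hUd, hD.decomp.decomp.finrank_eq]
  omega

/-- Three members of even dimension and of plus type give plus type. -/
theorem plus_of_three_plus {m : ℕ} {D : Fin 3 → Submodule F (ι → F)}
    (hD : Geo.IsOrthogonalMDecomposition (⇑Q) m D) (hm : Even m) {i : Fin 3}
    (hi : Geo.IsPlusTypeOn (⇑Q) (D i)) : Geo.IsPlusTypeOn (⇑Q) ⊤ := by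
  obtain ⟨U, hle, hU, hUd⟩ := exists_pair_singular hQ hD hm (show (1 : Fin 3) ≠ 2 by decide)
  refine plus_of_complement hQ (W := D 0) (Orth.block_nonDeg hD 0) (Orth.plus_of_plus hD hi 0) hU
    (hle.trans (pair_le_perp hQ hD (by decide) (by decide))) ?_
  have := Orth.card_eq_mul hD
  rw [hUd, hD.decomp.decomp.finrank_eq]
  omega

/-- Five planes in a space of plus type are of plus type. -/
theorem plus_of_five (hplus : Geo.IsPlusTypeOn (⇑Q) ⊤) {D : Fin 5 → Submodule F (ι → F)}
    (hD : Geo.IsOrthogonalMDecomposition (⇑Q) 2 D) (i : Fin 5) : Geo.IsPlusTypeOn (⇑Q) (D i) := by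
  obtain ⟨U₁, h1, hU₁, hd₁⟩ := exists_pair_singular hQ hD even_two (show (1 : Fin 5) ≠ 2 by decide)
  obtain ⟨U₂, h2, hU₂, hd₂⟩ := exists_pair_singular hQ hD even_two (show (3 : Fin 5) ≠ 4 by decide)
  have ho : ∀ x ∈ D 1 ⊔ D 2, ∀ y ∈ D 3 ⊔ D 4, B x y = 0 := by
    intro x hx y hy
    obtain ⟨a, ha, b, hb, rfl⟩ := Submodule.mem_sup.1 hx
    have k1 : D 3 ⊔ D 4 ≤ Orth.perp Q (D 1) := pair_le_perp hQ hD (by decide) (by decide)
    have k2 : D 3 ⊔ D 4 ≤ Orth.perp Q (D 2) := pair_le_perp hQ hD (by decide) (by decide)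
    rw [Orth.B_add_left Q, Orth.orth (k1 hy) ha, Orth.orth (k2 hy) hb, add_zero]
  have hint : U₁ ⊓ U₂ = ⊥ := by
    refine eq_bot_iff.2 fun x hx => (Submodule.mem_bot F).2 ?_
    obtain ⟨a, ha, b, hb, hab⟩ := Submodule.mem_sup.1 (h1 hx.1)
    have hx34 := h2 hx.2
    have ha0 : a = 0 := Submodule.disjoint_def.1 (hD.decomp.decomp.indep 1) a ha (by
      rw [show a = x - b by rw [← hab, add_sub_cancel_right]]
      exact Submodule.sub_mem _ ((sup_le (le_iSup₂_of_le 3 (by decide) le_rfl)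
        (le_iSup₂_of_le 4 (by decide) le_rfl) : D 3 ⊔ D 4 ≤ ⨆ (l) (_ : l ≠ (1 : Fin 5)), D l) hx34)
        (Submodule.mem_iSup_of_mem 2
        (Submodule.mem_iSup_of_mem (by decide) hb)))
    rw [ha0, zero_add] at hab
    exact Submodule.disjoint_def.1 (hD.decomp.decomp.indep 2) x (hab ▸ hb) ((sup_le
      (le_iSup₂_of_le 3 (by decide) le_rfl) (le_iSup₂_of_le 4 (by decide) le_rfl) :
      D 3 ⊔ D 4 ≤ ⨆ (l) (_ : l ≠ (2 : Fin 5)), D l) hx34)
  refine Orth.plus_of_plus hD (plus_of_singular_complement hQ hplus (W := D 0) (Orth.block_nonDeg hD 0)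
    (U := U₁ ⊔ U₂) (fun x hx => ?_) (sup_le (h1.trans (pair_le_perp hQ hD (by decide) (by decide)))
      (h2.trans (pair_le_perp hQ hD (by decide) (by decide)))) ?_) i
  · obtain ⟨a, ha, b, hb, rfl⟩ := Submodule.mem_sup.1 hx
    rw [Orth.Q_add Q, hU₁ a ha, hU₂ b hb, ho a (h1 ha) b (h2 hb)]; ring
  · have h3 := Submodule.finrank_sup_add_finrank_inf_eq U₁ U₂
    rw [hint, finrank_bot, add_zero, hd₁, hd₂] at h3
    have := Orth.card_eq_mul hD
    rw [h3, hD.decomp.decomp.finrank_eq]
    omega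

omit hQ in
theorem restrict_nondegenerate {W : Submodule F (ι → F)} (hW : Orth.NonDeg Q W) :
    (QuadraticMap.polarBilin (Q.comp W.subtype)).Nondegenerate := by
  have hl : ∀ x : W, (∀ y : W, QuadraticMap.polarBilin (Q.comp W.subtype) x y = 0) → x = 0 := fun x hx =>
    Subtype.ext (hW x x.2 fun y hy => by
      have := hx ⟨y, hy⟩
      simpa [QuadraticMap.polar] using this)
  exact ⟨hl, fun y hy => hl y fun x => (QuadraticMap.polar_comm _ _ _).trans (hy x)⟩

/-- The two halves of a space of plus type are isometric. -/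
theorem halves_isometric (hplus : Geo.IsPlusTypeOn (⇑Q) ⊤) {k : ℕ} {D : Fin 2 → Submodule F (ι → F)}
    (hD : Geo.IsNondegenerateMDecomposition (QuadraticMap.polar (⇑Q)) k D) (hk : Even k)
    (hcard : Fintype.card ι = 2 * k) (i j : Fin 2) : Geo.AreIsometricFor (⇑Q) (D i) (D j) := by
  classical
  obtain ⟨M, hM⟩ := hk
  have hd : ∀ l, finrank F (D l) = 2 * M := fun l => by rw [hD.decomp.finrank_eq]; omega
  have hnd : ∀ l, Orth.NonDeg Q (D l) := fun l => Orth.nonDeg_of_isNondegenerateOn (hD.nondegenerate l)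
  obtain ⟨a, b, hab⟩ := Semisimple.exists_binary_anisotropic (F := F)
  have hcl := fun l => QForm.exists_iso_plus_or_minus hab M (Q.comp (D l).subtype)
    (restrict_nondegenerate (hnd l)) (hd l)
  -- a plus member and a minus member do not coexist
  have key : ∀ i j, i ≠ j → ∀ e : D i ≃ₗ[F] (Fin M ⊕ Fin M → F),
      (∀ v, quadFormPlus M F (e v) = Q.comp (D i).subtype v) → 1 ≤ M →
      ∀ e' : D j ≃ₗ[F] ((Fin (M - 1) ⊕ Fin (M - 1)) ⊕ Fin 2 → F),
      (∀ v, quadFormMinus (M - 1) F a b (e' v) = Q.comp (D j).subtype v) → False := by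
    intro i j hij e he hM1 e' he'
    let s : (Fin M → F) →ₗ[F] (ι → F) := (D i).subtype ∘ₗ e.symm.toLinearMap ∘ₗ
      { toFun := fun x => Sum.elim x 0
        map_add' := fun x y => by funext l; rcases l with l | l <;> simp
        map_smul' := fun c x => by funext l; rcases l with l | l <;> simp }
    let r : (Fin (M - 1) → F) →ₗ[F] (ι → F) := (D j).subtype ∘ₗ e'.symm.toLinearMap ∘ₗ
      { toFun := fun x => Sum.elim (Sum.elim x 0) 0
        map_add' := fun x y => by funext l; rcases l with (l | l) | l <;> simp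
        map_smul' := fun c x => by funext l; rcases l with (l | l) | l <;> simp }
    let p : (Fin 2 → F) →ₗ[F] (ι → F) := (D j).subtype ∘ₗ e'.symm.toLinearMap ∘ₗ
      { toFun := fun x => Sum.elim 0 x
        map_add' := fun x y => by funext l; rcases l with l | l <;> simp
        map_smul' := fun c x => by funext l; rcases l with l | l <;> simp }
    have hsD : ∀ x, s x ∈ D i := fun x => Submodule.coe_mem _
    have hrD : ∀ x, r x ∈ D j := fun x => Submodule.coe_mem _
    have hpD : ∀ x, p x ∈ D j := fun x => Submodule.coe_mem _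
    have hQs : ∀ x, Q (s x) = 0 := fun x => by
      show Q.comp (D i).subtype (e.symm _) = 0
      rw [← he, LinearEquiv.apply_symm_apply]; simp [quadFormPlus]
    have hQr : ∀ x, Q (r x) = 0 := fun x => by
      show Q.comp (D j).subtype (e'.symm _) = 0
      rw [← he', LinearEquiv.apply_symm_apply]; simp [quadFormMinus]
    have hQp : ∀ x, Q (p x) = x 0 ^ 2 + a * x 0 * x 1 + b * x 1 ^ 2 := fun x => by
      show Q.comp (D j).subtype (e'.symm _) = _
      rw [← he', LinearEquiv.apply_symm_apply]; simp [quadFormMinus]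
    have hrp : ∀ x y, B (r x) (p y) = 0 := fun x y => by
      show Q (r x + p y) - Q (r x) - Q (p y) = 0
      rw [hQr, hQp]
      show Q.comp (D j).subtype (e'.symm _ + e'.symm _) - 0 - _ = 0
      rw [← map_add, ← he', LinearEquiv.apply_symm_apply]; simp [quadFormMinus]
    have hrs : ∀ x y, B (s x) (r y) = 0 := fun x y => hD.orthogonal i j hij _ (hsD x) _ (hrD y)
    have hsp : ∀ x y, B (s x) (p y) = 0 := fun x y => hD.orthogonal i j hij _ (hsD x) _ (hpD y)
    have hpinj : Function.Injective p := by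
      rw [injective_iff_map_eq_zero]
      intro x hx
      obtain ⟨e0, e1⟩ := hab (x 0) (x 1) (by rw [← hQp, hx, map_zero])
      funext l; fin_cases l <;> assumption
    have hW : Orth.NonDeg Q (LinearMap.range p) := by
      rintro _ ⟨x, rfl⟩ hall
      refine hnd j _ (hpD x) fun y hy => ?_
      obtain ⟨f, hf⟩ : ∃ f, y = ((e'.symm f : D j) : ι → F) := ⟨e' ⟨y, hy⟩, by simp⟩
      have hsplit : y = r (fun l => f (.inl (.inl l))) + (((e'.symm (Sum.elim (Sum.elim 0 fun l =>
          f (.inl (.inr l))) 0) : D j) : ι → F) + p (fun l => f (.inr l))) := by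
        rw [hf]
        show _ = ((e'.symm _ : D j) : ι → F) + (_ + ((e'.symm _ : D j) : ι → F))
        rw [← Submodule.coe_add, ← Submodule.coe_add, ← map_add, ← map_add]
        congr 2
        funext l; rcases l with (l | l) | l <;> simp
      rw [hsplit, Orth.B_add_right Q, Orth.B_add_right Q, hall _ ⟨_, rfl⟩, Orth.B_comm Q (p x), hrp]
      show 0 + ((Q (_ + _) - Q _ - Q _) + 0) = 0
      rw [hQp]
      show 0 + ((Q.comp (D j).subtype (e'.symm _ + e'.symm _) - _ - Q.comp (D j).subtype (e'.symm _)) + 0) = 0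
      rw [← map_add, ← he', ← he', LinearEquiv.apply_symm_apply, LinearEquiv.apply_symm_apply]
      simp [quadFormMinus]
    have hplusP := plus_of_singular_complement hQ hplus hW (U := LinearMap.range (s.coprod r)) ?_ ?_ ?_
    · obtain ⟨L, hLP, hL, hLd⟩ := hplusP
      rw [LinearMap.finrank_range_of_inj hpinj, Module.finrank_pi, Fintype.card_fin] at hLd
      obtain ⟨z, hzL, hz0⟩ := L.ne_bot_iff.1 fun h => by rw [h, finrank_bot] at hLd; omega
      obtain ⟨x, rfl⟩ := hLP hzL
      obtain ⟨e0, e1⟩ := hab (x 0) (x 1) (by rw [← hQp]; exact hL _ hzL)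
      refine hz0 ?_
      rw [show x = 0 from funext fun l => by fin_cases l <;> assumption, map_zero]
    · rintro _ ⟨⟨x, y⟩, rfl⟩
      rw [LinearMap.coprod_apply, Orth.Q_add Q, hQs, hQr, hrs]; ring
    · rintro _ ⟨⟨x, y⟩, rfl⟩
      rintro _ ⟨z, rfl⟩
      show B (p z) _ = 0
      rw [LinearMap.coprod_apply, Orth.B_add_right Q, Orth.B_comm Q, hsp, Orth.B_comm Q, hrp, add_zero]
    · have hinj : Function.Injective (s.coprod r) := by
        rw [injective_iff_map_eq_zero]
        rintro ⟨x, y⟩ hxy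
        rw [LinearMap.coprod_apply] at hxy
        have h0 : s x = 0 := Submodule.disjoint_def.1 ((hD.decomp.indep i).mono_right
          (le_iSup₂_of_le j hij.symm le_rfl)) _ (hsD x) (by
            rw [eq_neg_of_add_eq_zero_left hxy]; exact (D j).neg_mem (hrD y))
        rw [h0, zero_add] at hxy
        refine Prod.ext (funext fun l => ?_) (funext fun l => ?_)
        · have := congrFun (e.symm.map_eq_zero_iff.1 (Subtype.ext h0)) (.inl l); simpa using this
        · have := congrFun (e'.symm.map_eq_zero_iff.1 (Subtype.ext hxy)) (.inl (.inl l)); simpa using this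
      rw [LinearMap.finrank_range_of_inj hinj, LinearMap.finrank_range_of_inj hpinj, Module.finrank_prod]
      simp only [Module.finrank_pi, Fintype.card_fin]
      omega
  rcases eq_or_ne i j with rfl | hij
  · exact ⟨LinearEquiv.refl F _, fun w => rfl⟩
  rcases hcl i with ⟨e, he⟩ | ⟨hM1, e, he⟩ <;> rcases hcl j with ⟨e', he'⟩ | ⟨hM1', e', he'⟩
  · exact ⟨e.trans e'.symm, fun w => by
      show Q.comp (D j).subtype (e'.symm (e w)) = Q.comp (D i).subtype w
      rw [← he', LinearEquiv.apply_symm_apply, he]⟩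
  · exact (key i j hij e he hM1' e' he').elim
  · exact (key j i hij.symm e' he' hM1 e he).elim
  · exact ⟨e.trans e'.symm, fun w => by
      show Q.comp (D j).subtype (e'.symm (e w)) = Q.comp (D i).subtype w
      rw [← he', LinearEquiv.apply_symm_apply, he]⟩

theorem plus_iff_isotropic (h2 : (2 : F) ≠ 0) {n : ℕ} (hn : Fintype.card ι = 2 * n) :
    Geo.IsPlusTypeOn (⇑Q) ⊤ ↔ ∃ X : Submodule F (ι → F), finrank F X = n ∧
      ∀ x ∈ X, ∀ y ∈ X, QuadraticMap.polarBilin Q x y = 0 := by
  constructor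
  · rintro ⟨X, -, hX, hXd⟩
    rw [finrank_top, Module.finrank_pi] at hXd
    exact ⟨X, by omega, fun x hx y hy => Orth.B_eq_zero_of_singular hX hx hy⟩
  · rintro ⟨X, hXd, hX⟩
    refine ⟨X, le_top, fun x hx => ?_, by rw [finrank_top, Module.finrank_pi]; omega⟩
    have := hX x hx x hx
    rw [QuadraticMap.polarBilin_apply_apply, Orth.B_self Q] at this
    exact (mul_eq_zero.1 this).resolve_left h2

theorem plus_iff_discr (h2 : (2 : F) ≠ 0) {n : ℕ} (hn : Fintype.card ι = 2 * n) {κ : Type*} [Fintype κ]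
    [DecidableEq κ] (b : Module.Basis κ F (ι → F)) :
    Geo.IsPlusTypeOn (⇑Q) ⊤ ↔
      IsSquare ((-1) ^ n * (LinearMap.BilinForm.toMatrix b (QuadraticMap.polarBilin Q)).det) := by
  rw [plus_iff_isotropic hQ h2 hn]
  exact QForm.exists_isotropic_iff h2 ⟨fun x y => QuadraticMap.polar_comm _ x y⟩ hQ
    (by rw [Module.finrank_pi]; omega) b

/-- An orthogonal decomposition of a space of dimension `2n`, `n` odd, into lines: plus type iff `-1` is a
square. -/
theorem lines_plus_iff (h2 : (2 : F) ≠ 0) {n t : ℕ} (hn : Fintype.card ι = 2 * n) (hodd : Odd n)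
    {D : Fin t → Submodule F (ι → F)} (hD : Geo.IsOrthogonalMDecomposition (⇑Q) 1 D) :
    Geo.IsPlusTypeOn (⇑Q) ⊤ ↔ IsSquare (-1 : F) := by
  classical
  have hcard := Orth.card_eq_mul hD
  have ht2 := hD.decomp.decomp.two_le
  obtain ⟨v, hv, hv0⟩ := (D ⟨0, by omega⟩).ne_bot_iff.1 fun h => by
    have := hD.decomp.decomp.finrank_eq ⟨0, by omega⟩
    rw [h, finrank_bot] at this
    omega
  choose e he using fun i => hD.isometric ⟨0, by omega⟩ i
  let w : Fin t → ι → F := fun i => (e i ⟨v, hv⟩ : ι → F)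
  have hw : ∀ i, w i ∈ D i := fun i => Submodule.coe_mem _
  have hw0 : ∀ i, w i ≠ 0 := fun i h => hv0 (by
    simpa using congrArg Subtype.val ((e i).map_eq_zero_iff.1 (Subtype.ext h)))
  let bb : Module.Basis (Fin t) F (ι → F) := basisOfLinearIndependentOfCardEqFinrank'
    w (hD.decomp.decomp.indep.linearIndependent D hw hw0) (by simp [hcard])
  rw [plus_iff_discr hQ h2 hn bb, hodd.neg_one_pow]
  have hmat : LinearMap.BilinForm.toMatrix bb (QuadraticMap.polarBilin Q) =
      Matrix.diagonal fun _ => 2 * Q v := by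
    ext i j
    rw [LinearMap.BilinForm.toMatrix_apply, QuadraticMap.polarBilin_apply_apply]
    simp only [bb, coe_basisOfLinearIndependentOfCardEqFinrank']
    by_cases hij : i = j
    · subst hij
      rw [Matrix.diagonal_apply_eq, Orth.B_self Q]
      congr 1
      exact he i ⟨v, hv⟩
    · rw [Matrix.diagonal_apply_ne _ hij, Orth.block_orth hD (hw i) (hw j) hij]
  have hc : (2 * Q v) ≠ 0 := fun h => by
    have hQv : Q v = 0 := (mul_eq_zero.1 h).resolve_left h2
    obtain ⟨⟨y, hy, hy'⟩, -⟩ := hD.decomp.nondegenerate _ v hv hv0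
    obtain ⟨c, hc⟩ := (finrank_eq_one_iff_of_nonzero' (⟨v, hv⟩ : D _)
      (fun h' => hv0 (congrArg Subtype.val h'))).1 (hD.decomp.decomp.finrank_eq _) ⟨y, hy⟩
    rw [← show c • v = y from congrArg Subtype.val hc, Orth.B_smul_left Q, Orth.B_self Q, hQv] at hy'
    simp at hy'
  rw [hmat, Matrix.det_diagonal, Finset.prod_const, Finset.card_univ, Fintype.card_fin,
    show t = 2 * n by omega, pow_mul']
  constructor
  · rintro ⟨r, hr⟩
    exact ⟨r / (2 * Q v) ^ n, by field_simp; linear_combination hr⟩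
  · rintro ⟨r, hr⟩
    exact ⟨r * (2 * Q v) ^ n, by linear_combination ((2 * Q v) ^ n) ^ 2 * hr⟩

/-- Two orthogonal halves of odd dimension are isometric iff the type agrees with the square class of `-1`. -/
theorem halves_iso_iff (h2 : (2 : F) ≠ 0) {n : ℕ} (hn : Fintype.card ι = 2 * n) (hodd : Odd n)
    {D : Fin 2 → Submodule F (ι → F)} (hD : Geo.IsNondegenerateMDecomposition (QuadraticMap.polar (⇑Q)) n D) :
    Geo.AreIsometricFor (⇑Q) (D 0) (D 1) ↔ (Geo.IsPlusTypeOn (⇑Q) ⊤ ↔ IsSquare (-1 : F)) := by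
  classical
  have hnd : ∀ l, Orth.NonDeg Q (D l) := fun l => Orth.nonDeg_of_isNondegenerateOn (hD.nondegenerate l)
  have hcompl : IsCompl (D 0) (D 1) := by
    refine ⟨(hD.decomp.indep 0).mono_right (le_iSup₂_of_le 1 (by decide) le_rfl), ?_⟩
    rw [codisjoint_iff, ← hD.decomp.iSup_eq_top]
    refine le_antisymm (sup_le (le_iSup D 0) (le_iSup D 1)) (iSup_le fun l => ?_)
    fin_cases l <;> [exact le_sup_left; exact le_sup_right]
  let b₀ := Module.finBasisOfFinrankEq F (D 0) (hD.decomp.finrank_eq 0)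
  let b₁ := Module.finBasisOfFinrankEq F (D 1) (hD.decomp.finrank_eq 1)
  let bb := (b₀.prod b₁).map (Submodule.prodEquivOfIsCompl _ _ hcompl)
  set d₀ := (QForm.gram ⇑(Q.comp (D 0).subtype) ⇑b₀).det
  set d₁ := (QForm.gram ⇑(Q.comp (D 1).subtype) ⇑b₁).det
  have h0 : d₀ ≠ 0 := QForm.det_gram_ne_zero (restrict_nondegenerate (hnd 0)) b₀
  have h1 : d₁ ≠ 0 := QForm.det_gram_ne_zero (restrict_nondegenerate (hnd 1)) b₁
  have hiso : Geo.AreIsometricFor (⇑Q) (D 0) (D 1) ↔ IsSquare (d₀ * d₁) :=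
    QForm.isometric_iff h2 (Q.comp (D 0).subtype) (Q.comp (D 1).subtype) (restrict_nondegenerate (hnd 0))
      (restrict_nondegenerate (hnd 1)) b₀ b₁
  have hmat : LinearMap.BilinForm.toMatrix bb (QuadraticMap.polarBilin Q) =
      Matrix.fromBlocks (QForm.gram ⇑(Q.comp (D 0).subtype) ⇑b₀) 0 0
        (QForm.gram ⇑(Q.comp (D 1).subtype) ⇑b₁) := by
    ext i j
    rw [LinearMap.BilinForm.toMatrix_apply, QuadraticMap.polarBilin_apply_apply]
    rcases i with i | i <;> rcases j with j | j <;>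
      simp only [bb, Module.Basis.map_apply, Matrix.fromBlocks_apply₁₁, Matrix.fromBlocks_apply₁₂,
        Matrix.fromBlocks_apply₂₁, Matrix.fromBlocks_apply₂₂, Matrix.zero_apply]
    · simp [QForm.gram, QuadraticMap.polar]
    · simpa using hD.orthogonal 0 1 (by decide) _ (b₀ i).2 _ (b₁ j).2
    · simpa using hD.orthogonal 1 0 (by decide) _ (b₁ i).2 _ (b₀ j).2
    · simp [QForm.gram, QuadraticMap.polar]
  rw [plus_iff_discr hQ h2 hn bb, hodd.neg_one_pow, hmat, Matrix.det_fromBlocks_zero₂₁, hiso]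
  have hd : d₀ * d₁ ≠ 0 := mul_ne_zero h0 h1
  have hne : (-1 : F) ≠ 0 := neg_ne_zero.2 one_ne_zero
  show IsSquare (d₀ * d₁) ↔ (IsSquare (-1 * (d₀ * d₁)) ↔ IsSquare (-1 : F))
  constructor
  · rintro ⟨r, hr⟩
    have hr0 : r ≠ 0 := fun h => hd (by rw [hr, h, mul_zero])
    constructor
    · rintro ⟨s, hs⟩
      exact ⟨s / r, by field_simp; linear_combination hs + hr⟩
    · rintro ⟨s, hs⟩
      exact ⟨s * r, by linear_combination (d₀ * d₁) * hs + s * s * hr⟩
  · intro h
    by_cases hs : IsSquare (-1 : F)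
    · obtain ⟨s, hs'⟩ := hs
      obtain ⟨r, hr⟩ := h.2 ⟨s, hs'⟩
      exact ⟨s * r, by linear_combination r * r * hs' - hr⟩
    · by_contra hsq
      have h3 := FiniteField.isSquare_neg_one_iff.not.1 hs
      refine hs (h.1 ?_)
      rcases quadraticChar_dichotomy hd with hc | hc
      · exact absurd ((quadraticChar_one_iff_isSquare hd).1 hc) hsq
      · refine (quadraticChar_one_iff_isSquare (mul_ne_zero hne hd)).1 ?_
        have hm : quadraticChar F (-1) = -1 := quadraticChar_neg_one_iff_not_isSquare.2 hs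
        rw [map_mul, hm, hc]; norm_num

end Cfsg.Agent.Aschbacher.OrthEven
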