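import Cfsg.Agent.Lib.Aschbacher.OrthEven.Common
import Cfsg.Agent.Lib.Aschbacher.OrthEven.Types
import Cfsg.Agent.Lib.Aschbacher.OrthEven.Quintic
import Cfsg.Agent.Lib.Aschbacher.OrthEven.TensorPlus
import Cfsg.Agent.Lib.Aschbacher.OrthExplicit.NonContain
import Cfsg.Agent.Lib.MaxCl.OrthFrame
import Cfsg.Agent.Lib.MaxCl.OrthTensor

/-!
Steps used by the lists of maximal subgroups of the orthogonal groups in dimension ten and twelve.
-/

set_option autoImplicit false
set_option linter.unusedSectionVars false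

namespace Cfsg.Agent.Aschbacher.OrthEven

open Matrix
open scoped MatrixGroups
open Cfsg.Agent.MaxCl
open Module (finrank)

variable {ι : Type} [Fintype ι] [DecidableEq ι] {F : Type*} [Field F] [Fintype F]
variable {Q : QuadraticForm F (ι → F)} {H : Subgroup (GL ι F)}

/-- A maximal subgroup inside `T` leaves no room between `T ⊓ Ω` and `Ω`. -/
theorem not_between {W : Subgroup (GL ι F)} (hH : Geo.IsMaximalIn W H) {T : Subgroup (GL ι F)} (hle : H ≤ T)
    (h : ∃ K : Subgroup (GL ι F), T ⊓ W < K ∧ K < W) : False := by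
  obtain ⟨K, h1, h2⟩ := h
  have hHT : H ≤ T ⊓ W := le_inf hle hH.1.le
  rcases hH.2 K (hHT.trans h1.le) h2.le with h | h
  · exact (hHT.trans_lt h1).ne h.symm
  · exact h2.ne h

theorem ten_not_power (d t : ℕ) (hd : 2 ≤ d) (ht : 2 ≤ t) : 10 ≠ d ^ t := by
  intro h
  have h1 : 2 ^ t ≤ d ^ t := Nat.pow_le_pow_left hd t
  have h2 : d ^ 2 ≤ d ^ t := Nat.pow_le_pow_right (by omega) ht
  have ht3 : t ≤ 3 := by
    by_contra hc
    have := Nat.pow_le_pow_right (show 0 < 2 by norm_num) (show 4 ≤ t by omega)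
    omega
  have hd3 : d ≤ 3 := by nlinarith
  interval_cases t <;> interval_cases d <;> norm_num at h

theorem twelve_not_power (d t : ℕ) (hd : 2 ≤ d) (ht : 2 ≤ t) : 12 ≠ d ^ t := by
  intro h
  have h1 : 2 ^ t ≤ d ^ t := Nat.pow_le_pow_left hd t
  have h2 : d ^ 2 ≤ d ^ t := Nat.pow_le_pow_right (by omega) ht
  have ht3 : t ≤ 3 := by
    by_contra hc
    have := Nat.pow_le_pow_right (show 0 < 2 by norm_num) (show 4 ≤ t by omega)
    omega
  have hd3 : d ≤ 3 := by nlinarith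
  interval_cases t <;> interval_cases d <;> norm_num at h

theorem card_ne_six : Fintype.card F ≠ 6 := by
  intro h
  obtain ⟨p, hC⟩ := CharP.exists F
  obtain ⟨n, hp, hn⟩ := FiniteField.card F p
  rw [h] at hn
  have hpn : p ≤ 6 := Nat.le_of_dvd (by norm_num) (hn ▸ dvd_pow_self p n.ne_zero)
  have hn3 : (n : ℕ) < 3 := by
    by_contra hc
    have h1 := Nat.pow_le_pow_left hp.two_le (n : ℕ)
    have h2 := Nat.pow_le_pow_right (show 0 < 2 by norm_num) (not_lt.1 hc)
    omega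
  have := n.pos
  interval_cases (n : ℕ) <;> interval_cases p <;> first | omega | norm_num at hp

theorem seven_le_card (h2 : Fintype.card F ≠ 2) (h3 : Fintype.card F ≠ 3) (h4 : Fintype.card F ≠ 4)
    (h5 : Fintype.card F ≠ 5) : 7 ≤ Fintype.card F := by
  have := Fintype.one_lt_card (α := F)
  have := card_ne_six (F := F)
  omega

theorem five_le_card (hodd : Odd (Fintype.card F)) (h3 : Fintype.card F ≠ 3) : 5 ≤ Fintype.card F := by
  have := Fintype.one_lt_card (α := F)
  obtain ⟨a, ha⟩ := hodd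
  omega

theorem card_mod_four_of_square (hodd : Odd (Fintype.card F)) (h : IsSquare (-1 : F)) :
    Fintype.card F % 4 = 1 := by
  have := FiniteField.isSquare_neg_one_iff.1 h
  obtain ⟨a, ha⟩ := hodd
  omega

theorem card_mod_four_of_not_square (h : ¬ IsSquare (-1 : F)) : Fintype.card F % 4 = 3 := by
  rw [FiniteField.isSquare_neg_one_iff] at h
  omega

theorem odd_card_of_not_square (h : ¬ IsSquare (-1 : F)) : Odd (Fintype.card F) := by
  have := card_mod_four_of_not_square h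
  exact Nat.odd_iff.2 (by omega)

/-- Fixing both parts is stabilising the pair. -/
theorem le_decomposition_of_parts {t : ℕ} {D : Fin t → Submodule F (ι → F)}
    (hle : ∀ i, H ≤ Geo.subspaceStabilizer (D i)) : H ≤ Geo.decompositionStabilizer D :=
  fun _ hg => ⟨1, fun i => translate_eq_of_mem_stabilizer (hle i hg)⟩

theorem orthogonal_of_iso {D : Fin 2 → Submodule F (ι → F)} {m : ℕ}
    (hD : Geo.IsNondegenerateMDecomposition (QuadraticMap.polar (⇑Q)) m D)
    (hiso : Geo.AreIsometricFor (⇑Q) (D 0) (D 1)) : Geo.IsOrthogonalMDecomposition (⇑Q) m D := by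
  refine ⟨hD, fun i j => ?_⟩
  obtain ⟨φ, hφ⟩ := hiso
  have hsymm : Geo.AreIsometricFor (⇑Q) (D 1) (D 0) :=
    ⟨φ.symm, fun w => by rw [← hφ (φ.symm w), φ.apply_symm_apply]⟩
  fin_cases i <;> fin_cases j
  exacts [⟨LinearEquiv.refl F _, fun _ => rfl⟩, ⟨φ, hφ⟩, hsymm, ⟨LinearEquiv.refl F _, fun _ => rfl⟩]

theorem prime_eq_of_dvd_ten {r : ℕ} (hr : r.Prime) (h : r ∣ 10) : r = 2 ∨ r = 5 := by
  rcases (Nat.Prime.dvd_mul hr).1 (show r ∣ 2 * 5 from h) with h | h
  · exact Or.inl ((Nat.prime_dvd_prime_iff_eq hr Nat.prime_two).1 h)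
  · exact Or.inr ((Nat.prime_dvd_prime_iff_eq hr (by norm_num)).1 h)

theorem prime_eq_of_dvd_twelve {r : ℕ} (hr : r.Prime) (h : r ∣ 12) : r = 2 ∨ r = 3 := by
  rcases (Nat.Prime.dvd_mul hr).1 (show r ∣ 2 ^ 2 * 3 from h) with h | h
  · exact Or.inl ((Nat.prime_dvd_prime_iff_eq hr Nat.prime_two).1 (hr.dvd_of_dvd_pow h))
  · exact Or.inr ((Nat.prime_dvd_prime_iff_eq hr Nat.prime_three).1 h)

/-- A plus-type factor in a symmetric `3 × 4` tensor decomposition makes the space of plus type. -/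
theorem plus_of_symm_tensor (hQ : (QuadraticMap.polarBilin Q).Nondegenerate) (hodd : Odd (Fintype.card F))
    {e : ι ≃ Fin 3 × Fin 4} {P : GL ι F} {f₁ : (Fin 3 → F) → (Fin 3 → F) → F}
    {f₂ : (Fin 4 → F) → (Fin 4 → F) → F} (hf₁ : Geo.IsSymmetricForm f₁) (hf₂ : Geo.IsSymmetricForm f₂)
    (hstr : Geo.IsTensorFormStructure id (QuadraticMap.polar (⇑Q)) f₁ f₂ e P)
    (hplus : Geo.IsPlusTypeOn (fun v : Fin 4 → F => f₂ v v) ⊤) : Geo.IsPlusTypeOn (⇑Q) ⊤ := by
  classical
  have h2 := two_ne_zero_of_odd hodd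
  obtain ⟨c, -, hpure⟩ := SpExplicit.form_pureVec hf₁.bilinear hf₂.bilinear hstr
  obtain ⟨X, -, hX, hXd⟩ := hplus
  rw [finrank_top, Module.finrank_pi, Fintype.card_fin] at hXd
  have hb := hf₂.bilinear
  have hX0 : ∀ x ∈ X, ∀ y ∈ X, f₂ x y = 0 := fun x hx y hy => by
    have hxx : f₂ x x = 0 := hX x hx
    have hyy : f₂ y y = 0 := hX y hy
    have h1 : f₂ (x + y) (x + y) = 0 := hX _ (X.add_mem hx hy)
    rw [hb.add_left, hb.add_right, hb.add_right, hxx, hyy, hf₂.symm y x] at h1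
    exact (mul_eq_zero.1 (show (2 : F) * f₂ x y = 0 by linear_combination h1)).resolve_left h2
  let Ψ : (Fin 3 → X) →ₗ[F] (ι → F) :=
    { toFun := fun y => (P : Matrix ι ι F) *ᵥ ((fun a : Fin 3 × Fin 4 => (y a.1 : Fin 4 → F) a.2) ∘ e)
      map_add' := fun y z => by rw [← Matrix.mulVec_add]; rfl
      map_smul' := fun r y => by rw [RingHom.id_apply, ← Matrix.mulVec_smul]; rfl }
  have hcard : Fintype.card ι = 2 * 6 := by rw [Fintype.card_congr e]; simp
  refine (plus_iff_isotropic hQ h2 hcard).2 ⟨LinearMap.range Ψ, ?_, ?_⟩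
  · rw [LinearMap.finrank_range_of_inj, Module.finrank_pi_fintype]
    · simp only [Finset.sum_const, Finset.card_univ, Fintype.card_fin, smul_eq_mul]
      omega
    rw [injective_iff_map_eq_zero]
    intro y hy
    have h1 := (mulVec_eq_zero_iff P).1 hy
    funext p
    apply Subtype.ext
    funext b
    simpa using congrFun h1 (e.symm (p, b))
  have hsum : ∀ y : Fin 3 → X, Ψ y = ∑ p, pureLin e P (Pi.single p 1) (y p : Fin 4 → F) := by
    intro y
    show (P : Matrix ι ι F) *ᵥ _ = ∑ p, (P : Matrix ι ι F) *ᵥ _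
    rw [← Matrix.mulVec_sum]
    congr 1
    funext i
    simp [Finset.sum_apply, Pi.single_apply]
  rintro _ ⟨y, rfl⟩ _ ⟨z, rfl⟩
  rw [hsum, hsum]
  simp only [map_sum, LinearMap.sum_apply]
  refine Finset.sum_eq_zero fun p _ => Finset.sum_eq_zero fun s _ => ?_
  show QuadraticMap.polar (⇑Q) (SpExplicit.pureVec e P _ _) (SpExplicit.pureVec e P _ _) = 0
  rw [hpure, hX0 _ (y s).2 _ (z p).2, mul_zero, mul_zero]

end Cfsg.Agent.Aschbacher.OrthEven
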