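import Cfsg.Agent.Lib.Aschbacher.OrthEven.Outcome
import Cfsg.Agent.Lib.MaxCl.OrthNondeg
import Cfsg.Agent.Lib.MaxCl.OrthRational
import Cfsg.Agent.Lib.MaxCl.OrthParabolic
import Cfsg.Agent.Lib.QForm.Classify
import Cfsg.Agent.Lib.QForm.Diag

/-!
Geometric shapes that force plus type: orthogonal decompositions, alternating tensor factors, rational
structures of index two, class-two and tensor-cube groups in dimension eight.
-/

set_option autoImplicit false
set_option linter.unusedSectionVars false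
set_option linter.style.haveILetI false

namespace Cfsg.Agent.Aschbacher.OrthEven

open Matrix
open scoped MatrixGroups Kronecker
open Cfsg.Agent.MaxCl
open Module (finrank)

variable {ι : Type} [Fintype ι] [DecidableEq ι] {F : Type*} [Field F] [Fintype F]
variable {Q : (ι → F) → F} {H : Subgroup (GL ι F)}

/-- Totally singular vectors with a dual family span a maximal totally singular subspace. -/
theorem plus_of_dual (hQ : Geo.IsNondegenerateQuadraticForm Q) {κ : Type} [Fintype κ] [DecidableEq κ]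
    (hκ : 2 * Fintype.card κ = Fintype.card ι) (u d : κ → ι → F) (h0 : ∀ i, Q (u i) = 0)
    (huu : ∀ i j, QuadraticMap.polar Q (u i) (u j) = 0)
    (hud : ∀ i j, i ≠ j → QuadraticMap.polar Q (u i) (d j) = 0)
    (hne : ∀ i, QuadraticMap.polar Q (u i) (d i) ≠ 0) : Geo.IsPlusTypeOn Q ⊤ := by
  classical
  have hb := hQ.polar_bilinear
  refine ⟨LinearMap.range (Fintype.linearCombination F u), le_top, ?_, ?_⟩
  · rintro _ ⟨c, rfl⟩
    rw [Fintype.linearCombination_apply]
    exact (quadFun hQ).sum_eq_zero _ _ _ (fun i _ => h0 i) fun i _ j _ => huu i j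
  · rw [LinearMap.finrank_range_of_inj, finrank_top, Module.finrank_pi, Module.finrank_pi, hκ]
    rw [injective_iff_map_eq_zero]
    intro c hc
    funext j
    let φ : (ι → F) →ₗ[F] F :=
      { toFun := fun y => QuadraticMap.polar Q y (d j)
        map_add' := fun y z => hb.add_left y z _
        map_smul' := fun t y => hb.smul_left t y _ }
    have h1 := congrArg φ hc
    rw [Fintype.linearCombination_apply, map_sum, map_zero,
      Finset.sum_eq_single j (fun i _ hij => by
        rw [map_smul, show φ (u i) = 0 from hud i j hij, smul_zero]) (fun h => absurd (Finset.mem_univ j) h),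
      map_smul, smul_eq_mul] at h1
    exact (mul_eq_zero.1 h1).resolve_right (hne j)

/-- An orthogonal decomposition into isometric members gives plus type if it can be split into pairs. -/
theorem plus_of_orth_decomposition (hQ : Geo.IsNondegenerateQuadraticForm Q) {t m : ℕ}
    {D : Fin t → Submodule F (ι → F)} (hD : Geo.IsOrthogonalMDecomposition Q m D) (ht : Even t)
    (hcase : 4 ∣ t ∨ Even m) : Geo.IsPlusTypeOn Q ⊤ := by
  classical
  obtain ⟨q, rfl, hq⟩ := Orth.exists_form hQ
  have hb := hQ.polar_bilinear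
  have ht2 := hD.decomp.decomp.two_le
  have : NeZero t := ⟨by omega⟩
  set U := D 0
  choose e he using fun j => hD.isometric 0 j
  have hcard := card_eq_of_isMDecomposition hD.decomp.decomp
  have hUd : finrank F U = m := hD.decomp.decomp.finrank_eq 0
  let Λ : (Fin t → U) →ₗ[F] (ι → F) :=
    ∑ j, (D j).subtype ∘ₗ (e j).toLinearMap ∘ₗ LinearMap.proj j
  have hΛ : ∀ z, Λ z = ∑ j, ((e j (z j) : D j) : ι → F) := fun z => by simp [Λ]
  have hΛQ : ∀ (z : Fin t → U), q (Λ z) = ∑ j, q (z j : ι → F) := by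
    intro z
    rw [hΛ]
    suffices key : ∀ s : Finset (Fin t), q (∑ j ∈ s, ((e j (z j) : D j) : ι → F)) = ∑ j ∈ s, q (z j : ι → F)
      from key _
    intro s
    induction s using Finset.induction with
    | empty => simp
    | insert a s ha ih =>
      rw [Finset.sum_insert ha, Finset.sum_insert ha, Orth.Q_add q, ih, he]
      have h0 : QuadraticMap.polar q ((e a (z a) : D a) : ι → F) (∑ j ∈ s, ((e j (z j) : D j) : ι → F)) = 0 := by
        let φ : (ι → F) →ₗ[F] F := QuadraticMap.polarBilin q ((e a (z a) : D a) : ι → F)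
        show φ _ = 0
        rw [map_sum]
        exact Finset.sum_eq_zero fun j hj =>
          hD.decomp.orthogonal a j (fun h : a = j => ha (h ▸ hj)) _ (e a (z a)).2 _ (e j (z j)).2
      rw [h0, add_zero]
  have hΛ0 : ∀ z, Λ z = 0 → z = 0 := by
    intro z hz
    funext i
    by_contra hne
    have hne' : ((e i (z i) : D i) : ι → F) ≠ 0 := fun h =>
      hne ((e i).map_eq_zero_iff.1 (Subtype.ext h))
    obtain ⟨w, hw, hwB⟩ := (hD.decomp.nondegenerate i _ (e i (z i)).2 hne').1
    let φ : (ι → F) →ₗ[F] F := QuadraticMap.polarBilin q w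
    have h1 := congrArg φ hz
    rw [hΛ, map_sum, map_zero, Finset.sum_eq_single i (fun j _ hji => show φ _ = 0 from
      hD.decomp.orthogonal i j (Ne.symm hji) _ hw _ (e j (z j)).2) (fun h => absurd (Finset.mem_univ i) h)] at h1
    exact hwB h1
  have main : ∀ {X : Type _} [AddCommGroup X] [Module F X] [FiniteDimensional F X]
      (Φ : X →ₗ[F] (Fin t → U)), Function.Injective Φ → 2 * finrank F X = Fintype.card ι →
      (∀ x, ∑ j, q (Φ x j : ι → F) = 0) → Geo.IsPlusTypeOn (⇑q) ⊤ := by
    intro X _ _ _ Φ hΦ hd hsum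
    refine ⟨LinearMap.range (Λ ∘ₗ Φ), le_top, ?_, ?_⟩
    · rintro _ ⟨x, rfl⟩
      show q (Λ (Φ x)) = 0
      rw [hΛQ, hsum]
    · rw [LinearMap.finrank_range_of_inj, finrank_top, Module.finrank_pi, hd]
      rw [injective_iff_map_eq_zero]
      exact fun x hx => (injective_iff_map_eq_zero Φ).1 hΦ x (hΛ0 _ hx)
  rcases hcase with h4 | hm
  · -- quadruples
    obtain ⟨s, hs⟩ := h4
    obtain ⟨a, b, hab⟩ : ∃ a b : F, a * a + b * b = -1 := by
      by_cases h2 : (2 : F) = 0
      · exact ⟨1, 0, by linear_combination h2⟩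
      · obtain ⟨a, b, h⟩ := QForm.exists_two_squares_eq_one h2 (a := (-1 : F)) (b := -1)
          (by simp) (by simp)
        exact ⟨a, b, by linear_combination -h⟩
    let ε : Fin t ≃ Fin s × Fin 4 := (finCongr (by rw [hs, mul_comm])).trans finProdFinEquiv.symm
    let row : Fin 4 → (U × U →ₗ[F] U) := ![LinearMap.fst F U U, LinearMap.snd F U U,
      a • LinearMap.fst F U U + b • LinearMap.snd F U U, b • LinearMap.fst F U U - a • LinearMap.snd F U U]
    let Φ : (Fin s → U × U) →ₗ[F] (Fin t → U) :=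
      LinearMap.pi fun j => row (ε j).2 ∘ₗ LinearMap.proj (ε j).1
    have hΦ : ∀ x i p, Φ x (ε.symm (i, p)) = row p (x i) := fun x i p => by
      show row (ε (ε.symm (i, p))).2 (x (ε (ε.symm (i, p))).1) = _
      rw [Equiv.apply_symm_apply]
    refine main Φ ?_ ?_ fun x => ?_
    · rw [injective_iff_map_eq_zero]
      intro x hx
      funext i
      refine Prod.ext ?_ ?_
      · exact (hΦ x i 0).symm.trans (congrFun hx _)
      · exact (hΦ x i 1).symm.trans (congrFun hx _)
    · rw [Module.finrank_pi_fintype, Finset.sum_const, Finset.card_univ, Fintype.card_fin, smul_eq_mul,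
        Module.finrank_prod, hUd, hcard, hs]
      ring
    · rw [← ε.symm.sum_comp, Fintype.sum_prod_type]
      refine Finset.sum_eq_zero fun i _ => ?_
      simp only [hΦ, Fin.sum_univ_four]
      simp only [row, Matrix.cons_val_zero, Matrix.cons_val_one, Matrix.cons_val, LinearMap.fst_apply,
        LinearMap.snd_apply, LinearMap.add_apply, LinearMap.sub_apply, LinearMap.smul_apply,
        Submodule.coe_add, Submodule.coe_sub, Submodule.coe_smul, Orth.Q_add q, Orth.Q_sub q, Orth.Q_smul q,
        Orth.B_smul_left q, Orth.B_smul_right q]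
      linear_combination (q ((x i).1 : ι → F) + q ((x i).2 : ι → F)) * hab
  · -- pairs
    obtain ⟨l, hl⟩ := ht
    obtain ⟨μ, hμ⟩ := Orth.exists_neg_similitude (Q := q) (W := U)
      (fun x hx hall => by
        by_contra hne
        obtain ⟨y, hy, hy'⟩ := (hD.decomp.nondegenerate 0 x hx hne).2
        exact hy' (hall y hy)) (hUd.symm ▸ hm)
    let μU : U →ₗ[F] U := μ.restrict fun w hw => (hμ w hw).1
    let ε : Fin t ≃ Fin l × Fin 2 := (finCongr (by omega)).trans finProdFinEquiv.symm
    let row : Fin 2 → (U →ₗ[F] U) := ![LinearMap.id, μU]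
    let Φ : (Fin l → U) →ₗ[F] (Fin t → U) :=
      LinearMap.pi fun j => row (ε j).2 ∘ₗ LinearMap.proj (ε j).1
    have hΦ : ∀ x i p, Φ x (ε.symm (i, p)) = row p (x i) := fun x i p => by
      show row (ε (ε.symm (i, p))).2 (x (ε (ε.symm (i, p))).1) = _
      rw [Equiv.apply_symm_apply]
    refine main Φ ?_ ?_ fun x => ?_
    · rw [injective_iff_map_eq_zero]
      intro x hx
      funext i
      exact (hΦ x i 0).symm.trans (congrFun hx _)
    · rw [Module.finrank_pi_fintype, Finset.sum_const, Finset.card_univ, Fintype.card_fin, smul_eq_mul,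
        hUd, hcard, hl]
      ring
    · rw [← ε.symm.sum_comp, Fintype.sum_prod_type]
      refine Finset.sum_eq_zero fun i _ => ?_
      simp only [hΦ, Fin.sum_univ_two]
      show q (x i : ι → F) + q (μ (x i : ι → F)) = 0
      rw [(hμ _ (x i).2).2]; ring

/-- An alternating factor of degree two gives plus type. -/
theorem plus_of_tensor {n₂ : ℕ} (e : ι ≃ Fin 2 × Fin n₂) (P : GL ι F)
    (hvan : ∀ (x₁ : Fin 2 → F) (x₂ : Fin n₂ → F),
      Q ((P : Matrix ι ι F) *ᵥ ((fun a : Fin 2 × Fin n₂ => x₁ a.1 * x₂ a.2) ∘ e)) = 0) :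
    Geo.IsPlusTypeOn Q ⊤ := by
  let Ψ : (Fin n₂ → F) →ₗ[F] (ι → F) :=
    { toFun := fun y => (P : Matrix ι ι F) *ᵥ ((fun a : Fin 2 × Fin n₂ => (Pi.single 0 1 : Fin 2 → F) a.1 * y a.2) ∘ e)
      map_add' := fun y z => by rw [← Matrix.mulVec_add]; congr 1; funext i; simp [mul_add]
      map_smul' := fun c y => by rw [RingHom.id_apply, ← Matrix.mulVec_smul]; congr 1; funext i; simp [mul_left_comm] }
  refine ⟨LinearMap.range Ψ, le_top, ?_, ?_⟩
  · rintro _ ⟨y, rfl⟩
    exact hvan _ y
  · rw [LinearMap.finrank_range_of_inj, finrank_top, Module.finrank_pi, Module.finrank_pi,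
      Fintype.card_congr e]
    · simp
    rw [injective_iff_map_eq_zero]
    intro y hy
    have h1 := (mulVec_eq_zero_iff P).1 hy
    funext b
    simpa using congrFun h1 (e.symm (0, b))

/-- A rational structure of index two gives plus type. -/
theorem plus_of_index_two (hQ : Geo.IsNondegenerateQuadraticForm Q) (heven : Even (Fintype.card ι))
    {F₀ : Subfield F} {P : GL ι F} {ζ : F} (hζ : ζ ≠ 0) (hcard : Fintype.card F = Nat.card F₀ ^ 2)
    (hrat : Geo.IsQuadFormRationalStructure (fun v => ζ * Q v) F₀ P) : Geo.IsPlusTypeOn Q ⊤ := by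
  classical
  obtain ⟨q, rfl, hq⟩ := Orth.exists_form hQ
  haveI : Fintype F₀ := Fintype.ofFinite _
  let φ : F →ₐ[F₀] F := FiniteField.frobeniusAlgHom F₀ F
  have hφ : ∀ y : F, φ y = y ^ Nat.card F₀ := fun y => by simp [φ, Nat.card_eq_fintype_card]
  have hφfix : ∀ {y : F}, φ y = y → y ∈ F₀ := fun {y} hy => mem_subfield_of_pow_eq (by rw [← hφ, hy])
  have hφ2 : ∀ y : F, φ (φ y) = y := fun y => by
    rw [hφ, hφ, ← pow_mul, ← pow_two, ← hcard, FiniteField.pow_card]
  obtain ⟨θ, hθ⟩ : ∃ θ : F, θ ∉ F₀ := by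
    by_contra hall
    push Not at hall
    have h1 : Nat.card F₀ = Fintype.card F := by
      rw [← Nat.card_eq_fintype_card]
      exact Nat.card_congr (Equiv.subtypeUnivEquiv hall)
    rw [h1] at hcard
    have := Fintype.one_lt_card (α := F)
    nlinarith
  set θ' := φ θ with hθ'
  have hne : θ' ≠ θ := fun h => hθ (hφfix h)
  have ha : θ + θ' ∈ F₀ := hφfix (by rw [map_add, hθ', hφ2, add_comm])
  have hb : θ * θ' ∈ F₀ := hφfix (by rw [map_mul, hθ', hφ2, mul_comm])
  let a : F₀ := ⟨_, ha⟩
  let b : F₀ := ⟨_, hb⟩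
  have hab : ∀ z₁ z₂ : F₀, z₁ ^ 2 + a * z₁ * z₂ + b * z₂ ^ 2 = 0 → z₁ = 0 ∧ z₂ = 0 := by
    intro z₁ z₂ hz
    have hz' : ((z₁ : F) + θ * z₂) * ((z₁ : F) + θ' * z₂) = 0 := by
      have := congrArg (fun w : F₀ => (w : F)) hz
      simp only [Subfield.coe_add, Subfield.coe_mul, SubmonoidClass.coe_pow, ZeroMemClass.coe_zero, a, b] at this
      linear_combination this
    have hroot : ∀ r : F, r ∉ F₀ → (z₁ : F) + r * z₂ = 0 → z₁ = 0 ∧ z₂ = 0 := by
      intro r hr h
      by_cases hz2 : z₂ = 0
      · subst hz2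
        exact ⟨Subtype.ext (by simpa using h), rfl⟩
      · refine absurd ?_ hr
        have hz2' : (z₂ : F) ≠ 0 := fun e => hz2 (Subtype.ext e)
        rw [show r = -(z₁ : F) / z₂ by field_simp; linear_combination h]
        exact div_mem (neg_mem z₁.2) z₂.2
    rcases mul_eq_zero.1 hz' with h | h
    · exact hroot θ hθ h
    · refine hroot θ' (fun h' => hθ ?_) h
      rw [show θ = (θ + θ') - θ' by ring]
      exact sub_mem ha h'
  -- the form over the subfield
  set q' : QuadraticForm F (ι → F) := ζ • q with hq'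
  have hQ' : ∀ v, q' v = ζ * q v := fun v => rfl
  have hpol' : ∀ u v, QuadraticMap.polar (⇑q') u v = ζ * QuadraticMap.polar (⇑q) u v := fun u v => by
    simp only [QuadraticMap.polar, hQ']; ring
  have hnd : (QuadraticMap.polarBilin q').Nondegenerate := by
    refine ⟨fun x hx => hq.1 x fun y => ?_, fun x hx => hq.2 x fun y => ?_⟩
    · exact (mul_eq_zero.1 ((hpol' x y).symm.trans (hx y))).resolve_left hζ
    · exact (mul_eq_zero.1 ((hpol' y x).symm.trans (hx y))).resolve_left hζ
  have hP : ∀ x ∈ ratVec F₀ P, q' x ∈ F₀ := by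
    rintro _ ⟨u, hu, rfl⟩
    exact hrat u hu
  obtain ⟨M, hM⟩ := heven
  let R := Orth.formSub hP
  have hRQ : ∀ u : ι → F₀, (R u : F) = ζ * q (Orth.emb F₀ P u) := fun u => Orth.formSub_apply hP u
  have hRB : ∀ u v : ι → F₀, ((QuadraticMap.polar (⇑R) u v : F₀) : F) =
      ζ * QuadraticMap.polar (⇑q) (Orth.emb F₀ P u) (Orth.emb F₀ P v) := fun u v => by
    rw [Orth.formSub_polar hP, hpol']
  have hQzero : ∀ u : ι → F₀, R u = 0 → q (Orth.emb F₀ P u) = 0 := fun u h => by
    have := hRQ u; rw [h] at this; exact (mul_eq_zero.1 this.symm).resolve_left hζ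
  have hBzero : ∀ u v : ι → F₀, QuadraticMap.polar (⇑R) u v = 0 →
      QuadraticMap.polar (⇑q) (Orth.emb F₀ P u) (Orth.emb F₀ P v) = 0 := fun u v h => by
    have := hRB u v; rw [h] at this; exact (mul_eq_zero.1 this.symm).resolve_left hζ
  have hBne : ∀ u v : ι → F₀, QuadraticMap.polar (⇑R) u v ≠ 0 →
      QuadraticMap.polar (⇑q) (Orth.emb F₀ P u) (Orth.emb F₀ P v) ≠ 0 := fun u v h h0 =>
    h (Subtype.ext (by rw [hRB, h0, mul_zero]; rfl))
  rcases QForm.exists_iso_plus_or_minus hab M R (Orth.formSub_nondegenerate hP hnd)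
      (by rw [Module.finrank_pi, hM, two_mul]) with ⟨e, he⟩ | ⟨hM1, e, he⟩
  · let v : Fin M ⊕ Fin M → (ι → F₀) := fun x => e.symm (Pi.single x 1)
    have hv : ∀ x, R (v x) = quadFormPlus M F₀ (Pi.single x 1) := fun x => by
      rw [← he, LinearEquiv.apply_symm_apply]
    have hvv : ∀ x y, QuadraticMap.polar (⇑R) (v x) (v y) =
        quadFormPlus M F₀ (Pi.single x 1 + Pi.single y 1) - quadFormPlus M F₀ (Pi.single x 1) -
          quadFormPlus M F₀ (Pi.single y 1) := fun x y => by
      rw [QuadraticMap.polar, ← map_add, ← he (e.symm _), LinearEquiv.apply_symm_apply, hv, hv]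
    refine plus_of_dual hQ (κ := Fin M) (by rw [Fintype.card_fin, hM, two_mul])
      (fun i => Orth.emb F₀ P (v (.inl i))) (fun i => Orth.emb F₀ P (v (.inr i)))
      (fun i => hQzero _ ?_) (fun i j => hBzero _ _ ?_) (fun i j hij => hBzero _ _ ?_) fun i => hBne _ _ ?_
    · rw [hv]; simp [quadFormPlus]
    · rw [hvv]; simp [quadFormPlus]
    · rw [hvv]
      simp [quadFormPlus, Pi.single_apply, hij.symm]
    · rw [hvv]
      simp [quadFormPlus, Pi.single_apply]
  · obtain ⟨N, rfl⟩ : ∃ N, M = N + 1 := ⟨M - 1, by omega⟩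
    let v : (Fin N ⊕ Fin N) ⊕ Fin 2 → (ι → F₀) := fun x => e.symm (Pi.single x 1)
    let E : (Fin N ⊕ Fin N) ⊕ Fin 2 → (ι → F) := fun x => Orth.emb F₀ P (v x)
    have hv : ∀ x, R (v x) = quadFormMinus N F₀ a b (Pi.single x 1) := fun x =>
      (he (v x)).symm.trans (congrArg _ (e.apply_symm_apply _))
    have hvv : ∀ x y, QuadraticMap.polar (⇑R) (v x) (v y) =
        quadFormMinus N F₀ a b (Pi.single x 1 + Pi.single y 1) - quadFormMinus N F₀ a b (Pi.single x 1) -
          quadFormMinus N F₀ a b (Pi.single y 1) := fun x y => by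
      have h1 : R (v x + v y) = quadFormMinus N F₀ a b (Pi.single x 1 + Pi.single y 1) :=
        (he _).symm.trans (congrArg _ (by rw [map_add, LinearEquiv.apply_symm_apply, LinearEquiv.apply_symm_apply]))
      rw [QuadraticMap.polar, h1, hv, hv]
    have hB : ∀ x y, QuadraticMap.polar (⇑R) (v x) (v y) = 0 → QuadraticMap.polar (⇑q) (E x) (E y) = 0 :=
      fun x y h => hBzero _ _ h
    -- the binary part
    have hz1 : ζ * q (E (.inr 0)) = 1 := by
      rw [← hRQ, hv]; simp [quadFormMinus]
    have hz2 : ζ * q (E (.inr 1)) = θ * θ' := by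
      rw [← hRQ, hv]; simp [quadFormMinus, b]
    have hz12 : ζ * QuadraticMap.polar (⇑q) (E (.inr 1)) (E (.inr 0)) = θ + θ' := by
      rw [← hRB, hvv]; simp [quadFormMinus, a, b]
    set w := E (.inr 1) - θ • E (.inr 0) with hw
    refine plus_of_dual hQ (κ := Option (Fin N)) (by
        rw [Fintype.card_option, Fintype.card_fin, hM]; ring)
      (fun i => i.elim w fun i => E (.inl (.inl i))) (fun i => i.elim (E (.inr 0)) fun i => E (.inl (.inr i)))
      ?_ ?_ ?_ ?_
    · rintro (_ | i)
      · show q w = 0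
        refine (mul_eq_zero.1 (show ζ * q w = 0 from ?_)).resolve_left hζ
        rw [hw, Orth.Q_sub q, Orth.Q_smul q, Orth.B_smul_right q]
        linear_combination hz2 + θ * θ * hz1 - θ * hz12
      · exact hQzero _ (by rw [hv]; simp [quadFormMinus])
    · rintro (_ | i) (_ | j)
      · show QuadraticMap.polar (⇑q) w w = 0
        rw [Orth.B_self q]
        refine (mul_eq_zero.1 (show ζ * (2 * q w) = 0 from ?_)).resolve_left hζ
        rw [hw, Orth.Q_sub q, Orth.Q_smul q, Orth.B_smul_right q]
        linear_combination 2 * (hz2 + θ * θ * hz1 - θ * hz12)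
      · show QuadraticMap.polar (⇑q) w (E (.inl (.inl j))) = 0
        rw [hw, Orth.B_sub_left q, Orth.B_smul_left q, hB _ _ (by rw [hvv]; simp [quadFormMinus]),
          hB _ _ (by rw [hvv]; simp [quadFormMinus]), mul_zero, sub_zero]
      · show QuadraticMap.polar (⇑q) (E (.inl (.inl i))) w = 0
        rw [hw, Orth.B_sub_right q, Orth.B_smul_right q, hB _ _ (by rw [hvv]; simp [quadFormMinus]),
          hB _ _ (by rw [hvv]; simp [quadFormMinus]), mul_zero, sub_zero]
      · exact hB _ _ (by rw [hvv]; simp [quadFormMinus])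
    · rintro (_ | i) (_ | j) hij
      · exact absurd rfl hij
      · show QuadraticMap.polar (⇑q) w (E (.inl (.inr j))) = 0
        rw [hw, Orth.B_sub_left q, Orth.B_smul_left q, hB _ _ (by rw [hvv]; simp [quadFormMinus]),
          hB _ _ (by rw [hvv]; simp [quadFormMinus]), mul_zero, sub_zero]
      · exact hB _ _ (by rw [hvv]; simp [quadFormMinus])
      · exact hB _ _ (by rw [hvv]; simp [quadFormMinus, Pi.single_apply, show j ≠ i from fun h => hij (h ▸ rfl)])
    · rintro (_ | i)
      · show QuadraticMap.polar (⇑q) w (E (.inr 0)) ≠ 0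
        intro h0
        refine sub_ne_zero.2 hne ?_
        rw [hw, Orth.B_sub_left q, Orth.B_smul_left q, Orth.B_self q] at h0
        linear_combination ζ * h0 - hz12 + 2 * θ * hz1
      · exact hBne _ _ (by rw [hvv]; simp [quadFormMinus, Pi.single_apply])

/-! ### Dimension eight -/

theorem classTwo_plus (hQ : Geo.IsNondegenerateQuadraticForm Q) (h8 : Fintype.card ι = 8)
    (hH : H ≤ isometryGroup F Q) {M : Subgroup (GL ι F)} (hM : ClassTwo H M) :
    Geo.IsPlusTypeOn Q ⊤ := by
  classical
  have : Nonempty ι := Fintype.card_pos_iff.1 (by omega)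
  obtain ⟨k, hb⟩ := hM.bilinear (refForm hQ) (iso_polar hH)
  have hk : k = 3 := Nat.pow_right_injective le_rfl (hb.dim.symm.trans (h8.trans rfl))
  have hM7 : Nat.card M = 128 := by rw [hb.card, hk]; rfl
  obtain ⟨q, rfl, hq⟩ := Orth.exists_form hQ
  have h2 := hb.two_ne
  have hsc : ∀ x ∈ M, x ∈ Geo.scalars ι F → x = 1 ∨ (x : Matrix ι ι F) = -1 := fun x hx hxs =>
    (hb.sign x hx hxs).imp_left fun h => Units.ext h
  have hcomm : ∀ x ∈ M, ∀ y ∈ M, x * y = y * x ∨ (x : Matrix ι ι F) * y = -((y : Matrix ι ι F) * x) := by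
    intro x hx y hy
    obtain ⟨C, hCs, hCM, hC⟩ := hM.exists_comm hy hx
    rcases hsc C hCM hCs with h | h
    · exact Or.inl (by rw [hC, h, one_mul])
    · refine Or.inr ?_
      rw [← Units.val_mul, ← Units.val_mul, hC, Units.val_mul, h, neg_one_mul]
  obtain ⟨r, hr, hpow⟩ := hM.exists_prime
  have hsq : ∀ x ∈ M, x * x = 1 ∨ ((x * x : GL ι F) : Matrix ι ι F) = -1 := by
    intro x hx
    have hp4 : (x * x) ∈ M := M.mul_mem hx hx
    refine hsc _ hp4 ?_
    -- squares are scalar
    have hR := hb.sympType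
    obtain ⟨c, hc⟩ : ∃ c : F, ((x * x : GL ι F) : Matrix ι ι F) = c • 1 := by
      refine hM.absIrr.2 _ ?_
      rintro s ⟨y, hy, rfl⟩
      show Commute _ _
      rcases hcomm x hx y hy with h | h
      · have : Commute (x : Matrix ι ι F) (y : Matrix ι ι F) := by
          show _ = _; rw [← Units.val_mul, h, Units.val_mul]
        rw [Units.val_mul]; exact this.mul_left this
      · show _ = _
        rw [Units.val_mul, mul_assoc, h, mul_neg, ← mul_assoc, h, neg_mul, neg_neg, mul_assoc]
    exact mem_scalars_of_smul_one hc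
  -- a non-central involution
  obtain ⟨x, hx, hxx, hxs⟩ : ∃ x ∈ M, x * x = 1 ∧ x ∉ Geo.scalars ι F := by
    by_contra hcon
    push Not at hcon
    obtain ⟨a, ha, b, hb', hab⟩ := hM.exists_noncomm
    have hnc : ∀ c ∈ M, c ∉ Geo.scalars ι F → ((c * c : GL ι F) : Matrix ι ι F) = -1 := fun c hc hcs =>
      (hsq c hc).resolve_left fun h => hcs (hcon c hc h)
    obtain ⟨z, hz, hza, hzb, hzs⟩ : ∃ z ∈ M, z * a = a * z ∧ z * b = b * z ∧ z ∉ Geo.scalars ι F := by
      by_contra hz
      push Not at hz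
      let S := (Geo.scalars ι F).subgroupOf M
      let sgn : M → Bool × Bool := fun z => (decide ((z : GL ι F) * a = a * z), decide ((z : GL ι F) * b = b * z))
      have hle : Nat.card M ≤ Nat.card ((Bool × Bool) × S) := by
        have key : ∀ z w : M, sgn z = sgn w → z⁻¹ * w ∈ S := by
          intro z w hzw
          simp only [sgn, Prod.mk.injEq, decide_eq_decide] at hzw
          have hone : ∀ c ∈ M, ((z : GL ι F) * c = c * z ↔ (w : GL ι F) * c = c * w) →
              ((z : GL ι F)⁻¹ * w) * c = c * ((z : GL ι F)⁻¹ * w) := by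
            intro c hc hiff
            by_cases h : (z : GL ι F) * c = c * z
            · exact ((show Commute (z : GL ι F) c from h).inv_left).mul_left (hiff.1 h)
            refine Units.ext ?_
            have h1 := (hcomm z z.2 c hc).resolve_left h
            have h2' := (hcomm w w.2 c hc).resolve_left fun e => h (hiff.2 e)
            have h3 : (((z : GL ι F)⁻¹ : GL ι F) : Matrix ι ι F) * (c : Matrix ι ι F) =
                -((c : Matrix ι ι F) * (((z : GL ι F)⁻¹ : GL ι F) : Matrix ι ι F)) := by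
              have h4 : (c : Matrix ι ι F) * (((z : GL ι F)⁻¹ : GL ι F) : Matrix ι ι F) =
                  (((z : GL ι F)⁻¹ : GL ι F) : Matrix ι ι F) * (((z : GL ι F) : Matrix ι ι F) * (c : Matrix ι ι F)) *
                    (((z : GL ι F)⁻¹ : GL ι F) : Matrix ι ι F) := by rw [Units.inv_mul_cancel_left]
              rw [h1, mul_neg, neg_mul, ← mul_assoc, mul_assoc, Units.mul_inv, mul_one] at h4
              rw [h4, neg_neg]
            simp only [Units.val_mul]
            rw [mul_assoc, h2', mul_neg, ← mul_assoc, h3, neg_mul, neg_neg, mul_assoc]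
          exact hz _ (M.mul_mem (M.inv_mem z.2) w.2) (hone a ha hzw.1) (hone b hb' hzw.2)
        let rep : Bool × Bool → M := fun p => if h : ∃ z, sgn z = p then h.choose else 1
        have hrep : ∀ z, sgn (rep (sgn z)) = sgn z := fun z => by
          simp only [rep, dif_pos (⟨z, rfl⟩ : ∃ z', sgn z' = sgn z)]
          exact (⟨z, rfl⟩ : ∃ z', sgn z' = sgn z).choose_spec
        refine Nat.card_le_card_of_injective (fun z => (sgn z, ⟨(rep (sgn z))⁻¹ * z, key _ _ (hrep z)⟩)) ?_
        intro z w hzw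
        simp only [Prod.mk.injEq, Subtype.mk.injEq] at hzw
        rw [hzw.1] at hzw
        exact mul_left_cancel hzw.2
      rw [Nat.card_prod, Nat.card_prod, Nat.card_eq_fintype_card (α := Bool), Fintype.card_bool, hb.scalar_card,
        hM7] at hle
      omega
    have has : a ∉ Geo.scalars ι F := fun h => hab (scalar_comm h b)
    have h1 := hcon (a * z) (M.mul_mem ha hz) (Units.ext (by
      rw [show a * z * (a * z) = (a * a) * (z * z) by rw [mul_assoc, ← mul_assoc z a, hza]; group, Units.val_mul,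
        hnc a ha has, hnc z hz hzs, neg_mul_neg, mul_one, Units.val_one]))
    refine hab ?_
    have h2' : Commute (a * z) b := scalar_comm h1 b
    have h3 : Commute z⁻¹ b := (show Commute z b from hzb).inv_left
    have h4 := h2'.mul_left h3
    rwa [mul_inv_cancel_right] at h4
  obtain ⟨y, hy, hxy⟩ : ∃ y ∈ M, x * y ≠ y * x := by
    by_contra hall
    push Not at hall
    exact hxs (hM.absIrr.scalar_of_comm fun y hy => hall y hy)
  have hxy' := (hcomm x hx y hy).resolve_left hxy
  -- eigenspaces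
  let L : (ι → F) →ₗ[F] (ι → F) := act x
  let Wp : Submodule F (ι → F) := LinearMap.ker (L - LinearMap.id)
  let Wm : Submodule F (ι → F) := LinearMap.ker (L + LinearMap.id)
  have hWp : ∀ v, v ∈ Wp ↔ (x : Matrix ι ι F) *ᵥ v = v := fun v => by
    simp [Wp, L, act_apply, sub_eq_zero]
  have hWm : ∀ v, v ∈ Wm ↔ (x : Matrix ι ι F) *ᵥ v = -v := fun v => by
    simp [Wm, L, act_apply, eq_neg_iff_add_eq_zero]
  have hx2 : ∀ v, (x : Matrix ι ι F) *ᵥ ((x : Matrix ι ι F) *ᵥ v) = v := fun v => by
    rw [← mulVec_mul, hxx, Units.val_one, Matrix.one_mulVec]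
  have hsup : Wp ⊔ Wm = ⊤ := eq_top_iff.2 fun v _ => Submodule.mem_sup.2
    ⟨(2 : F)⁻¹ • (v + (x : Matrix ι ι F) *ᵥ v), Wp.smul_mem _ ((hWp _).2 (by
        rw [Matrix.mulVec_add, hx2, add_comm])), (2 : F)⁻¹ • (v - (x : Matrix ι ι F) *ᵥ v),
      Wm.smul_mem _ ((hWm _).2 (by rw [Matrix.mulVec_sub, hx2, neg_sub])), by
        rw [← smul_add, show v + (x : Matrix ι ι F) *ᵥ v + (v - (x : Matrix ι ι F) *ᵥ v) = (2 : F) • v by
          rw [two_smul]; abel, smul_smul, inv_mul_cancel₀ h2, one_smul]⟩
  have hinf : Wp ⊓ Wm = ⊥ := (Submodule.eq_bot_iff _).2 fun v hv => by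
    have h1 := ((hWp v).1 hv.1).symm.trans ((hWm v).1 hv.2)
    have h3 : (2 : F) • v = 0 := by rw [two_smul]; nth_rewrite 1 [h1]; exact neg_add_cancel v
    exact (smul_eq_zero.1 h3).resolve_left h2
  have hyI := hH (hM.le hy)
  have hxI := hH (hM.le hx)
  have hmap : Wp.map (act y) = Wm := by
    ext v
    constructor
    · rintro ⟨u, hu, rfl⟩
      rw [hWm, act_apply, Matrix.mulVec_mulVec, hxy', Matrix.neg_mulVec, ← Matrix.mulVec_mulVec,
        (hWp u).1 hu]
    · intro hv
      refine ⟨((y⁻¹ : GL ι F) : Matrix ι ι F) *ᵥ v, (hWp _).2 ?_, by rw [act_apply, mulVec_inv]⟩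
      apply mulVec_injective y
      show (y : Matrix ι ι F) *ᵥ _ = (y : Matrix ι ι F) *ᵥ _
      rw [mulVec_inv, Matrix.mulVec_mulVec, show (y : Matrix ι ι F) * x = -((x : Matrix ι ι F) * y) by
        rw [hxy', neg_neg], Matrix.neg_mulVec, ← Matrix.mulVec_mulVec, mulVec_inv, (hWm v).1 hv, neg_neg]
  have hdim : finrank F Wp + finrank F Wm = 8 := by
    have h := Submodule.finrank_sup_add_finrank_inf_eq Wp Wm
    rw [hsup, hinf, finrank_top, finrank_bot, Module.finrank_pi, h8] at h
    omega
  have heq : finrank F Wm = finrank F Wp := by rw [← hmap]; exact finrank_map_act y Wp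
  have horth : ∀ u ∈ Wp, ∀ v ∈ Wm, QuadraticMap.polar (⇑q) u v = 0 := fun u hu v hv => by
    have h := Orth.B_act (Q := q) hxI u v
    rw [act_apply, act_apply, (hWp u).1 hu, (hWm v).1 hv, Orth.B_neg_right q] at h
    exact (mul_eq_zero.1 (show (2 : F) * QuadraticMap.polar (⇑q) u v = 0 by linear_combination -h)).resolve_left h2
  have hperp : Wm = Orth.perp q Wp := by
    refine Submodule.eq_of_le_of_finrank_eq (fun v hv => (Orth.mem_perp q).2 fun u hu => horth u hu v hv) ?_
    rw [Orth.finrank_perp hq, h8]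
    omega
  have hnd : Orth.NonDeg q Wp := fun u hu hall => by
    refine hq.1 u fun v => ?_
    obtain ⟨a, ha, b, hb', rfl⟩ := Submodule.mem_sup.1 (hsup.ge (Submodule.mem_top (x := v)))
    show QuadraticMap.polar (⇑q) u (a + b) = 0
    rw [Orth.B_add_right q, hall a ha, horth u hu b hb', add_zero]
  exact Orth.isPlusType_of_map_perp hnd ⟨2, by omega⟩ (by omega) hyI (hmap.trans hperp)

theorem solvable_of_binary (h2 : (2 : F) ≠ 0) {G : Matrix (Fin 2) (Fin 2) F} (hd : G.det ≠ 0)
    (hs : Gᵀ = G) {N' : Subgroup (GL (Fin 2) F)}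
    (hfix : ∀ X ∈ N', (X : Matrix (Fin 2) (Fin 2) F)ᵀ * G * (X : Matrix (Fin 2) (Fin 2) F) = G) :
    Group.IsSolvable N' := by
  set J : Matrix (Fin 2) (Fin 2) F := G⁻¹ * eps with hJ
  have hu : IsUnit G.det := isUnit_iff_ne_zero.2 hd
  let δ : N' →* Fˣ := Matrix.GeneralLinearGroup.det.comp N'.subtype
  have hker : ∀ X : δ.ker, (((X : N') : GL (Fin 2) F) : Matrix (Fin 2) (Fin 2) F) * J =
      J * (((X : N') : GL (Fin 2) F) : Matrix (Fin 2) (Fin 2) F) := by
    rintro ⟨⟨X, hX⟩, hδ⟩
    have h1 : (X : Matrix (Fin 2) (Fin 2) F).det = 1 := congrArg Units.val (MonoidHom.mem_ker.1 hδ)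
    set U : Matrix (Fin 2) (Fin 2) F := ↑X with hU
    have he : Uᵀ * eps * U = eps := by rw [transpose_mul_eps_mul, h1, one_smul]
    have hunit : IsUnit (Uᵀ * G) := by
      rw [Matrix.isUnit_iff_isUnit_det, Matrix.det_mul, Matrix.det_transpose, h1, one_mul]; exact hu
    refine hunit.mul_left_cancel ?_
    calc Uᵀ * G * (U * J) = Uᵀ * G * U * J := by simp only [mul_assoc]
      _ = G * J := by rw [hfix X hX]
      _ = eps := by rw [hJ, Matrix.mul_nonsing_inv_cancel_left _ _ hu]
      _ = Uᵀ * (G * J) * U := by rw [hJ, Matrix.mul_nonsing_inv_cancel_left _ _ hu, he]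
      _ = Uᵀ * G * (J * U) := by simp only [mul_assoc]
  have hG10 : G 1 0 = G 0 1 := congrFun (congrFun hs 0) 1
  have hcomm : ∀ A B : Matrix (Fin 2) (Fin 2) F, A * J = J * A → B * J = J * B → A * B = B * A := by
    have hadj : J = G.det⁻¹ • (G.adjugate * eps) := by
      rw [hJ, Matrix.inv_def, Ring.inverse_eq_inv', smul_mul_assoc]
    -- the traceless non-zero matrix centralised
    set T := G.adjugate * eps with hT
    intro A B hA hB
    have hcanc : ∀ A : Matrix (Fin 2) (Fin 2) F, A * J = J * A → A * T = T * A := fun A h => by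
      rw [hadj, mul_smul_comm, smul_mul_assoc] at h
      exact smul_right_injective _ (inv_ne_zero hd) h
    have hA' := hcanc A hA
    have hB' := hcanc B hB
    have e1 : T 0 0 = G 0 1 ∧ T 0 1 = G 1 1 ∧ T 1 0 = -G 0 0 ∧ T 1 1 = -G 0 1 := by
      simp [hT, Matrix.adjugate_fin_two, eps, Fin.sum_univ_two, hG10]
    obtain ⟨t00, t01, t10, t11⟩ := e1
    have key : ∀ A : Matrix (Fin 2) (Fin 2) F, A * T = T * A →
        -(A 0 1) * G 0 0 = G 1 1 * A 1 0 ∧ (A 0 0 - A 1 1) * G 1 1 = 2 * G 0 1 * A 0 1 ∧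
          (A 1 1 - A 0 0) * G 0 0 = 2 * G 0 1 * A 1 0 := by
      intro A h
      have a := congrFun (congrFun h 0) 0
      have b := congrFun (congrFun h 0) 1
      have c := congrFun (congrFun h 1) 0
      simp only [Matrix.mul_apply, Fin.sum_univ_two, t00, t01, t10, t11] at a b c
      exact ⟨by linear_combination a, by linear_combination b, by linear_combination -c⟩
    obtain ⟨a1, a2, a3⟩ := key A hA'
    obtain ⟨b1, b2, b3⟩ := key B hB'
    have hp : G 0 0 ≠ 0 ∨ G 1 1 ≠ 0 ∨ G 0 1 ≠ 0 := by
      by_contra h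
      push Not at h
      exact hd (by rw [Matrix.det_fin_two, h.1, h.2.2]; ring)
    have hall : A 0 1 * B 1 0 = A 1 0 * B 0 1 ∧ (A 0 0 - A 1 1) * B 0 1 = (B 0 0 - B 1 1) * A 0 1 ∧
        (A 0 0 - A 1 1) * B 1 0 = (B 0 0 - B 1 1) * A 1 0 := by
      rcases hp with h | h | h
      · have c1 : A 0 1 * B 1 0 = A 1 0 * B 0 1 := mul_right_cancel₀ h (by
          linear_combination -(B 1 0) * a1 + A 1 0 * b1)
        refine ⟨c1, mul_right_cancel₀ h ?_, mul_right_cancel₀ h ?_⟩
        · linear_combination -(B 0 1) * a3 + A 0 1 * b3 + 2 * G 0 1 * c1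
        · linear_combination -(B 1 0) * a3 + A 1 0 * b3
      · have c1 : A 0 1 * B 1 0 = A 1 0 * B 0 1 := mul_right_cancel₀ h (by
          linear_combination -(A 0 1) * b1 + B 0 1 * a1)
        refine ⟨c1, mul_right_cancel₀ h ?_, mul_right_cancel₀ h ?_⟩
        · linear_combination B 0 1 * a2 - A 0 1 * b2
        · linear_combination B 1 0 * a2 - A 1 0 * b2 + 2 * G 0 1 * c1
      · have h' : 2 * G 0 1 ≠ 0 := mul_ne_zero h2 h
        have c3 : (A 0 0 - A 1 1) * B 1 0 = (B 0 0 - B 1 1) * A 1 0 := mul_right_cancel₀ h' (by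
          linear_combination -(A 0 0 - A 1 1) * b3 + (B 0 0 - B 1 1) * a3)
        refine ⟨mul_right_cancel₀ h' ?_, mul_right_cancel₀ h' ?_, c3⟩
        · linear_combination -(B 1 0) * a2 + A 1 0 * b2 + G 1 1 * c3
        · linear_combination -(A 0 0 - A 1 1) * b2 + (B 0 0 - B 1 1) * a2
    obtain ⟨c1, c2, c3⟩ := hall
    ext i j
    fin_cases i <;> fin_cases j <;> simp [Matrix.mul_apply, Fin.sum_univ_two]
    · linear_combination c1
    · linear_combination c2
    · linear_combination -c3
    · linear_combination -c1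
  have hk : Group.IsSolvable δ.ker := Group.isSolvable_of_comm fun X Y =>
    Subtype.ext (Subtype.ext (Units.ext (hcomm _ _ (hker X) (hker Y))))
  exact Group.isSolvable_of_ker_le_range δ.ker.subtype δ (by rw [Subgroup.range_subtype])

theorem commuting_plus (hQ : Geo.IsNondegenerateQuadraticForm Q) (h8 : Fintype.card ι = 8)
    (hH : H ≤ isometryGroup F Q) {P : Subgroup (GL ι F)} {t : ℕ}
    {L : Fin t → Subgroup (GL ι F)} (hc : CommutingData H P L) : Geo.IsPlusTypeOn Q ⊤ := by
  classical
  have : Nonempty ι := Fintype.card_pos_iff.1 (by omega)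
  have h := refForm hQ
  obtain ⟨d, e, B, N', G, c, l, hd⟩ := h.power_data (iso_polar hH) hc
  have hdt : d ^ t = 8 := by rw [← h8]; simpa using (Fintype.card_congr e).symm
  obtain ⟨rfl, rfl⟩ : d = 2 ∧ t = 3 := by
    have hd8 : d ∣ 8 := hdt ▸ dvd_pow_self d (by have := hc.two_le; omega)
    have := Nat.le_of_dvd (by norm_num) hd8
    have h4 : d ^ 2 ≤ 8 := hdt ▸ Nat.pow_le_pow_right (by have := hd.two_le; omega) hc.two_le
    have hd2 : d = 2 := by
      have := hd.two_le
      interval_cases d <;> omega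
    subst hd2
    exact ⟨rfl, Nat.pow_right_injective le_rfl (hdt.trans (by norm_num : (8 : ℕ) = 2 ^ 3))⟩
  have hl : l * l = 1 := hd.norm
  have hl1 : l = 1 := by
    have hs := hd.sign
    simp only [RingEquiv.refl_apply, one_mul] at hs
    have h3 : l ^ 3 = 1 := mul_left_cancel₀ hd.c_ne (hs.symm.trans (mul_one c).symm)
    linear_combination h3 - l * hl
  subst hl1
  have hG : Gᵀ = G := by simpa using hd.herm
  by_cases h2 : (2 : F) = 0
  swap
  · exfalso
    have hN' : Group.IsSolvable N' := solvable_of_binary h2 hd.det hG fun X hX => by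
      simpa using hd.fix X hX
    refine not_perfect_of_solvable hc.perfect (fun h0 => hc.not_scalar (h0 ▸ bot_le)) hc.gen
      (isSolvable_iSup_commuting L (fun i => ?_) hc.comm)
    let ψ : GL (Fin 2) F →* GL ι F :=
      (coordGL e B).toMonoidHom.comp (Units.map (slotHom (F := F) (m := 2) i : _ →* _))
    have : Group.IsSolvable (N'.map ψ) := Group.isSolvable_of_surjective (ψ.subgroupMap_surjective N')
    have hle : L i ≤ N'.map ψ := fun x hx => by
      obtain ⟨X, hX, hXx⟩ := hd.gen i x hx
      exact ⟨X, hX, Units.ext hXx⟩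
    exact Group.isSolvable_of_isSolvable_injective (Subgroup.inclusion_injective hle)
  -- characteristic two: the basis is singular
  have hdiag : ∀ a, G a a = 0 := diag_eq_zero_of_irr h2 (by simp) hG
    (S := Geo.matrixSet N') (fun K hK => irr_iff.1 hd.absIrr.1 K fun x hx v hv => hK _ ⟨x, hx, rfl⟩ v hv)
    (by rintro _ ⟨x, hx, rfl⟩; exact ⟨1, by simpa using hd.fix x hx⟩)
  let R : ((Fin 3 → Fin 2) → F) → F := fun z => Q ((B : Matrix ι ι F) *ᵥ (z ∘ e))
  have hpolR : ∀ u v, QuadraticMap.polar R u v = matForm id (c • pureMat fun _ : Fin 3 => G) u v := by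
    intro u v
    have h1 := coordForm_eq h e B u v
    rw [hd.gram] at h1
    refine Eq.trans ?_ h1
    show Q _ - Q _ - Q _ = Q _ - Q _ - Q _
    rw [show (u + v) ∘ e = u ∘ e + v ∘ e from rfl, Matrix.mulVec_add]
  have hR : IsQuadFun R := by
    refine ⟨fun t z => ?_, ?_⟩
    · show Q _ = _
      rw [show (t • z) ∘ e = t • (z ∘ e) from rfl, Matrix.mulVec_smul, hQ.smul]
    · rw [show QuadraticMap.polar R = matForm id (c • pureMat fun _ : Fin 3 => G) from
        funext fun u => funext (hpolR u)]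
      exact matForm_bilinear _
  have hpair : ∀ a b : Fin 3 → Fin 2, (∃ j, a j = b j) →
      QuadraticMap.polar R (Pi.single a 1) (Pi.single b 1) = 0 := by
    rintro a b ⟨j, hj⟩
    rw [hpolR, show matForm id (c • pureMat fun _ : Fin 3 => G) =
      matForm (RingEquiv.refl F).toRingHom (c • pureMat fun _ : Fin 3 => G) from rfl, matForm_single_one,
      Matrix.smul_apply, pureMat_apply, Finset.prod_eq_zero (Finset.mem_univ j) (by rw [hj]; exact hdiag _),
      smul_zero]
  have hbasis : ∀ a, R (Pi.single a 1) = 0 := by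
    intro a
    let S : (Fin 2 → F) → F := fun w => ∑ p, w p ^ 2 * R (Pi.single (Function.update a 0 p) 1)
    suffices hS : ∀ w, S w = 0 by
      have := hS (Pi.single (a 0) 1)
      simp only [S, Pi.single_apply, ite_pow, one_pow, zero_pow two_ne_zero, ite_mul, one_mul, zero_mul,
        Finset.sum_ite_eq', Finset.mem_univ, if_true, Function.update_eq_self] at this
      exact this
    haveI : CharP F 2 := CharTwo.of_one_ne_zero_of_two_eq_zero one_ne_zero h2
    refine semilinear_eq_zero (H := N') (by simp) hd.absIrr.1 (fun u v => ?_) (fun s u => ?_)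
      fun X hX w hw => ?_
    · simp only [S, ← Finset.sum_add_distrib]
      exact Finset.sum_congr rfl fun p _ => by rw [Pi.add_apply, CharTwo.add_sq, add_mul]
    · simp only [S, Finset.mul_sum, Pi.smul_apply, smul_eq_mul]
      exact Finset.sum_congr rfl fun p _ => by ring
    -- invariance
    obtain ⟨x, hx, hxX⟩ := hd.emb 0 X hX
    let X' : GL (Fin 3 → Fin 2) F := Units.map ((slotHom (F := F) (m := 2) (t := 3) 0 : _ →ₐ[F] _) : _ →* _) X
    have hX' : coordGL e B X' = x := Units.ext hxX
    have hcol : ∀ p, ∑ s, (X : Matrix (Fin 2) (Fin 2) F) s p ^ 2 * R (Pi.single (Function.update a 0 s) 1) =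
        R (Pi.single (Function.update a 0 p) 1) := by
      intro p
      have h1 : R ((X' : Matrix (Fin 3 → Fin 2) (Fin 3 → Fin 2) F) *ᵥ Pi.single (Function.update a 0 p) 1) =
          R (Pi.single (Function.update a 0 p) 1) := by
        show Q _ = Q _
        rw [← coordGL_mulVec, hX', iso_fix hH (hc.le_H 0 hx)]
      rw [← h1, show (X' : Matrix (Fin 3 → Fin 2) (Fin 3 → Fin 2) F) *ᵥ Pi.single (Function.update a 0 p) 1 =
        ∑ s, (X : Matrix (Fin 2) (Fin 2) F) s p •
          (Pi.single (Function.update a 0 s) 1 : (Fin 3 → Fin 2) → F) from ?_]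
      · symm
        have key : ∀ s : Finset (Fin 2), R (∑ s' ∈ s, (X : Matrix (Fin 2) (Fin 2) F) s' p •
            (Pi.single (Function.update a 0 s') 1 : (Fin 3 → Fin 2) → F)) =
              ∑ s' ∈ s, (X : Matrix (Fin 2) (Fin 2) F) s' p ^ 2 * R (Pi.single (Function.update a 0 s') 1) := by
          intro s
          induction s using Finset.induction with
          | empty => simp [hR.zero]
          | insert i s hi ih =>
            rw [Finset.sum_insert hi, Finset.sum_insert hi, hR.map_add, ih, hR.smul, hR.polar.smul_left]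
            let φ : ((Fin 3 → Fin 2) → F) →ₗ[F] F :=
              { toFun := fun z => QuadraticMap.polar R (Pi.single (Function.update a 0 i) 1) z
                map_add' := fun z z' => hR.polar.add_right _ z z'
                map_smul' := fun s z => hR.polar.smul_right s _ z }
            have h0 : φ (∑ s' ∈ s, (X : Matrix (Fin 2) (Fin 2) F) s' p •
                (Pi.single (Function.update a 0 s') 1 : (Fin 3 → Fin 2) → F)) = 0 := by
              rw [map_sum]
              refine Finset.sum_eq_zero fun j _ => ?_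
              rw [map_smul]
              show _ • QuadraticMap.polar R _ _ = 0
              rw [hpair _ _ ⟨1, by simp⟩, smul_zero]
            change QuadraticMap.polar R _ _ = 0 at h0
            rw [h0, mul_zero, add_zero]
        exact key _
      rw [Matrix.mulVec_single_one]
      funext w
      show slotHom 0 (X : Matrix (Fin 2) (Fin 2) F) w _ = _
      rw [slotHom_apply, pureMat_mulSingle_apply]
      simp [Finset.sum_apply, Pi.single_apply]
    show S _ = 0
    rw [← hw]
    simp only [S, Matrix.mulVec, dotProduct, CharTwo.sum_sq, Finset.sum_mul]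
    rw [Finset.sum_comm]
    refine Finset.sum_congr rfl fun p _ => ?_
    rw [← hcol p, Finset.mul_sum]
    exact Finset.sum_congr rfl fun s _ => by ring
  -- half of the basis
  let Z : (Fin 2 × Fin 2 → F) →ₗ[F] ((Fin 3 → Fin 2) → F) :=
    { toFun := fun w a => if a 0 = 0 then w (a 1, a 2) else 0
      map_add' := fun w w' => funext fun a => by by_cases ha : a 0 = 0 <;> simp [ha]
      map_smul' := fun s w => funext fun a => by by_cases ha : a 0 = 0 <;> simp [ha] }
  let Ψ : (Fin 2 × Fin 2 → F) →ₗ[F] (ι → F) :=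
    Matrix.toLin' (B : Matrix ι ι F) ∘ₗ LinearMap.funLeft F F e ∘ₗ Z
  refine ⟨LinearMap.range Ψ, le_top, ?_, ?_⟩
  · rintro _ ⟨w, rfl⟩
    show R (Z w) = 0
    rw [show Z w = ∑ a ∈ Finset.univ.filter (fun a : Fin 3 → Fin 2 => a 0 = 0),
        w (a 1, a 2) • (Pi.single a 1 : (Fin 3 → Fin 2) → F) from funext fun a => by
      simp [Z, Finset.sum_apply, Pi.single_apply]]
    exact hR.sum_eq_zero _ _ _ (fun a _ => hbasis a) fun a ha b hb => hpair a b
      ⟨0, by rw [(Finset.mem_filter.1 ha).2, (Finset.mem_filter.1 hb).2]⟩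
  · rw [LinearMap.finrank_range_of_inj, finrank_top, Module.finrank_pi, Module.finrank_pi, h8]
    · simp
    rw [injective_iff_map_eq_zero]
    intro w hw
    have h1 := (mulVec_eq_zero_iff B).1 hw
    funext p
    have h2' := congrFun h1 (e.symm ![0, p.1, p.2])
    simpa [Z, LinearMap.funLeft] using h2'

/-- Aschbacher's theorem in dimension eight, minus type. -/
theorem even_outcome_eight (hQ : Geo.IsNondegenerateQuadraticForm Q) (h8 : Fintype.card ι = 8)
    (hminus : ¬ Geo.IsPlusTypeOn Q ⊤) (hH : H ≤ isometryGroup F Q) : EvenOutcome Q H :=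
  even_outcome hQ (by omega) (by rw [h8]; decide) hH (fun _ hM => hminus (classTwo_plus hQ h8 hH hM))
    fun _ _ _ hc => hminus (commuting_plus hQ h8 hH hc)

end Cfsg.Agent.Aschbacher.OrthEven
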