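import Cfsg.Agent.Lib.Aschbacher.OrthEven.Lists

/-!
The maximal subgroups of the ten-dimensional orthogonal groups.
-/

set_option autoImplicit false
set_option linter.unusedSectionVars false

namespace Cfsg.Agent.Aschbacher.OrthEven

open Matrix
open scoped MatrixGroups
open Cfsg.Agent.MaxCl
open Module (finrank)

theorem omega10minus_cases {F : Type*} [Field F] [Fintype F] (Q : (Fin 10 → F) → F) (hQ : Cfsg.Geo.IsNondegenerateQuadraticForm Q) (hminus : ¬ Cfsg.Geo.IsPlusTypeOn Q ⊤) (H : Subgroup (Matrix.GeneralLinearGroup (Fin 10) F)) (hH : Cfsg.Geo.IsMaximalIn (Cfsg.Geo.omegaGL Q) H) :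
    (∃ W : Submodule F (Fin 10 → F), W ≠ ⊥ ∧ Cfsg.Geo.IsTotallySingularQuad Q W ∧ H = Cfsg.Geo.subspaceStabilizer W ⊓ Cfsg.Geo.omegaGL Q) ∨
    (Odd (Fintype.card F) ∧ ∃ W : Submodule F (Fin 10 → F), W ≠ ⊥ ∧ W ≠ ⊤ ∧ Odd (Module.finrank F W) ∧ 2 * Module.finrank F W ≠ 10 ∧ Cfsg.Geo.IsNondegenerateOn (QuadraticMap.polar Q) W ∧ H = Cfsg.Geo.subspaceStabilizer W ⊓ Cfsg.Geo.omegaGL Q) ∨
    (∃ W : Submodule F (Fin 10 → F), Module.finrank F W = 2 ∧ Cfsg.Geo.IsNondegenerateOn (QuadraticMap.polar Q) W ∧ ¬ Cfsg.Geo.IsPlusTypeOn Q W ∧ H = Cfsg.Geo.subspaceStabilizer W ⊓ Cfsg.Geo.omegaGL Q) ∨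
    (4 ≤ Fintype.card F ∧ ∃ W : Submodule F (Fin 10 → F), Module.finrank F W = 2 ∧ Cfsg.Geo.IsNondegenerateOn (QuadraticMap.polar Q) W ∧ Cfsg.Geo.IsPlusTypeOn Q W ∧ H = Cfsg.Geo.subspaceStabilizer W ⊓ Cfsg.Geo.omegaGL Q) ∨
    (∃ W : Submodule F (Fin 10 → F), Module.finrank F W = 4 ∧ Cfsg.Geo.IsNondegenerateOn (QuadraticMap.polar Q) W ∧ H = Cfsg.Geo.subspaceStabilizer W ⊓ Cfsg.Geo.omegaGL Q) ∨
    (¬ Odd (Fintype.card F) ∧ ∃ v : (Fin 10 → F), Q v ≠ 0 ∧ H = Cfsg.Geo.subspaceStabilizer (Submodule.span F {v}) ⊓ Cfsg.Geo.omegaGL Q) ∨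
    ((∃ p : ℕ, p.Prime ∧ Fintype.card F = p ∧ (p % 4 = 3)) ∧ ∃ D : Fin 10 → Submodule F (Fin 10 → F), Cfsg.Geo.IsOrthogonalMDecomposition Q 1 D ∧ H = Cfsg.Geo.decompositionStabilizer D ⊓ Cfsg.Geo.omegaGL Q) ∨
    (Fintype.card F ≠ 3 ∧ ∃ D : Fin 5 → Submodule F (Fin 10 → F), Cfsg.Geo.IsOrthogonalMDecomposition Q 2 D ∧ H = Cfsg.Geo.decompositionStabilizer D ⊓ Cfsg.Geo.omegaGL Q) ∨
    (Fintype.card F % 4 = 3 ∧ ∃ D : Fin 2 → Submodule F (Fin 10 → F), Cfsg.Geo.IsOrthogonalMDecomposition Q 5 D ∧ H = Cfsg.Geo.decompositionStabilizer D ⊓ Cfsg.Geo.omegaGL Q) ∨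
    (Fintype.card F % 4 = 1 ∧ ∃ D : Fin 2 → Submodule F (Fin 10 → F), Cfsg.Geo.IsNondegenerateMDecomposition (QuadraticMap.polar Q) 5 D ∧ ¬ Cfsg.Geo.AreIsometricFor Q (D 0) (D 1) ∧ H = Cfsg.Geo.decompositionStabilizer D ⊓ Cfsg.Geo.omegaGL Q) ∨
    (Odd (Fintype.card F) ∧ ∃ K : Subalgebra F (Matrix (Fin 10) (Fin 10) F), Cfsg.Geo.IsFieldSubalgebra 2 K ∧ Cfsg.Geo.IsSelfAdjointFor (QuadraticMap.polar Q) K ∧ H = Cfsg.Geo.subalgebraNormalizer K ⊓ Cfsg.Geo.omegaGL Q) ∨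
    (∃ K : Subalgebra F (Matrix (Fin 10) (Fin 10) F), Cfsg.Geo.IsFieldSubalgebra 2 K ∧ Cfsg.Geo.IsAdjointClosedFor (QuadraticMap.polar Q) K ∧ ¬ Cfsg.Geo.IsSelfAdjointFor (QuadraticMap.polar Q) K ∧ (∀ k ∈ K, ∃ c : F, ∀ v : (Fin 10 → F), Q (Matrix.mulVec k v) = c * Q v) ∧ H = Cfsg.Geo.subalgebraNormalizer K ⊓ Cfsg.Geo.omegaGL Q) ∨
    (∃ (F₀ : Subfield F) (r : ℕ) (P : Matrix.GeneralLinearGroup (Fin 10) F) (ζ : F), r.Prime ∧ Odd r ∧ Fintype.card F = Nat.card F₀ ^ r ∧ ζ ≠ 0 ∧ Cfsg.Geo.IsQuadFormRationalStructure (fun v : Fin 10 → F => ζ * Q v) F₀ P ∧ H = Cfsg.Geo.subfieldSubgroup F₀ P ⊓ Cfsg.Geo.omegaGL Q) ∨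
    Cfsg.Geo.InOrthogonalResidualClass H := by
  classical
  have hι : Fintype.card (Fin 10) = 10 := Fintype.card_fin 10
  have h5 : 5 ≤ Fintype.card (Fin 10) := by omega
  have h9 : 9 ≤ Fintype.card (Fin 10) := by omega
  have hn2 : Fintype.card (Fin 10) = 2 * 5 := by omega
  have h55 : Odd 5 := by decide
  have hG := hQ
  obtain ⟨q, rfl, hq⟩ := Orth.exists_form hQ
  have hHI : H ≤ isometryGroup F (⇑q) := hH.1.le.trans Orth.omega_le_iso
  cases even_outcome_of_not_power hG (by omega) ⟨5, by omega⟩ hHI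
      (fun d t hd ht => hι ▸ ten_not_power d t hd ht) with
  | totallySingular W h0 hts hle =>
    exact Or.inl ⟨W, h0, hts, subspace_max hq h5 hH
      (Nat.pos_of_ne_zero fun h => h0 (Submodule.finrank_eq_zero.1 h)) (singular_ne_top hq h5 hts) hle⟩
  | nonsingularPoint v hchar hv hle =>
    have hv0 : v ≠ 0 := fun h => hv (by rw [h, QuadraticMap.map_zero])
    exact Or.inr <| Or.inr <| Or.inr <| Or.inr <| Or.inr <| Or.inl ⟨hchar, v, hv, subspace_max hq h5 hH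
      (by rw [finrank_span_singleton hv0]; exact one_pos) (by rw [finrank_span_singleton hv0]; omega) hle⟩
  | nondegenerate W h0 hnd hdim hle =>
    rw [hι] at hdim
    have hpos : 0 < finrank F W := Nat.pos_of_ne_zero fun h => h0 (Submodule.finrank_eq_zero.1 h)
    have heq := subspace_max hq h5 hH hpos (by omega) hle
    rcases Nat.even_or_odd (finrank F W) with hev | hodd
    · obtain ⟨a, ha⟩ := hev
      have h24 : finrank F W = 2 ∨ finrank F W = 4 := by omega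
      rcases h24 with h2 | h4
      · by_cases hp : Geo.IsPlusTypeOn (⇑q) W
        · exact Or.inr <| Or.inr <| Or.inr <| Or.inl ⟨four_le_of_plus_plane hq h5 hH hnd h2 hp heq, W, h2, hnd, hp, heq⟩
        · exact Or.inr <| Or.inr <| Or.inl ⟨W, h2, hnd, hp, heq⟩
      · exact Or.inr <| Or.inr <| Or.inr <| Or.inr <| Or.inl ⟨W, h4, hnd, heq⟩
    · refine Or.inr <| Or.inl ⟨odd_card_of_odd_finrank hq hnd hodd, W, h0, ?_, hodd, by omega, hnd, heq⟩
      rintro rfl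
      rw [finrank_top, Module.finrank_pi] at hdim
      omega
  | halves D k hk hD hle =>
    obtain rfl : k = 5 := by omega
    have hoddq := odd_card_of_odd_finrank hq (hD.nondegenerate 0) (by rw [hD.decomp.finrank_eq]; exact h55)
    have hiff := halves_iso_iff hq (two_ne_zero_of_odd hoddq) hn2 h55 hD
    have heq := decomposition_max hq h5 hH hD.decomp (by norm_num) (by norm_num) (le_decomposition_of_parts hle)
    by_cases hiso : Geo.AreIsometricFor (⇑q) (D 0) (D 1)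
    · exact Or.inr <| Or.inr <| Or.inr <| Or.inr <| Or.inr <| Or.inr <| Or.inr <| Or.inr <| Or.inl ⟨card_mod_four_of_not_square fun h => hminus ((hiff.1 hiso).2 h), D,
        orthogonal_of_iso hD hiso, heq⟩
    · exact Or.inr <| Or.inr <| Or.inr <| Or.inr <| Or.inr <| Or.inr <| Or.inr <| Or.inr <| Or.inr <| Or.inl ⟨card_mod_four_of_square hoddq (by
        by_contra h
        exact hiso (hiff.2 (iff_of_false hminus h))), D, hD, hiso, heq⟩
  | decomposition t m D hD hline hle =>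
    have hcard := card_eq_of_isMDecomposition hD.decomp.decomp
    have ht := hD.decomp.decomp.two_le
    have hm := hD.decomp.decomp.pos
    rw [hι] at hcard
    have ht10 : t ≤ 10 := Nat.le_of_dvd (by norm_num) ⟨m, hcard⟩
    have hcases : (t = 10 ∧ m = 1) ∨ (t = 5 ∧ m = 2) ∨ (t = 2 ∧ m = 5) := by
      interval_cases t <;> omega
    rcases hcases with ⟨rfl, rfl⟩ | ⟨rfl, rfl⟩ | ⟨rfl, rfl⟩
    · obtain ⟨hp, hoddq⟩ := hline rfl
      have h2 := two_ne_zero_of_odd hoddq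
      have hns : ¬ IsSquare (-1 : F) := fun h => hminus ((lines_plus_iff hq h2 hn2 h55 hD).2 h)
      exact Or.inr <| Or.inr <| Or.inr <| Or.inr <| Or.inr <| Or.inr <| Or.inl ⟨⟨_, hp, rfl, card_mod_four_of_not_square hns⟩, D, hD,
        eq_inf_of_maximal hH hle (OrthExplicit.omega_not_le_lines hq h5 h2 hD.decomp.decomp)⟩
    · refine Or.inr <| Or.inr <| Or.inr <| Or.inr <| Or.inr <| Or.inr <| Or.inr <| Or.inl ⟨fun h3 => ?_, D, hD,
        decomposition_max hq h5 hH hD.decomp.decomp le_rfl (by omega) hle⟩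
      exact not_between hH hle (Orth.tiny_between hq h9 hD (Or.inl ⟨h3, Or.inl rfl⟩))
    · have hoddq := odd_card_of_odd_finrank hq (hD.decomp.nondegenerate 0)
        (by rw [hD.decomp.decomp.finrank_eq]; exact h55)
      have hiff := halves_iso_iff hq (two_ne_zero_of_odd hoddq) hn2 h55 hD.decomp
      exact Or.inr <| Or.inr <| Or.inr <| Or.inr <| Or.inr <| Or.inr <| Or.inr <| Or.inr <| Or.inl ⟨card_mod_four_of_not_square fun h => hminus ((hiff.1 (hD.isometric 0 1)).2 h), D, hD,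
        decomposition_max hq h5 hH hD.decomp.decomp (by norm_num) (by norm_num) hle⟩
  | pair k D hk hD hts hle =>
    exfalso
    refine hminus ⟨D 0, le_top, hts 0, ?_⟩
    rw [finrank_top, Module.finrank_pi, hD.finrank_eq, hk]
  | field r K hr hne hK hsa hle =>
    have hdvd := dvd_card_of_isFieldSubalgebra hK
    rw [hι] at hdvd
    rcases prime_eq_of_dvd_ten hr hdvd with rfl | rfl
    · refine Or.inr <| Or.inr <| Or.inr <| Or.inr <| Or.inr <| Or.inr <| Or.inr <| Or.inr <| Or.inr <| Or.inr <| Or.inl ⟨?_, K, hK, hsa, field_max hq h5 hH le_rfl hK hle⟩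
      by_contra hoddq
      exact no_selfAdjoint_field_two hq (two_eq_zero_of_not_odd hoddq) hn2 h55 hK hsa
    · rcases plane_field_cases hG h55 hn2 hHI hK hsa hle with ⟨D, hD, hts, -⟩ | ⟨K₂, hK₂, hcl, hns, hsim, hle₂⟩
      · exfalso
        refine hminus ⟨D 0, le_top, hts 0, ?_⟩
        rw [finrank_top, Module.finrank_pi, hD.finrank_eq, hn2]
      · exact Or.inr <| Or.inr <| Or.inr <| Or.inr <| Or.inr <| Or.inr <| Or.inr <| Or.inr <| Or.inr <| Or.inr <| Or.inr <| Or.inl ⟨K₂, hK₂, hcl, hns, hsim, field_max hq h5 hH le_rfl hK₂ hle₂⟩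
  | unitaryField K hK hcl hns hsim hle =>
    exact Or.inr <| Or.inr <| Or.inr <| Or.inr <| Or.inr <| Or.inr <| Or.inr <| Or.inr <| Or.inr <| Or.inr <| Or.inr <| Or.inl ⟨K, hK, hcl, hns, hsim, field_max hq h5 hH le_rfl hK hle⟩
  | tensorSymm n₁ n₂ e P f₁ f₂ hodd h3 h12 hf₁ hf₂ hstr hle =>
    exfalso
    have hcard : 10 = n₁ * n₂ := by simpa using Fintype.card_congr e
    obtain rfl : n₁ = 3 := by nlinarith
    omega
  | tensorAlt n₁ n₂ e P f₁ f₂ h2 h12 hf₁ hf₂ hstr hvan hle =>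
    exfalso
    have hcard : 10 = n₁ * n₂ := by simpa using Fintype.card_congr e
    obtain ⟨a, ha⟩ := even_dim_of_symplectic hf₁
    obtain ⟨b, hb⟩ := even_dim_of_symplectic hf₂
    have h13 : n₁ ≤ 3 := by nlinarith
    obtain rfl : n₁ = 2 := by omega
    omega
  | subfield F₀ r P ζ hr hcard hζ hrat hle =>
    have hr2 : r ≠ 2 := by
      rintro rfl
      exact hminus (plus_of_index_two hG ⟨5, by omega⟩ hζ hcard hrat)
    exact Or.inr <| Or.inr <| Or.inr <| Or.inr <| Or.inr <| Or.inr <| Or.inr <| Or.inr <| Or.inr <| Or.inr <| Or.inr <| Or.inr <| Or.inl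
      ⟨F₀, r, P, ζ, hr, hr.odd_of_ne_two hr2, hcard, hζ, hrat, subfield_max hq h5 hH hr hcard hle⟩
  | residual hres => exact Or.inr <| Or.inr <| Or.inr <| Or.inr <| Or.inr <| Or.inr <| Or.inr <| Or.inr <| Or.inr <| Or.inr <| Or.inr <| Or.inr <| Or.inr hres

theorem omega10plus_cases {F : Type*} [Field F] [Fintype F] (Q : (Fin 10 → F) → F) (hQ : Cfsg.Geo.IsNondegenerateQuadraticForm Q) (hplus : Cfsg.Geo.IsPlusTypeOn Q ⊤) (H : Subgroup (Matrix.GeneralLinearGroup (Fin 10) F)) (hH : Cfsg.Geo.IsMaximalIn (Cfsg.Geo.omegaGL Q) H) :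
    (∃ W : Submodule F (Fin 10 → F), W ≠ ⊥ ∧ Cfsg.Geo.IsTotallySingularQuad Q W ∧ Module.finrank F W ≠ 4 ∧ H = Cfsg.Geo.subspaceStabilizer W ⊓ Cfsg.Geo.omegaGL Q) ∨
    (Odd (Fintype.card F) ∧ ∃ W : Submodule F (Fin 10 → F), W ≠ ⊥ ∧ W ≠ ⊤ ∧ Odd (Module.finrank F W) ∧ 2 * Module.finrank F W ≠ 10 ∧ Cfsg.Geo.IsNondegenerateOn (QuadraticMap.polar Q) W ∧ H = Cfsg.Geo.subspaceStabilizer W ⊓ Cfsg.Geo.omegaGL Q) ∨
    (∃ W : Submodule F (Fin 10 → F), Module.finrank F W = 2 ∧ Cfsg.Geo.IsNondegenerateOn (QuadraticMap.polar Q) W ∧ ¬ Cfsg.Geo.IsPlusTypeOn Q W ∧ H = Cfsg.Geo.subspaceStabilizer W ⊓ Cfsg.Geo.omegaGL Q) ∨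
    (4 ≤ Fintype.card F ∧ ∃ W : Submodule F (Fin 10 → F), Module.finrank F W = 2 ∧ Cfsg.Geo.IsNondegenerateOn (QuadraticMap.polar Q) W ∧ Cfsg.Geo.IsPlusTypeOn Q W ∧ H = Cfsg.Geo.subspaceStabilizer W ⊓ Cfsg.Geo.omegaGL Q) ∨
    (∃ W : Submodule F (Fin 10 → F), Module.finrank F W = 4 ∧ Cfsg.Geo.IsNondegenerateOn (QuadraticMap.polar Q) W ∧ H = Cfsg.Geo.subspaceStabilizer W ⊓ Cfsg.Geo.omegaGL Q) ∨
    (¬ Odd (Fintype.card F) ∧ ∃ v : (Fin 10 → F), Q v ≠ 0 ∧ H = Cfsg.Geo.subspaceStabilizer (Submodule.span F {v}) ⊓ Cfsg.Geo.omegaGL Q) ∨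
    ((∃ p : ℕ, p.Prime ∧ Fintype.card F = p ∧ (p % 4 = 1)) ∧ ∃ D : Fin 10 → Submodule F (Fin 10 → F), Cfsg.Geo.IsOrthogonalMDecomposition Q 1 D ∧ H = Cfsg.Geo.decompositionStabilizer D ⊓ Cfsg.Geo.omegaGL Q) ∨
    (7 ≤ Fintype.card F ∧ ∃ D : Fin 5 → Submodule F (Fin 10 → F), Cfsg.Geo.IsOrthogonalMDecomposition Q 2 D ∧ H = Cfsg.Geo.decompositionStabilizer D ⊓ Cfsg.Geo.omegaGL Q) ∨
    (Fintype.card F % 4 = 1 ∧ ∃ D : Fin 2 → Submodule F (Fin 10 → F), Cfsg.Geo.IsOrthogonalMDecomposition Q 5 D ∧ H = Cfsg.Geo.decompositionStabilizer D ⊓ Cfsg.Geo.omegaGL Q) ∨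
    (Fintype.card F % 4 = 3 ∧ ∃ D : Fin 2 → Submodule F (Fin 10 → F), Cfsg.Geo.IsNondegenerateMDecomposition (QuadraticMap.polar Q) 5 D ∧ ¬ Cfsg.Geo.AreIsometricFor Q (D 0) (D 1) ∧ H = Cfsg.Geo.decompositionStabilizer D ⊓ Cfsg.Geo.omegaGL Q) ∨
    (Odd (Fintype.card F) ∧ ∃ K : Subalgebra F (Matrix (Fin 10) (Fin 10) F), Cfsg.Geo.IsFieldSubalgebra 2 K ∧ Cfsg.Geo.IsSelfAdjointFor (QuadraticMap.polar Q) K ∧ H = Cfsg.Geo.subalgebraNormalizer K ⊓ Cfsg.Geo.omegaGL Q) ∨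
    (∃ (F₀ : Subfield F) (r : ℕ) (P : Matrix.GeneralLinearGroup (Fin 10) F) (ζ : F), r.Prime ∧ Fintype.card F = Nat.card F₀ ^ r ∧ ζ ≠ 0 ∧ Cfsg.Geo.IsQuadFormRationalStructure (fun v : Fin 10 → F => ζ * Q v) F₀ P ∧ H = Cfsg.Geo.subfieldSubgroup F₀ P ⊓ Cfsg.Geo.omegaGL Q) ∨
    Cfsg.Geo.InOrthogonalResidualClass H := by
  classical
  have hι : Fintype.card (Fin 10) = 10 := Fintype.card_fin 10
  have h5 : 5 ≤ Fintype.card (Fin 10) := by omega
  have h9 : 9 ≤ Fintype.card (Fin 10) := by omega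
  have hn2 : Fintype.card (Fin 10) = 2 * 5 := by omega
  have h55 : Odd 5 := by decide
  have hG := hQ
  obtain ⟨q, rfl, hq⟩ := Orth.exists_form hQ
  have hHI : H ≤ isometryGroup F (⇑q) := hH.1.le.trans Orth.omega_le_iso
  cases even_outcome_of_not_power hG (by omega) ⟨5, by omega⟩ hHI
      (fun d t hd ht => hι ▸ ten_not_power d t hd ht) with
  | totallySingular W h0 hts hle =>
    refine Or.inl ⟨W, h0, hts, fun h4 => ?_, subspace_max hq h5 hH
      (Nat.pos_of_ne_zero fun h => h0 (Submodule.finrank_eq_zero.1 h)) (singular_ne_top hq h5 hts) hle⟩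
    exact not_between hH hle (Orth.submaximal_between hq hn2 h5 hts (by omega) hplus)
  | nonsingularPoint v hchar hv hle =>
    have hv0 : v ≠ 0 := fun h => hv (by rw [h, QuadraticMap.map_zero])
    exact Or.inr <| Or.inr <| Or.inr <| Or.inr <| Or.inr <| Or.inl ⟨hchar, v, hv, subspace_max hq h5 hH
      (by rw [finrank_span_singleton hv0]; exact one_pos) (by rw [finrank_span_singleton hv0]; omega) hle⟩
  | nondegenerate W h0 hnd hdim hle =>
    rw [hι] at hdim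
    have hpos : 0 < finrank F W := Nat.pos_of_ne_zero fun h => h0 (Submodule.finrank_eq_zero.1 h)
    have heq := subspace_max hq h5 hH hpos (by omega) hle
    rcases Nat.even_or_odd (finrank F W) with hev | hodd
    · obtain ⟨a, ha⟩ := hev
      have h24 : finrank F W = 2 ∨ finrank F W = 4 := by omega
      rcases h24 with h2 | h4
      · by_cases hp : Geo.IsPlusTypeOn (⇑q) W
        · exact Or.inr <| Or.inr <| Or.inr <| Or.inl ⟨four_le_of_plus_plane hq h5 hH hnd h2 hp heq, W, h2, hnd, hp, heq⟩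
        · exact Or.inr <| Or.inr <| Or.inl ⟨W, h2, hnd, hp, heq⟩
      · exact Or.inr <| Or.inr <| Or.inr <| Or.inr <| Or.inl ⟨W, h4, hnd, heq⟩
    · refine Or.inr <| Or.inl ⟨odd_card_of_odd_finrank hq hnd hodd, W, h0, ?_, hodd, by omega, hnd, heq⟩
      rintro rfl
      rw [finrank_top, Module.finrank_pi] at hdim
      omega
  | halves D k hk hD hle =>
    obtain rfl : k = 5 := by omega
    have hoddq := odd_card_of_odd_finrank hq (hD.nondegenerate 0) (by rw [hD.decomp.finrank_eq]; exact h55)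
    have hiff := halves_iso_iff hq (two_ne_zero_of_odd hoddq) hn2 h55 hD
    have heq := decomposition_max hq h5 hH hD.decomp (by norm_num) (by norm_num) (le_decomposition_of_parts hle)
    by_cases hiso : Geo.AreIsometricFor (⇑q) (D 0) (D 1)
    · exact Or.inr <| Or.inr <| Or.inr <| Or.inr <| Or.inr <| Or.inr <| Or.inr <| Or.inr <| Or.inl ⟨card_mod_four_of_square hoddq ((hiff.1 hiso).1 hplus), D,
        orthogonal_of_iso hD hiso, heq⟩
    · exact Or.inr <| Or.inr <| Or.inr <| Or.inr <| Or.inr <| Or.inr <| Or.inr <| Or.inr <| Or.inr <| Or.inl ⟨card_mod_four_of_not_square fun h => hiso (hiff.2 (iff_of_true hplus h)), D, hD,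
        hiso, heq⟩
  | decomposition t m D hD hline hle =>
    have hcard := card_eq_of_isMDecomposition hD.decomp.decomp
    have ht := hD.decomp.decomp.two_le
    have hm := hD.decomp.decomp.pos
    rw [hι] at hcard
    have ht10 : t ≤ 10 := Nat.le_of_dvd (by norm_num) ⟨m, hcard⟩
    have hcases : (t = 10 ∧ m = 1) ∨ (t = 5 ∧ m = 2) ∨ (t = 2 ∧ m = 5) := by
      interval_cases t <;> omega
    rcases hcases with ⟨rfl, rfl⟩ | ⟨rfl, rfl⟩ | ⟨rfl, rfl⟩
    · obtain ⟨hp, hoddq⟩ := hline rfl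
      have h2 := two_ne_zero_of_odd hoddq
      exact Or.inr <| Or.inr <| Or.inr <| Or.inr <| Or.inr <| Or.inr <| Or.inl ⟨⟨_, hp, rfl, card_mod_four_of_square hoddq ((lines_plus_iff hq h2 hn2 h55 hD).1 hplus)⟩,
        D, hD, eq_inf_of_maximal hH hle (OrthExplicit.omega_not_le_lines hq h5 h2 hD.decomp.decomp)⟩
    · have hall := plus_of_five hq hplus hD
      have hno : ¬ (Fintype.card F = 2 ∨ Fintype.card F = 4 ∨ Fintype.card F = 5) := fun h =>
        not_between hH hle (Orth.tiny_between hq h9 hD (Or.inr (Or.inl ⟨rfl, hall, h⟩)))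
      have h3 : Fintype.card F ≠ 3 := fun h =>
        not_between hH hle (Orth.tiny_between hq h9 hD (Or.inl ⟨h, Or.inl rfl⟩))
      exact Or.inr <| Or.inr <| Or.inr <| Or.inr <| Or.inr <| Or.inr <| Or.inr <| Or.inl ⟨seven_le_card (fun h => hno (Or.inl h)) h3 (fun h => hno (Or.inr (Or.inl h)))
        fun h => hno (Or.inr (Or.inr h)), D, hD, decomposition_max hq h5 hH hD.decomp.decomp le_rfl (by omega) hle⟩
    · have hoddq := odd_card_of_odd_finrank hq (hD.decomp.nondegenerate 0)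
        (by rw [hD.decomp.decomp.finrank_eq]; exact h55)
      have hiff := halves_iso_iff hq (two_ne_zero_of_odd hoddq) hn2 h55 hD.decomp
      exact Or.inr <| Or.inr <| Or.inr <| Or.inr <| Or.inr <| Or.inr <| Or.inr <| Or.inr <| Or.inl ⟨card_mod_four_of_square hoddq ((hiff.1 (hD.isometric 0 1)).1 hplus), D, hD,
        decomposition_max hq h5 hH hD.decomp.decomp (by norm_num) (by norm_num) hle⟩
  | pair k D hk hD hts hle =>
    obtain rfl : k = 5 := by omega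
    exact (not_between hH hle (Orth.singular_pair_between hq hn2 h5 h55 D hD hts)).elim
  | field r K hr hne hK hsa hle =>
    have hdvd := dvd_card_of_isFieldSubalgebra hK
    rw [hι] at hdvd
    rcases prime_eq_of_dvd_ten hr hdvd with rfl | rfl
    · refine Or.inr <| Or.inr <| Or.inr <| Or.inr <| Or.inr <| Or.inr <| Or.inr <| Or.inr <| Or.inr <| Or.inr <| Or.inl ⟨?_, K, hK, hsa, field_max hq h5 hH le_rfl hK hle⟩
      by_contra hoddq
      exact no_selfAdjoint_field_two hq (two_eq_zero_of_not_odd hoddq) hn2 h55 hK hsa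
    · rcases plane_field_cases hG h55 hn2 hHI hK hsa hle with ⟨D, hD, hts, hle'⟩ | ⟨K₂, hK₂, -, -, hsim, -⟩
      · exact (not_between hH hle' (Orth.singular_pair_between hq hn2 h5 h55 D hD hts)).elim
      · exact (no_similar_field_plus hq hn2 h55 hplus hK₂ hsim).elim
  | unitaryField K hK hcl hns hsim hle => exact (no_similar_field_plus hq hn2 h55 hplus hK hsim).elim
  | tensorSymm n₁ n₂ e P f₁ f₂ hodd h3 h12 hf₁ hf₂ hstr hle =>
    exfalso
    have hcard : 10 = n₁ * n₂ := by simpa using Fintype.card_congr e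
    obtain rfl : n₁ = 3 := by nlinarith
    omega
  | tensorAlt n₁ n₂ e P f₁ f₂ h2 h12 hf₁ hf₂ hstr hvan hle =>
    exfalso
    have hcard : 10 = n₁ * n₂ := by simpa using Fintype.card_congr e
    obtain ⟨a, ha⟩ := even_dim_of_symplectic hf₁
    obtain ⟨b, hb⟩ := even_dim_of_symplectic hf₂
    have h13 : n₁ ≤ 3 := by nlinarith
    obtain rfl : n₁ = 2 := by omega
    omega
  | subfield F₀ r P ζ hr hcard hζ hrat hle =>
    exact Or.inr <| Or.inr <| Or.inr <| Or.inr <| Or.inr <| Or.inr <| Or.inr <| Or.inr <| Or.inr <| Or.inr <| Or.inr <| Or.inl ⟨F₀, r, P, ζ, hr, hcard, hζ, hrat, subfield_max hq h5 hH hr hcard hle⟩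
  | residual hres => exact Or.inr <| Or.inr <| Or.inr <| Or.inr <| Or.inr <| Or.inr <| Or.inr <| Or.inr <| Or.inr <| Or.inr <| Or.inr <| Or.inr hres

end Cfsg.Agent.Aschbacher.OrthEven
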