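import Cfsg.Agent.Lib.Aschbacher.OrthEven.Common
import Cfsg.Agent.Lib.Aschbacher.FormCases
import Cfsg.Agent.Lib.Aschbacher.SpExplicit.TensorCommon
import Cfsg.Agent.Lib.QForm.NormForm
import Cfsg.Agent.Lib.QForm.PlusType

/-!
Tensor decompositions of quadratic spaces of even dimension: they are not preserved by `Ω`, and a symmetric
decomposition `3 ⊗ 4` of a space of plus type refines an alternating decomposition `2 ⊗ 6`.
-/

set_option autoImplicit false
set_option linter.unusedSectionVars false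
set_option maxHeartbeats 1000000

namespace Cfsg.Agent.Aschbacher.OrthEven

open Matrix
open scoped MatrixGroups Kronecker
open Cfsg.Agent.MaxCl
open Cfsg.Agent.Aschbacher.OrthExplicit (FixesCodimTwo)
open Module (finrank)

variable {ι : Type} [Fintype ι] [DecidableEq ι] {F : Type*} [Field F]

/-- The pure tensors as a bilinear map. -/
def pureLin {n₁ n₂ : ℕ} (e : ι ≃ Fin n₁ × Fin n₂) (P : GL ι F) :
    (Fin n₁ → F) →ₗ[F] (Fin n₂ → F) →ₗ[F] (ι → F) :=
  LinearMap.mk₂ F (SpExplicit.pureVec e P)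
    (fun x x' y => by simp only [SpExplicit.pureVec, ← Matrix.mulVec_add]; congr 1; funext i; simp [add_mul])
    (fun r x y => by simp only [SpExplicit.pureVec, ← Matrix.mulVec_smul]; congr 1; funext i; simp [mul_assoc])
    (fun x y y' => by simp only [SpExplicit.pureVec, ← Matrix.mulVec_add]; congr 1; funext i; simp [mul_add])
    (fun r x y => by simp only [SpExplicit.pureVec, ← Matrix.mulVec_smul]; congr 1; funext i; simp [mul_left_comm])

section Omega

variable [Fintype F] {Q : QuadraticForm F (ι → F)} (hQ : (QuadraticMap.polarBilin Q).Nondegenerate)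
  (h5 : 5 ≤ Fintype.card ι)
include hQ h5

/-- `Ω` preserves no tensor decomposition. -/
theorem omega_not_le_tensor {n₁ n₂ : ℕ} (h2 : 2 ≤ n₁) (h3 : 3 ≤ n₂) (e : ι ≃ Fin n₁ × Fin n₂) (P : GL ι F) :
    ¬ Geo.omegaGL (⇑Q) ≤ Geo.tensorProductSubgroup n₁ n₂ e P := by
  classical
  intro hle
  have hcard : Fintype.card ι = n₁ * n₂ := by rw [Fintype.card_congr e]; simp
  haveI : NeZero n₁ := ⟨by omega⟩
  haveI : NeZero n₂ := ⟨by omega⟩
  set x₀ : Fin n₁ → F := Pi.single 0 1
  have hcancel : ∀ {x x' : Fin n₁ → F} {y y' : Fin n₂ → F},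
      pureLin e P x y = pureLin e P x' y' → ∀ p q, x p * y q = x' p * y' q := by
    intro x x' y y' h p q
    have h1 := congrFun (mulVec_injective P h) (e.symm (p, q))
    simpa using h1
  set W := LinearMap.range (pureLin e P x₀)
  refine omega_not_le_subspace hQ h5 (W := W) (fun h0 => ?_) (fun h1 => ?_) ?_
  · have h1 : pureLin e P x₀ (Pi.single 0 1) = pureLin e P 0 0 := by
      rw [map_zero]
      exact (Submodule.mem_bot F).1 (h0 ▸ ⟨_, rfl⟩)
    simpa [x₀] using hcancel h1 0 0
  · have h2' : finrank F W ≤ n₂ := (LinearMap.finrank_range_le _).trans_eq (by simp)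
    rw [h1, finrank_top, Module.finrank_pi, hcard] at h2'
    nlinarith
  rw [Orth.omega_eq_sgGroup hQ h5, Orth.sgGroup, Subgroup.closure_le]
  rintro _ ⟨⟨u, w⟩, rfl⟩
  set g := Orth.sg Q u w
  obtain ⟨a, b, hab⟩ := SpExplicit.exists_factors (hle (Orth.sg_mem_omega hQ h5 u w))
  obtain ⟨E, hE, hEfix⟩ := OrthExplicit.fixesCodimTwo_sg hQ u w
  obtain ⟨c, hc⟩ := SpExplicit.scalar_of_eigen (x := (a : Matrix (Fin n₁) (Fin n₁) F)) fun x hx => by
    obtain ⟨y, hy, hyE⟩ := OrthExplicit.exists_preimage hE (pureLin e P x) (by simpa using h3)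
    have hby : (b : Matrix (Fin n₂) (Fin n₂) F) *ᵥ y ≠ 0 := mt (mulVec_eq_zero_iff b).1 hy
    obtain ⟨q, hq⟩ := Function.ne_iff.1 hby
    have h := hcancel ((hab x y).symm.trans (hEfix _ hyE))
    refine Submodule.mem_span_singleton.2 ⟨y q / ((b : Matrix (Fin n₂) (Fin n₂) F) *ᵥ y) q, funext fun p => ?_⟩
    have hq' : ((b : Matrix (Fin n₂) (Fin n₂) F) *ᵥ y) q ≠ 0 := hq
    simp only [Pi.smul_apply, smul_eq_mul]
    field_simp
    linear_combination -h p q
  refine Aschbacher.mem_subspaceStabilizer fun v hv => ?_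
  obtain ⟨y, rfl⟩ := hv
  refine ⟨c • ((b : Matrix (Fin n₂) (Fin n₂) F) *ᵥ y), ?_⟩
  show _ = (g : Matrix ι ι F) *ᵥ SpExplicit.pureVec e P x₀ y
  rw [hab, hc, Matrix.smul_mulVec, Matrix.one_mulVec, map_smul]
  show c • pureLin e P x₀ _ = pureLin e P (c • x₀) _
  rw [map_smul, LinearMap.smul_apply]

end Omega

/-- `Ω` lies in the special linear group. -/
theorem omega_det {Q : (ι → F) → F} {g : GL ι F} (hg : g ∈ Geo.omegaGL Q) :
    (g : Matrix ι ι F).det = 1 := by
  obtain ⟨x, hx, rfl⟩ := hg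
  have h1 := Abelianization.commutator_subset_ker
    ((Matrix.GeneralLinearGroup.det : GL ι F →* Fˣ).comp (isometryGroup F Q).subtype) hx
  exact congrArg Units.val (MonoidHom.mem_ker.1 h1)

section TwoByTwo

/-- The determinant of a rank one matrix vanishes and every such matrix is an outer product. -/
theorem exists_outer {M : Matrix (Fin 2) (Fin 2) F} (h : M.det = 0) :
    ∃ u w : Fin 2 → F, M = vecMulVec u w := by
  rw [Matrix.det_fin_two] at h
  by_cases h0 : M 0 0 = 0
  · by_cases h1 : M 0 1 = 0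
    · refine ⟨![0, 1], M 1, Matrix.ext fun i j => ?_⟩
      fin_cases i <;> fin_cases j <;> simp [vecMulVec, h0, h1]
    · have h10 : M 1 0 = 0 := (mul_eq_zero.1 (show M 0 1 * M 1 0 = 0 by
        rw [h0] at h; linear_combination -h)).resolve_left h1
      refine ⟨![1, M 1 1 / M 0 1], M 0, Matrix.ext fun i j => ?_⟩
      fin_cases i <;> fin_cases j <;> simp [vecMulVec, h0, h10, h1]
  · refine ⟨![1, M 1 0 / M 0 0], M 0, Matrix.ext fun i j => ?_⟩
    fin_cases i <;> fin_cases j <;> simp [vecMulVec, h0]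
    field_simp
    linear_combination h

/-- Two vectors of the plane of vanishing determinant are parallel. -/
theorem exists_smul_of_cross {u v : Fin 2 → F} (hu : u ≠ 0) (h : u 0 * v 1 - u 1 * v 0 = 0) :
    ∃ k : F, v = k • u := by
  by_cases h0 : u 0 = 0
  · have h1 : u 1 ≠ 0 := fun h1 => hu (funext fun i => by fin_cases i <;> assumption)
    refine ⟨v 1 / u 1, funext fun i => ?_⟩
    fin_cases i <;> simp [h1]
    rw [h0]
    have : v 0 = 0 := (mul_eq_zero.1 (show u 1 * v 0 = 0 by rw [h0] at h; linear_combination -h)).resolve_left h1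
    simp [this]
  · refine ⟨v 0 / u 0, funext fun i => ?_⟩
    fin_cases i <;> simp [h0]
    field_simp
    linear_combination h

theorem det_outer_add (u v u' v' : Fin 2 → F) :
    (vecMulVec u v + vecMulVec u' v').det = (u 0 * u' 1 - u 1 * u' 0) * (v 0 * v' 1 - v 1 * v' 0) := by
  simp [Matrix.det_fin_two, vecMulVec]
  ring

theorem single_decomp (M : Matrix (Fin 2) (Fin 2) F) :
    M = M 0 0 • Matrix.single 0 0 1 + M 1 1 • Matrix.single 1 1 1 + M 0 1 • Matrix.single 0 1 1 +
      M 1 0 • Matrix.single 1 0 1 := by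
  ext i j
  fin_cases i <;> fin_cases j <;> simp

/-- Linear similitudes of the determinant of two by two matrices. -/
theorem det_similitude_cases (T : Matrix (Fin 2) (Fin 2) F →ₗ[F] Matrix (Fin 2) (Fin 2) F) {μ : F} (hμ : μ ≠ 0)
    (hT : ∀ M, (T M).det = μ * M.det) (hinj : Function.Injective T) :
    ∃ A C : Matrix (Fin 2) (Fin 2) F, A.det * C.det = μ ∧
      ((∀ M, T M = A * M * C) ∨ ∀ M, T M = A * Mᵀ * C) := by
  classical
  have hz : ∀ i j, (T (Matrix.single i j 1)).det = 0 := fun i j => by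
    rw [hT]; fin_cases i <;> fin_cases j <;> simp [Matrix.det_fin_two]
  choose u w hR using fun i j => exists_outer (hz i j)
  have hu : ∀ i j, u i j ≠ 0 ∧ w i j ≠ 0 := fun i j => by
    constructor <;> intro h <;>
    · have h1 : T (Matrix.single i j 1) = T 0 := by rw [hR, h, map_zero]; simp
      exact one_ne_zero (α := F) (by simpa using congrFun (congrFun (hinj h1) i) j)
  set cu := fun a b : Fin 2 → F => a 0 * b 1 - a 1 * b 0
  have hsum : ∀ i j k l, cu (u i j) (u k l) * cu (w i j) (w k l) =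
      μ * (Matrix.single i j (1 : F) + Matrix.single k l 1).det := fun i j k l => by
    rw [← hT, map_add, hR, hR, det_outer_add]
  have hdiag : cu (u 0 0) (u 1 1) * cu (w 0 0) (w 1 1) = μ := by
    rw [hsum]; simp [Matrix.det_fin_two]
  obtain ⟨hcu, hcw⟩ := mul_ne_zero_iff.1 (hdiag ▸ hμ : cu (u 0 0) (u 1 1) * cu (w 0 0) (w 1 1) ≠ 0)
  -- the image of an off-diagonal unit is a product of two diagonal factors
  have hoff : ∀ i j, i ≠ j → (∃ k : F, T (Matrix.single i j 1) = k • vecMulVec (u 0 0) (w 1 1)) ∨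
      ∃ k : F, T (Matrix.single i j 1) = k • vecMulVec (u 1 1) (w 0 0) := by
    intro i j hij
    have ha : cu (u 0 0) (u i j) * cu (w 0 0) (w i j) = 0 := by
      rw [hsum]; fin_cases i <;> fin_cases j <;> simp [Matrix.det_fin_two] at hij ⊢
    have hb : cu (u 1 1) (u i j) * cu (w 1 1) (w i j) = 0 := by
      rw [hsum]; fin_cases i <;> fin_cases j <;> simp [Matrix.det_fin_two] at hij ⊢
    rcases mul_eq_zero.1 ha with ha | ha <;> rcases mul_eq_zero.1 hb with hb | hb
    · obtain ⟨k, hk⟩ := exists_smul_of_cross (hu 0 0).1 ha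
      obtain ⟨k', hk'⟩ := exists_smul_of_cross (hu 1 1).1 hb
      have hk0 : k ≠ 0 := fun h => (hu i j).1 (by rw [hk, h, zero_smul])
      refine absurd ?_ hcu
      have e0 := congrFun (hk.symm.trans hk') 0
      have e1 := congrFun (hk.symm.trans hk') 1
      simp only [Pi.smul_apply, smul_eq_mul] at e0 e1
      refine (mul_eq_zero.1 (show k * cu (u 0 0) (u 1 1) = 0 from ?_)).resolve_left hk0
      show k * (u 0 0 0 * u 1 1 1 - u 0 0 1 * u 1 1 0) = 0
      linear_combination u 1 1 1 * e0 - u 1 1 0 * e1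
    · obtain ⟨k, hk⟩ := exists_smul_of_cross (hu 0 0).1 ha
      obtain ⟨k', hk'⟩ := exists_smul_of_cross (hu 1 1).2 hb
      exact Or.inl ⟨k * k', by rw [hR, hk, hk', smul_vecMulVec, vecMulVec_smul, smul_smul]⟩
    · obtain ⟨k, hk⟩ := exists_smul_of_cross (hu 0 0).2 ha
      obtain ⟨k', hk'⟩ := exists_smul_of_cross (hu 1 1).1 hb
      exact Or.inr ⟨k' * k, by rw [hR, hk, hk', smul_vecMulVec, vecMulVec_smul, smul_smul]⟩
    · obtain ⟨k, hk⟩ := exists_smul_of_cross (hu 0 0).2 ha
      obtain ⟨k', hk'⟩ := exists_smul_of_cross (hu 1 1).2 hb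
      have hk0 : k ≠ 0 := fun h => (hu i j).2 (by rw [hk, h, zero_smul])
      refine absurd ?_ hcw
      have e0 := congrFun (hk.symm.trans hk') 0
      have e1 := congrFun (hk.symm.trans hk') 1
      simp only [Pi.smul_apply, smul_eq_mul] at e0 e1
      refine (mul_eq_zero.1 (show k * cu (w 0 0) (w 1 1) = 0 from ?_)).resolve_left hk0
      show k * (w 0 0 0 * w 1 1 1 - w 0 0 1 * w 1 1 0) = 0
      linear_combination w 1 1 1 * e0 - w 1 1 0 * e1
  set R₁ := vecMulVec (u 0 0) (w 1 1)
  set R₂ := vecMulVec (u 1 1) (w 0 0)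
  have hprod : ∀ p q : F, (p • R₁ + q • R₂).det = p * q * (cu (u 0 0) (u 1 1) * cu (w 1 1) (w 0 0)) := fun p q => by
    simp [Matrix.det_fin_two, R₁, R₂, vecMulVec, cu]; ring
  have hoffdet : (T (Matrix.single 0 1 1) + T (Matrix.single 1 0 1)).det = -μ := by
    rw [← map_add, hT]; simp [Matrix.det_fin_two]
  have hsame : ∀ p q : F, ∀ R : Matrix (Fin 2) (Fin 2) F, R.det = 0 →
      T (Matrix.single 0 1 1) = p • R → T (Matrix.single 1 0 1) = q • R → False := fun p q R hR0 hp hq => by
    rw [hp, hq, ← add_smul, Matrix.det_smul, hR0, mul_zero] at hoffdet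
    exact hμ (neg_eq_zero.1 hoffdet.symm)
  have hlin : ∀ M, T M = M 0 0 • vecMulVec (u 0 0) (w 0 0) + M 1 1 • vecMulVec (u 1 1) (w 1 1) +
      M 0 1 • T (Matrix.single 0 1 1) + M 1 0 • T (Matrix.single 1 0 1) := fun M => by
    conv_lhs => rw [single_decomp M]
    rw [map_add, map_add, map_add, map_smul, map_smul, map_smul, map_smul, hR 0 0, hR 1 1]
  have hcross : cu (w 1 1) (w 0 0) = -cu (w 0 0) (w 1 1) := by simp only [cu]; ring
  rcases hoff 0 1 (by decide) with ⟨p, hp⟩ | ⟨p, hp⟩ <;> rcases hoff 1 0 (by decide) with ⟨q, hq⟩ | ⟨q, hq⟩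
  · exact (hsame p q R₁ (by simp [R₁, Matrix.det_fin_two, vecMulVec]; ring) hp hq).elim
  · have hpq : p * q = 1 := by
      rw [hp, hq, hprod, hcross] at hoffdet
      exact mul_right_cancel₀ hμ (by linear_combination -hoffdet - (p * q) * hdiag)
    refine ⟨!![u 0 0 0, q * u 1 1 0; u 0 0 1, q * u 1 1 1], !![w 0 0 0, w 0 0 1; p * w 1 1 0, p * w 1 1 1],
      ?_, Or.inl fun M => ?_⟩
    · simp [Matrix.det_fin_two]
      simp only [cu] at hdiag
      linear_combination p * q * hdiag + μ * hpq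
    · rw [hlin, hp, hq]
      ext i j
      fin_cases i <;> fin_cases j <;> simp [R₁, R₂, vecMulVec, Matrix.mul_apply, Matrix.vecMul, dotProduct, Fin.sum_univ_two]
      all_goals first
        | linear_combination -(M 1 1 * u 1 1 0 * w 1 1 0) * hpq
        | linear_combination -(M 1 1 * u 1 1 0 * w 1 1 1) * hpq
        | linear_combination -(M 1 1 * u 1 1 1 * w 1 1 0) * hpq
        | linear_combination -(M 1 1 * u 1 1 1 * w 1 1 1) * hpq
  · have hpq : q * p = 1 := by
      rw [hp, hq, add_comm, hprod, hcross] at hoffdet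
      exact mul_right_cancel₀ hμ (by linear_combination -hoffdet - (q * p) * hdiag)
    refine ⟨!![u 0 0 0, p * u 1 1 0; u 0 0 1, p * u 1 1 1], !![w 0 0 0, w 0 0 1; q * w 1 1 0, q * w 1 1 1],
      ?_, Or.inr fun M => ?_⟩
    · simp [Matrix.det_fin_two]
      simp only [cu] at hdiag
      linear_combination p * q * hdiag + μ * hpq
    · rw [hlin, hp, hq]
      ext i j
      fin_cases i <;> fin_cases j <;> simp [R₁, R₂, vecMulVec, Matrix.mul_apply, Matrix.vecMul, dotProduct, Fin.sum_univ_two]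
      all_goals first
        | linear_combination -(M 1 1 * u 1 1 0 * w 1 1 0) * hpq
        | linear_combination -(M 1 1 * u 1 1 0 * w 1 1 1) * hpq
        | linear_combination -(M 1 1 * u 1 1 1 * w 1 1 0) * hpq
        | linear_combination -(M 1 1 * u 1 1 1 * w 1 1 1) * hpq
  · exact (hsame p q R₂ (by simp [R₂, Matrix.det_fin_two, vecMulVec]; ring) hp hq).elim

/-- The transposed case reverses the orientation. -/
theorem det_transpose_similitude {T : Matrix (Fin 2) (Fin 2) F →ₗ[F] Matrix (Fin 2) (Fin 2) F}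
    {A C : Matrix (Fin 2) (Fin 2) F} (hT : ∀ M, T M = A * Mᵀ * C) :
    LinearMap.det T = -(A.det * C.det) ^ 2 := by
  classical
  let b := Matrix.stdBasis F (Fin 2) (Fin 2)
  let σ : Equiv.Perm (Fin 2 × Fin 2) := Equiv.prodComm _ _
  have hmat : LinearMap.toMatrix b b T = (A ⊗ₖ Cᵀ).submatrix id σ := by
    ext ⟨i, j⟩ ⟨k, l⟩
    rw [LinearMap.toMatrix_apply]
    simp only [b, Matrix.stdBasis_eq_single, hT, Matrix.submatrix_apply, id_eq]
    show (A * (Matrix.single k l (1 : F))ᵀ * C) i j = _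
    fin_cases k <;> fin_cases l <;> simp [σ, Matrix.transpose_single, Matrix.mul_apply, Matrix.single_apply]
  rw [← LinearMap.det_toMatrix b, hmat, Matrix.det_permute', Matrix.det_kronecker, Matrix.det_transpose,
    show Equiv.Perm.sign σ = -1 by decide]
  simp [mul_pow]

end TwoByTwo

end Cfsg.Agent.Aschbacher.OrthEven
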