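import Cfsg.Agent.Lib.Aschbacher.FormSymplectic
import Cfsg.Agent.Lib.Aschbacher.FormOrthTools

/-!
Quadratic forms in even dimension and any characteristic: uniqueness under irreducible groups, rational
structures, quadratic field structures, totally singular pairs, pureVec tensors.
-/

set_option autoImplicit false
set_option linter.unusedSectionVars false
set_option linter.style.haveILetI false

namespace Cfsg.Agent.Aschbacher.OrthEven

open Matrix
open scoped MatrixGroups Kronecker

variable {ι : Type} [Fintype ι] [DecidableEq ι] {F : Type*} [Field F] [Fintype F]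
variable {Q : (ι → F) → F} {H : Subgroup (GL ι F)}

theorem quadFun (hQ : Geo.IsNondegenerateQuadraticForm Q) : IsQuadFun Q := ⟨hQ.smul, hQ.polar_bilinear⟩

theorem refForm (hQ : Geo.IsNondegenerateQuadraticForm Q) :
    RefForm (RingEquiv.refl F) 1 (QuadraticMap.polar Q) :=
  RefForm.of_symmetric hQ.polar_bilinear hQ.nondegenerate fun u v => QuadraticMap.polar_comm Q u v

theorem iso_fix (hH : H ≤ isometryGroup F Q) {g : GL ι F} (hg : g ∈ H) (v : ι → F) :
    Q ((g : Matrix ι ι F) *ᵥ v) = Q v := hH hg v v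

theorem iso_polar (hH : H ≤ isometryGroup F Q) :
    H ≤ preserving (glToMat ι F) (QuadraticMap.polar Q) := by
  intro g hg u v
  show Q ((g : Matrix ι ι F) *ᵥ u + (g : Matrix ι ι F) *ᵥ v) - _ - _ = _
  rw [← Matrix.mulVec_add]
  show _ - Q ((g : Matrix ι ι F) *ᵥ u) - Q ((g : Matrix ι ι F) *ᵥ v) = _
  rw [iso_fix hH hg, iso_fix hH hg, iso_fix hH hg]
  rfl

/-- A semilinear function on at least two dimensions with invariant kernel vanishes. -/
theorem semilinear_eq_zero (hι : 2 ≤ Fintype.card ι) (hirr : Irr H) {S : (ι → F) → F}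
    (hadd : ∀ u v, S (u + v) = S u + S v) (hsmul : ∀ (c : F) v, S (c • v) = c ^ 2 * S v)
    (hinv : ∀ g ∈ H, ∀ v, S v = 0 → S ((g : Matrix ι ι F) *ᵥ v) = 0) (v : ι → F) : S v = 0 := by
  let K : Submodule F (ι → F) :=
    { carrier := {v | S v = 0}
      zero_mem' := by simpa using hsmul 0 0
      add_mem' := fun {a b} (ha : S a = 0) (hb : S b = 0) => show S (a + b) = 0 by rw [hadd, ha, hb, add_zero]
      smul_mem' := fun c a (ha : S a = 0) => show S (c • a) = 0 by rw [hsmul, ha, mul_zero] }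
  rcases irr_iff.1 hirr K hinv with h0 | h0
  · exfalso
    have hinj : Function.Injective S := fun a b hab => by
      have h1 := hadd (a - b) b
      rw [sub_add_cancel, hab, right_eq_add] at h1
      have hm : a - b ∈ K := h1
      rwa [h0, Submodule.mem_bot, sub_eq_zero] at hm
    have h1 := Fintype.card_le_of_injective _ hinj
    rw [Fintype.card_fun] at h1
    have h3 := Fintype.one_lt_card (α := F)
    exact absurd h1 (not_le.2 (lt_of_lt_of_le (by rw [sq]; nlinarith)
      (Nat.pow_le_pow_right (by omega) hι)))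
  · exact (h0.ge Submodule.mem_top : v ∈ K)

/-- An irreducible group of isometries fixes only one quadratic function with the given polar form. -/
theorem quad_unique (hQ : Geo.IsNondegenerateQuadraticForm Q) (hι : 2 ≤ Fintype.card ι) (hirr : Irr H)
    (hH : H ≤ isometryGroup F Q) {Q' : (ι → F) → F} (hQ' : ∀ (c : F) v, Q' (c • v) = c ^ 2 * Q' v)
    (hpol : ∀ u v, QuadraticMap.polar Q' u v = QuadraticMap.polar Q u v)
    (hfix : ∀ g ∈ H, ∀ v, Q' v - Q v = 0 → Q' ((g : Matrix ι ι F) *ᵥ v) = Q' v) (v : ι → F) : Q' v = Q v :=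
  sub_eq_zero.1 (semilinear_eq_zero hι hirr (S := fun v => Q' v - Q v)
    (fun a b => by
      have h := hpol a b
      simp only [QuadraticMap.polar] at h
      linear_combination h)
    (fun c v => by simp only [hQ', hQ.smul]; ring)
    (fun g hg v hv => by
      show Q' _ - Q _ = 0
      rw [hfix g hg v hv, iso_fix hH hg]; exact hv) v)

/-- A quadratic function against its values on the basis, over a subfield. -/
theorem quad_rat {R : (ι → F) → F} (hR : IsQuadFun R) {F₀ : Subfield F}
    (hp : ∀ i j, QuadraticMap.polar R (Pi.single i 1) (Pi.single j 1) ∈ F₀) {w : ι → F}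
    (hw : ∀ i, w i ∈ F₀) : R w - ∑ i, w i ^ 2 * R (Pi.single i 1) ∈ F₀ := by
  classical
  suffices key : ∀ s : Finset ι,
      R (∑ i ∈ s, w i • (Pi.single i 1 : ι → F)) - ∑ i ∈ s, w i ^ 2 * R (Pi.single i 1) ∈ F₀ by
    have h := key Finset.univ
    rwa [← pi_eq_sum_univ'] at h
  intro s
  induction s using Finset.induction with
  | empty => simp [hR.zero]
  | insert a s ha ih =>
    rw [Finset.sum_insert ha, Finset.sum_insert ha, hR.map_add, hR.smul]
    let φ : (ι → F) →ₗ[F] F :=
      { toFun := fun y => QuadraticMap.polar R (w a • (Pi.single a 1 : ι → F)) y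
        map_add' := fun x y => hR.polar.add_right _ x y
        map_smul' := fun c x => hR.polar.smul_right c _ x }
    have h1 : φ (∑ i ∈ s, w i • (Pi.single i 1 : ι → F)) ∈ F₀ := by
      rw [map_sum]
      refine sum_mem fun i _ => ?_
      rw [map_smul, smul_eq_mul]
      refine mul_mem (hw i) ?_
      show QuadraticMap.polar R _ _ ∈ F₀
      rw [hR.polar.smul_left]
      exact mul_mem (hw a) (hp a i)
    have h2 := add_mem ih h1
    simp only [φ, LinearMap.coe_mk, AddHom.coe_mk] at h2
    convert h2 using 1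
    ring

/-- A normal absolutely irreducible subgroup realised over a proper subfield gives a subfield group on whose
structure a multiple of the quadratic form is rational. -/
theorem quad_to_subfield (hQ : Geo.IsNondegenerateQuadraticForm Q) (hι : 2 ≤ Fintype.card ι) [Nonempty ι]
    (hH : H ≤ isometryGroup F Q) {N : Subgroup (GL ι F)} (hN : AbsIrr N) (hNH : N ≤ H) (hn : NormalIn H N)
    {F₁ : Subfield F} (hF₁ : F₁ ≠ ⊤) (hreal : Geo.RealisableOver F₁ (Geo.matrixSet N)) :
    ∃ (F₀ : Subfield F) (r : ℕ) (P : GL ι F) (ζ : F), r.Prime ∧ Fintype.card F = Nat.card F₀ ^ r ∧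
      ζ ≠ 0 ∧ Geo.IsQuadFormRationalStructure (fun v => ζ * Q v) F₀ P ∧ H ≤ Geo.subfieldSubgroup F₀ P := by
  classical
  obtain ⟨C, hC⟩ := hreal
  obtain ⟨F₀, r, hle, hr, hcard⟩ := exists_prime_index hF₁
  obtain ⟨P, ζ, hζ, hP, hA, -, hN₁, hN₁fix⟩ := (refForm hQ).exists_rational hN ((hNH.trans (iso_polar hH))) hn
    (F₀ := F₀) ⟨C, fun s hs i j => hle (hC s hs i j)⟩
  refine ⟨F₀, r, P, ζ, hr, hcard, hζ, fun u hu => ?_, hP⟩
  haveI : Fintype F₀ := Fintype.ofFinite _
  let φ : F →ₐ[F₀] F := FiniteField.frobeniusAlgHom F₀ F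
  have hφ : ∀ {y : F}, y ∈ F₀ → φ y = y := fun {y} hy => φ.commutes ⟨y, hy⟩
  have hφfix : ∀ {y : F}, φ y = y → y ∈ F₀ := fun {y} hy => mem_subfield_of_pow_eq (by
    simpa [φ, Nat.card_eq_fintype_card] using hy)
  let R : (ι → F) → F := fun u => ζ * Q ((P : Matrix ι ι F) *ᵥ u)
  have hpolR : ∀ u v, QuadraticMap.polar R u v =
      ζ * QuadraticMap.polar Q ((P : Matrix ι ι F) *ᵥ u) ((P : Matrix ι ι F) *ᵥ v) := fun u v => by
    simp only [R, QuadraticMap.polar, Matrix.mulVec_add]; ring
  have hb := hQ.polar_bilinear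
  have hR : IsQuadFun R := by
    refine ⟨fun c v => by simp only [R, Matrix.mulVec_smul, hQ.smul]; ring, ⟨?_, ?_, ?_, ?_⟩⟩
    · intro x y v; simp only [hpolR, Matrix.mulVec_add, hb.add_left]; ring
    · intro c x v; simp only [hpolR, Matrix.mulVec_smul, hb.smul_left]; ring
    · intro v x y; simp only [hpolR, Matrix.mulVec_add, hb.add_right]; ring
    · intro c v x; simp only [hpolR, Matrix.mulVec_smul, hb.smul_right]; ring
  have hp : ∀ i j, QuadraticMap.polar R (Pi.single i 1) (Pi.single j 1) ∈ F₀ := fun i j => by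
    rw [hpolR]; exact hA i j
  set c : ι → F := fun i => R (Pi.single i 1) with hc
  let t : ι → F := fun i => φ (c i) - c i
  let S : (ι → F) → F := fun u => ∑ i, u i ^ 2 * t i
  have hfixR : ∀ x ∈ N.map (MulAut.conj P⁻¹).toMonoidHom, ∀ v, R ((x : Matrix ι ι F) *ᵥ v) = R v := by
    rintro _ ⟨x, hx, rfl⟩ v
    simp only [R, MulEquiv.coe_toMonoidHom, MulAut.conj_apply, inv_inv, Units.val_mul, ← Matrix.mulVec_mulVec,
      mulVec_inv, iso_fix hH (hNH hx)]
  have hSinv : ∀ x ∈ N.map (MulAut.conj P⁻¹).toMonoidHom, ∀ v, S ((x : Matrix ι ι F) *ᵥ v) = S v := by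
    intro x hx v
    have hcol : ∀ j, ∑ i, (x : Matrix ι ι F) i j ^ 2 * t i = t j := by
      intro j
      have h1 := quad_rat hR hp (w := fun i => (x : Matrix ι ι F) i j) fun i => (hN₁fix x hx).1 i j
      have h2 : R (fun i => (x : Matrix ι ι F) i j) = c j := by
        rw [show (fun i => (x : Matrix ι ι F) i j) = (x : Matrix ι ι F) *ᵥ Pi.single j 1 by
          rw [Matrix.mulVec_single_one]; rfl, hfixR x hx]
      rw [h2] at h1
      have h3 := hφ h1
      rw [map_sub, map_sum] at h3
      have h4 : ∀ i, φ ((x : Matrix ι ι F) i j ^ 2 * R (Pi.single i 1)) =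
          (x : Matrix ι ι F) i j ^ 2 * φ (c i) := fun i => by
        rw [map_mul, map_pow, hφ ((hN₁fix x hx).1 i j)]
      simp only [h4] at h3
      simp only [t, hc, mul_sub, Finset.sum_sub_distrib] at h3 ⊢
      linear_combination -h3
    simp only [S]
    calc ∑ i, ((x : Matrix ι ι F) *ᵥ v) i ^ 2 * t i
        = ∑ i, (∑ j, (x : Matrix ι ι F) i j ^ 2 * v j ^ 2) * t i := by
          refine Finset.sum_congr rfl fun i _ => ?_
          by_cases h2 : (2 : F) = 0
          · haveI : CharP F 2 := CharTwo.of_one_ne_zero_of_two_eq_zero one_ne_zero h2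
            congr 1
            show (∑ j, (x : Matrix ι ι F) i j * v j) ^ 2 = _
            rw [CharTwo.sum_sq]
            exact Finset.sum_congr rfl fun j _ => mul_pow _ _ _
          · have ht : ∀ i, t i = 0 := fun i => by
              refine sub_eq_zero.2 (hφ ?_)
              have h1 := hp i i
              rw [hpolR, show QuadraticMap.polar Q ((P : Matrix ι ι F) *ᵥ Pi.single i 1)
                ((P : Matrix ι ι F) *ᵥ Pi.single i 1) = 2 * Q ((P : Matrix ι ι F) *ᵥ Pi.single i 1) from
                polar_self hQ _] at h1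
              have h3 := mul_mem h1 (inv_mem (ofNat_mem F₀ 2))
              show ζ * Q _ ∈ F₀
              convert h3 using 1
              field_simp
            rw [ht i, mul_zero, mul_zero]
      _ = ∑ j, v j ^ 2 * ∑ i, (x : Matrix ι ι F) i j ^ 2 * t i := by
          simp only [Finset.sum_mul, Finset.mul_sum]
          rw [Finset.sum_comm]
          exact Finset.sum_congr rfl fun j _ => Finset.sum_congr rfl fun i _ => by ring
      _ = _ := Finset.sum_congr rfl fun j _ => by rw [hcol]
  have hS0 : ∀ v, S v = 0 := semilinear_eq_zero hι hN₁.1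
    (fun a b => by
      simp only [S, ← Finset.sum_add_distrib]
      refine Finset.sum_congr rfl fun i _ => ?_
      by_cases h2 : (2 : F) = 0
      · simp only [Pi.add_apply]; linear_combination a i * b i * t i * h2
      · have ht : t i = 0 := by
          refine sub_eq_zero.2 (hφ ?_)
          have h1 := hp i i
          rw [hpolR, show QuadraticMap.polar Q ((P : Matrix ι ι F) *ᵥ Pi.single i 1)
            ((P : Matrix ι ι F) *ᵥ Pi.single i 1) = 2 * Q ((P : Matrix ι ι F) *ᵥ Pi.single i 1) from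
            polar_self hQ _] at h1
          have h3 := mul_mem h1 (inv_mem (ofNat_mem F₀ 2))
          show ζ * Q _ ∈ F₀
          convert h3 using 1
          field_simp
        simp [ht])
    (fun a b => by
      simp only [S, Finset.mul_sum, Pi.smul_apply, smul_eq_mul]
      exact Finset.sum_congr rfl fun i _ => by ring)
    fun x hx v hv => by rw [hSinv x hx, hv]
  have hci : ∀ i, c i ∈ F₀ := fun i => hφfix (by
    have h1 := hS0 (Pi.single i 1)
    simp only [S, Pi.single_apply, ite_pow, one_pow, zero_pow two_ne_zero, ite_mul, one_mul, zero_mul,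
      Finset.sum_ite_eq', Finset.mem_univ, if_true] at h1
    exact sub_eq_zero.1 h1)
  have h1 := quad_rat hR hp hu
  have h2 : ∑ i, u i ^ 2 * R (Pi.single i 1) ∈ F₀ := sum_mem fun i _ => mul_mem (pow_mem (hu i) 2) (hci i)
  simpa [R] using add_mem h1 h2

/-! ### Quadratic fields -/

theorem adj_eq_pow_of_not_selfAdjoint [Nonempty ι] {ε : F} {f : (ι → F) → (ι → F) → F}
    (h : RefForm (RingEquiv.refl F) ε f) {K : Subalgebra F (Matrix ι ι F)} (hK : Geo.IsFieldSubalgebra 2 K)
    (hcl : Geo.IsAdjointClosedFor f K) (hns : ¬ Geo.IsSelfAdjointFor f K) :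
    ∀ z ∈ K, h.adj z = z ^ Fintype.card F := by
  have hmem : ∀ z ∈ K, h.adj z ∈ K := by
    intro z hz
    obtain ⟨z', hz', hzz⟩ := hcl z hz
    suffices he : h.adj z = z' from he ▸ hz'
    exact Matrix.ext_of_mulVec_single fun i => h.ext_right fun u => by rw [← h.adj_right, hzz]
  have hθ : FieldInvolution (RingEquiv.refl F) K h.adj :=
    ⟨hmem, fun a _ b _ => h.adj_add a b, fun a ha b hb => by rw [hK.comm a ha b hb, h.adj_mul],
      fun c => by rw [h.adj_smul, h.adj_one], fun z _ => h.adj_adj z⟩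
  rcases hθ.cases hK with ⟨-, hid⟩ | ⟨-, -, hfr⟩ | ⟨hσ, -, -⟩
  · exact absurd (fun z hz u v => by rw [h.adj_right, hid z hz]) hns
  · intro z hz; simpa using hfr z hz
  · exact absurd rfl hσ

theorem not_selfAdjoint_of_pow [Nonempty ι] {ε : F} {f : (ι → F) → (ι → F) → F}
    (h : RefForm (RingEquiv.refl F) ε f) {K : Subalgebra F (Matrix ι ι F)} (hK : Geo.IsFieldSubalgebra 2 K)
    (hadj : ∀ z ∈ K, h.adj z = z ^ Fintype.card F) :
    (∃ z ∈ K, z ^ Fintype.card F ≠ z) ∧ ¬ Geo.IsSelfAdjointFor f K := by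
  have hnotall : ¬ ∀ z ∈ K, z ^ Fintype.card F = z := by
    intro hall
    have hle' : Subalgebra.toSubmodule K ≤ Submodule.span F {(1 : Matrix ι ι F)} := fun z hz => by
      obtain ⟨c, rfl⟩ := fixed_mem_scalar hK hz (hall z hz)
      exact Submodule.mem_span_singleton.2 ⟨c, rfl⟩
    have h1 : Module.finrank F (Subalgebra.toSubmodule K) ≤ 1 := (Submodule.finrank_mono hle').trans
      ((finrank_span_le_card ({(1 : Matrix ι ι F)} : Set (Matrix ι ι F))).trans (by simp))
    have h2 : Module.finrank F K = 2 := hK.finrank_eq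
    rw [Subalgebra.finrank_toSubmodule] at h1
    omega
  refine ⟨by push Not at hnotall; exact hnotall, fun hsa => hnotall fun z hz => ?_⟩
  rw [← hadj z hz]
  exact h.adj_eq fun u v => hsa z hz u v

/-- A quadratic field with the Frobenius as adjoint acts by similitudes of `Q`. -/
theorem quad_similar_of_pow (hQ : Geo.IsNondegenerateQuadraticForm Q) [Nonempty ι] (hι : 2 ≤ Fintype.card ι)
    (hirr : Irr H) (hH : H ≤ isometryGroup F Q) {K : Subalgebra F (Matrix ι ι F)}
    (hK : Geo.IsFieldSubalgebra 2 K) (hle : H ≤ Geo.subalgebraNormalizer K)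
    (hadj : ∀ z ∈ K, (refForm hQ).adj z = z ^ Fintype.card F) :
    ∀ k ∈ K, ∃ c : F, ∀ v, Q (k *ᵥ v) = c * Q v := by
  classical
  have h := refForm hQ
  have hHf := iso_polar hH
  have hb := hQ.polar_bilinear
  intro k hk
  obtain ⟨c, hc⟩ := fixed_mem_scalar hK (x := k ^ Fintype.card F * k) (K.mul_mem (pow_mem hk _) hk) (by
    rw [← pow_succ, ← pow_mul, Nat.succ_mul, ← pow_two (Fintype.card F), pow_add,
      show k ^ Fintype.card F ^ 2 = k from pow_card_field hK hk, ← pow_succ'])
  have hck : ∀ u v, QuadraticMap.polar Q (k *ᵥ u) (k *ᵥ v) = c * QuadraticMap.polar Q u v := fun u v => by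
    rw [(refForm hQ).adj_right, Matrix.mulVec_mulVec, hadj k hk, hc, Matrix.smul_mulVec, Matrix.one_mulVec,
      hb.smul_right]
  refine ⟨c, fun v => ?_⟩
  by_cases h2 : (2 : F) = 0
  swap
  · refine mul_left_cancel₀ h2 ?_
    rw [← polar_self hQ, hck, polar_self hQ]; ring
  have hchar : ∀ x : Matrix ι ι F, x + x = 0 := fun x => by rw [← two_smul F, h2, zero_smul]
  have halt : ∀ v, QuadraticMap.polar Q v v = 0 := fun v => by rw [polar_self hQ, h2, zero_mul]
  obtain ⟨⟨z, hz, hzq⟩, -⟩ := not_selfAdjoint_of_pow (refForm hQ) hK hadj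
  have hzqq : (z ^ Fintype.card F) ^ Fintype.card F = z := by
    rw [← pow_mul, ← pow_two]; exact pow_card_field hK hz
  have hzK : z + z ^ Fintype.card F ∈ K := K.add_mem hz (pow_mem hz _)
  obtain ⟨a, ha⟩ := fixed_mem_scalar hK hzK (by
    rw [← hadj _ hzK, h.adj_add, hadj z hz, hadj _ (pow_mem hz _), hzqq, add_comm])
  have ha0 : a ≠ 0 := by
    rintro rfl
    rw [zero_smul, ← hchar z] at ha
    exact hzq (add_left_cancel ha)
  set z' := a⁻¹ • z
  have hz' : z' ∈ K := K.smul_mem hz _
  have htr : z' + h.adj z' = 1 := by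
    rw [h.adj_smul, hadj z hz, show RingEquiv.refl F a⁻¹ = a⁻¹ from rfl, ← smul_add, ha, smul_smul,
      inv_mul_cancel₀ ha0, one_smul]
  let Q' : (ι → F) → F := fun v => QuadraticMap.polar Q (z' *ᵥ v) v
  have hpol : ∀ u v, QuadraticMap.polar Q' u v = QuadraticMap.polar Q u v := by
    intro u v
    show Q' (u + v) - Q' u - Q' v = _
    simp only [Q', Matrix.mulVec_add, hb.add_left, hb.add_right]
    rw [show QuadraticMap.polar Q (z' *ᵥ v) u = QuadraticMap.polar Q (h.adj z' *ᵥ u) v by
      rw [h.adj_left]; exact QuadraticMap.polar_comm Q _ _]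
    conv_rhs => rw [show u = (z' + h.adj z') *ᵥ u by rw [htr, Matrix.one_mulVec], Matrix.add_mulVec,
      hb.add_left]
    ring
  have hfix : ∀ g ∈ H, ∀ v, Q' ((g : Matrix ι ι F) *ᵥ v) = Q' v := by
    intro g hg v
    set z'' := ((g⁻¹ : GL ι F) : Matrix ι ι F) * z' * (g : Matrix ι ι F) with hz''
    have hz''K : z'' ∈ K := by
      have h1 := (hle (inv_mem hg) z').1 hz'
      simpa [z''] using h1
    have htr'' : z'' + h.adj z'' = 1 := by
      rw [hz'', h.adj_mul, h.adj_mul, h.adj_isometry (hHf hg), h.adj_isometry (inv_mem (hHf hg)), inv_inv,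
        ← mul_assoc _ (h.adj z'), ← add_mul, ← mul_add, htr, mul_one, Units.inv_mul]
    have hδ : z'' + z' ∈ K := K.add_mem hz''K hz'
    obtain ⟨b, hb'⟩ := fixed_mem_scalar hK hδ (by
      rw [← hadj _ hδ, h.adj_add, ← sub_eq_zero]
      calc h.adj z'' + h.adj z' - (z'' + z') = h.adj z'' + h.adj z' - (z'' + z') + ((z'' + z') + (z'' + z')) := by
            rw [hchar, add_zero]
        _ = (z'' + h.adj z'') + (z' + h.adj z') := by abel
        _ = 0 := by rw [htr, htr'', hchar])
    show QuadraticMap.polar Q (z' *ᵥ ((g : Matrix ι ι F) *ᵥ v)) ((g : Matrix ι ι F) *ᵥ v) = _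
    have h1 : z' *ᵥ ((g : Matrix ι ι F) *ᵥ v) = (g : Matrix ι ι F) *ᵥ (z'' *ᵥ v) := by
      rw [hz'', ← Matrix.mulVec_mulVec, ← Matrix.mulVec_mulVec, mulVec_inv]
    rw [h1, RefForm.mem_isometry.1 (hHf hg)]
    have h3 : QuadraticMap.polar Q ((z'' + z') *ᵥ v) v = 0 := by
      rw [hb', Matrix.smul_mulVec, Matrix.one_mulVec, hb.smul_left, halt, mul_zero]
    rw [Matrix.add_mulVec, hb.add_left] at h3
    show _ = QuadraticMap.polar Q (z' *ᵥ v) v
    linear_combination h3 - QuadraticMap.polar Q (z' *ᵥ v) v * h2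
  have hQ' := quad_unique hQ hι hirr hH (Q' := Q') (fun t v => by
      simp only [Q', Matrix.mulVec_smul, hb.smul_left, hb.smul_right]; ring) hpol fun g hg v _ => hfix g hg v
  rw [← hQ', ← hQ']
  show QuadraticMap.polar Q (z' *ᵥ (k *ᵥ v)) (k *ᵥ v) = _
  rw [Matrix.mulVec_mulVec, hK.comm _ hz' _ hk, ← Matrix.mulVec_mulVec, hck]

/-! ### Characteristic two -/

/-- The singular vectors of a totally isotropic subspace. -/
def sqKer (hQ : Geo.IsNondegenerateQuadraticForm Q) (W : Submodule F (ι → F))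
    (hW : Geo.IsTotallySingularFor (QuadraticMap.polar Q) W) : Submodule F (ι → F) where
  carrier := {w | w ∈ W ∧ Q w = 0}
  zero_mem' := ⟨W.zero_mem, (quadFun hQ).zero⟩
  add_mem' := fun {a b} ha hb => ⟨W.add_mem ha.1 hb.1, by
    rw [(quadFun hQ).map_add, ha.2, hb.2, hW a ha.1 b hb.1]; ring⟩
  smul_mem' := fun c a ha => ⟨W.smul_mem c ha.1, by rw [hQ.smul, ha.2, mul_zero]⟩

theorem finrank_le_one_of_sqKer_bot (hQ : Geo.IsNondegenerateQuadraticForm Q) {W : Submodule F (ι → F)}
    (hW : Geo.IsTotallySingularFor (QuadraticMap.polar Q) W) (h0 : sqKer hQ W hW = ⊥) :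
    Module.finrank F W ≤ 1 := by
  classical
  have hinj : Function.Injective fun w : W => Q w := fun a b (hab : Q a = Q b) => by
    by_contra hne
    have hm : (a : ι → F) + (-1 : F) • (b : ι → F) ∈ sqKer hQ W hW :=
      ⟨W.add_mem a.2 (W.smul_mem _ b.2), by
        rw [(quadFun hQ).map_add, hQ.smul, hab, hW _ a.2 _ (W.smul_mem _ b.2)]
        have h2 : (2 : F) * Q b = 0 := by rw [← polar_self hQ]; exact hW _ b.2 _ b.2
        linear_combination h2⟩
    rw [h0, Submodule.mem_bot, neg_one_smul, ← sub_eq_add_neg, sub_eq_zero] at hm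
    exact hne (Subtype.ext hm)
  have h1 := Fintype.card_le_of_injective _ hinj
  rw [Module.card_eq_pow_finrank (K := F) (V := W)] at h1
  by_contra hlt
  have h3 := Fintype.one_lt_card (α := F)
  exact absurd h1 (not_le.2 (lt_of_lt_of_le (by rw [sq]; nlinarith)
    (Nat.pow_le_pow_right (by omega) (show 2 ≤ Module.finrank F W by omega))))

/-- An invariant pair of totally isotropic halves is totally singular. -/
theorem pair_singular (hQ : Geo.IsNondegenerateQuadraticForm Q) (hι : 4 ≤ Fintype.card ι) (hirr : Irr H)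
    (hH : H ≤ isometryGroup F Q) {k : ℕ} {D : Fin 2 → Submodule F (ι → F)}
    (hk : 2 * k = Fintype.card ι) (hD : Geo.IsMDecomposition k D)
    (hts : ∀ i, Geo.IsTotallySingularFor (QuadraticMap.polar Q) (D i))
    (hle : H ≤ Geo.decompositionStabilizer D) (i : Fin 2) : Geo.IsTotallySingularQuad Q (D i) := by
  let W : Fin 2 → Submodule F (ι → F) := fun i => sqKer hQ (D i) (hts i)
  have hWD : ∀ i, W i ≤ D i := fun i w hw => hw.1
  have hU : Invariant H (W 0 ⊔ W 1) := by
    intro g hg v hv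
    obtain ⟨π, hπ⟩ := hle hg
    have hmove : ∀ i, ∀ w ∈ W i, (g : Matrix ι ι F) *ᵥ w ∈ W (π i) := fun i w hw =>
      ⟨hπ i ▸ mem_translate.2 ⟨w, hw.1, rfl⟩, by rw [iso_fix hH hg]; exact hw.2⟩
    have hall : ∀ j, W j ≤ W 0 ⊔ W 1 := fun j => by
      fin_cases j
      exacts [le_sup_left, le_sup_right]
    obtain ⟨a, ha, b, hb, rfl⟩ := Submodule.mem_sup.1 hv
    rw [Matrix.mulVec_add]
    exact add_mem (hall _ (hmove 0 a ha)) (hall _ (hmove 1 b hb))
  rcases irr_iff.1 hirr _ hU with h0 | h0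
  · exfalso
    have h1 := finrank_le_one_of_sqKer_bot hQ (hts 0) (le_bot_iff.1 (h0 ▸ le_sup_left))
    rw [hD.finrank_eq 0] at h1
    omega
  intro w hw
  have hle' : Module.finrank F (D i) ≤ Module.finrank F (W i) := by
    have h2 := Submodule.finrank_sup_add_finrank_inf_eq (W 0) (W 1)
    rw [h0, finrank_top, Module.finrank_fintype_fun_eq_card] at h2
    have h3 := Submodule.finrank_mono (hWD 0)
    have h4 := Submodule.finrank_mono (hWD 1)
    rw [hD.finrank_eq] at h3 h4 ⊢
    fin_cases i <;> simp only [Fin.isValue, Fin.zero_eta, Fin.mk_one] <;> omega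
  exact ((Submodule.eq_of_le_of_finrank_le (hWD i) hle').ge hw).2

/-! ### Tensors -/

/-- Pure tensors. -/
def pureVec {d k : ℕ} (x : Fin d → F) (y : Fin k → F) : Fin d × Fin k → F := fun z => x z.1 * y z.2

theorem matForm_kron_pure {d k : ℕ} (G₁ : Matrix (Fin d) (Fin d) F) (G₂ : Matrix (Fin k) (Fin k) F)
    (x x' : Fin d → F) (y y' : Fin k → F) :
    matForm id (G₁ ⊗ₖ G₂) (pureVec x y) (pureVec x' y') = matForm id G₁ x x' * matForm id G₂ y y' := by
  have h : (G₁ ⊗ₖ G₂) *ᵥ pureVec x' y' = pureVec (G₁ *ᵥ x') (G₂ *ᵥ y') := by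
    funext z
    simp only [Matrix.mulVec, dotProduct, pureVec, Fintype.sum_prod_type, Matrix.kroneckerMap_apply]
    rw [Finset.sum_mul_sum]
    exact Finset.sum_congr rfl fun p _ => Finset.sum_congr rfl fun q _ => by ring
  simp only [matForm, Function.id_comp, h]
  simp only [dotProduct, pureVec, Fintype.sum_prod_type]
  rw [Finset.sum_mul_sum]
  exact Finset.sum_congr rfl fun p _ => Finset.sum_congr rfl fun q _ => by ring

/-- A quadratic function vanishing on the basis vanishes on pureVec tensors when both factors are alternating. -/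
theorem pure_vanish {d k : ℕ} {G₁ : Matrix (Fin d) (Fin d) F} {G₂ : Matrix (Fin k) (Fin k) F}
    (h₁ : ∀ x, matForm id G₁ x x = 0) (h₂ : ∀ b, G₂ b b = 0) {R : (Fin d × Fin k → F) → F}
    (hR : IsQuadFun R) (hp : ∀ u v, QuadraticMap.polar R u v = matForm id (G₁ ⊗ₖ G₂) u v)
    (h0 : ∀ z, R (Pi.single z 1) = 0) (x : Fin d → F) (y : Fin k → F) : R (pureVec x y) = 0 := by
  have hinner : ∀ b, R (pureVec x (Pi.single b 1)) = 0 := by
    intro b
    rw [show pureVec x (Pi.single b 1) = ∑ a, x a • (Pi.single (a, b) 1 : Fin d × Fin k → F) from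
      funext fun z => by
        obtain ⟨z₁, z₂⟩ := z
        by_cases hz : z₂ = b <;> simp [pureVec, Finset.sum_apply, Pi.single_apply, hz]]
    refine hR.sum_eq_zero _ _ _ (fun a _ => h0 _) fun a _ a' _ => ?_
    rw [hp, show matForm id (G₁ ⊗ₖ G₂) = matForm (RingEquiv.refl F).toRingHom (G₁ ⊗ₖ G₂) from rfl,
      matForm_single_one]
    simp [h₂]
  rw [show pureVec x y = ∑ b, y b • pureVec x (Pi.single b 1) from funext fun z => by
    simp [pureVec, Finset.sum_apply, Pi.single_apply, mul_comm]]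
  refine hR.sum_eq_zero _ _ _ (fun b _ => hinner b) fun b _ b' _ => ?_
  rw [hp, matForm_kron_pure, h₁, zero_mul]

end Cfsg.Agent.Aschbacher.OrthEven
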