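import Cfsg.Agent.Lib.Aschbacher.OrthEven.Lists

/-!
The maximal subgroups of the twelve-dimensional orthogonal groups.
-/

set_option autoImplicit false
set_option linter.unusedSectionVars false

namespace Cfsg.Agent.Aschbacher.OrthEven

open Matrix
open scoped MatrixGroups
open Cfsg.Agent.MaxCl
open Module (finrank)

theorem omega12minus_cases {F : Type*} [Field F] [Fintype F] (Q : (Fin 12 → F) → F) (hQ : Cfsg.Geo.IsNondegenerateQuadraticForm Q) (hminus : ¬ Cfsg.Geo.IsPlusTypeOn Q ⊤) (H : Subgroup (Matrix.GeneralLinearGroup (Fin 12) F)) (hH : Cfsg.Geo.IsMaximalIn (Cfsg.Geo.omegaGL Q) H) :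
    (∃ W : Submodule F (Fin 12 → F), W ≠ ⊥ ∧ Cfsg.Geo.IsTotallySingularQuad Q W ∧ H = Cfsg.Geo.subspaceStabilizer W ⊓ Cfsg.Geo.omegaGL Q) ∨
    (Odd (Fintype.card F) ∧ ∃ W : Submodule F (Fin 12 → F), W ≠ ⊥ ∧ W ≠ ⊤ ∧ Odd (Module.finrank F W) ∧ 2 * Module.finrank F W ≠ 12 ∧ Cfsg.Geo.IsNondegenerateOn (QuadraticMap.polar Q) W ∧ H = Cfsg.Geo.subspaceStabilizer W ⊓ Cfsg.Geo.omegaGL Q) ∨
    (∃ W : Submodule F (Fin 12 → F), Module.finrank F W = 2 ∧ Cfsg.Geo.IsNondegenerateOn (QuadraticMap.polar Q) W ∧ ¬ Cfsg.Geo.IsPlusTypeOn Q W ∧ H = Cfsg.Geo.subspaceStabilizer W ⊓ Cfsg.Geo.omegaGL Q) ∨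
    (4 ≤ Fintype.card F ∧ ∃ W : Submodule F (Fin 12 → F), Module.finrank F W = 2 ∧ Cfsg.Geo.IsNondegenerateOn (QuadraticMap.polar Q) W ∧ Cfsg.Geo.IsPlusTypeOn Q W ∧ H = Cfsg.Geo.subspaceStabilizer W ⊓ Cfsg.Geo.omegaGL Q) ∨
    (∃ W : Submodule F (Fin 12 → F), Module.finrank F W = 4 ∧ Cfsg.Geo.IsNondegenerateOn (QuadraticMap.polar Q) W ∧ H = Cfsg.Geo.subspaceStabilizer W ⊓ Cfsg.Geo.omegaGL Q) ∨
    (∃ W : Submodule F (Fin 12 → F), Module.finrank F W = 6 ∧ Cfsg.Geo.IsNondegenerateOn (QuadraticMap.polar Q) W ∧ H = Cfsg.Geo.subspaceStabilizer W ⊓ Cfsg.Geo.omegaGL Q) ∨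
    (¬ Odd (Fintype.card F) ∧ ∃ v : (Fin 12 → F), Q v ≠ 0 ∧ H = Cfsg.Geo.subspaceStabilizer (Submodule.span F {v}) ⊓ Cfsg.Geo.omegaGL Q) ∨
    (∃ D : Fin 3 → Submodule F (Fin 12 → F), Cfsg.Geo.IsOrthogonalMDecomposition Q 4 D ∧ (∀ i, ¬ Cfsg.Geo.IsPlusTypeOn Q (D i)) ∧ H = Cfsg.Geo.decompositionStabilizer D ⊓ Cfsg.Geo.omegaGL Q) ∨
    (∃ K : Subalgebra F (Matrix (Fin 12) (Fin 12) F), Cfsg.Geo.IsFieldSubalgebra 2 K ∧ H = Cfsg.Geo.subalgebraNormalizer K ⊓ Cfsg.Geo.omegaGL Q) ∨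
    (∃ K : Subalgebra F (Matrix (Fin 12) (Fin 12) F), Cfsg.Geo.IsFieldSubalgebra 3 K ∧ H = Cfsg.Geo.subalgebraNormalizer K ⊓ Cfsg.Geo.omegaGL Q) ∨
    (Odd (Fintype.card F) ∧ 5 ≤ Fintype.card F ∧ ∃ (e : Fin 12 ≃ Fin 3 × Fin 4) (P : Matrix.GeneralLinearGroup (Fin 12) F) (f₁ : (Fin 3 → F) → (Fin 3 → F) → F) (f₂ : (Fin 4 → F) → (Fin 4 → F) → F), Cfsg.Geo.IsSymmetricForm f₁ ∧ Cfsg.Geo.IsSymmetricForm f₂ ∧ ¬ Cfsg.Geo.IsPlusTypeOn (fun v : Fin 4 → F => f₂ v v) ⊤ ∧ Cfsg.Geo.IsTensorFormStructure id (QuadraticMap.polar Q) f₁ f₂ e P ∧ H = Cfsg.Geo.tensorProductSubgroup 3 4 e P ⊓ Cfsg.Geo.omegaGL Q) ∨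
    (∃ (F₀ : Subfield F) (r : ℕ) (P : Matrix.GeneralLinearGroup (Fin 12) F) (ζ : F), r.Prime ∧ Odd r ∧ Fintype.card F = Nat.card F₀ ^ r ∧ ζ ≠ 0 ∧ Cfsg.Geo.IsQuadFormRationalStructure (fun v : Fin 12 → F => ζ * Q v) F₀ P ∧ H = Cfsg.Geo.subfieldSubgroup F₀ P ⊓ Cfsg.Geo.omegaGL Q) ∨
    Cfsg.Geo.InOrthogonalResidualClass H := by
  classical
  have hι : Fintype.card (Fin 12) = 12 := Fintype.card_fin 12
  have h5 : 5 ≤ Fintype.card (Fin 12) := by omega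
  have h9 : 9 ≤ Fintype.card (Fin 12) := by omega
  have hn2 : Fintype.card (Fin 12) = 2 * 6 := by omega
  have hG := hQ
  obtain ⟨q, rfl, hq⟩ := Orth.exists_form hQ
  have hHI : H ≤ isometryGroup F (⇑q) := hH.1.le.trans Orth.omega_le_iso
  cases even_outcome_of_not_power hG (by omega) ⟨6, by omega⟩ hHI
      (fun d t hd ht => hι ▸ twelve_not_power d t hd ht) with
  | totallySingular W h0 hts hle =>
    exact Or.inl ⟨W, h0, hts, subspace_max hq h5 hH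
      (Nat.pos_of_ne_zero fun h => h0 (Submodule.finrank_eq_zero.1 h)) (singular_ne_top hq h5 hts) hle⟩
  | nonsingularPoint v hchar hv hle =>
    have hv0 : v ≠ 0 := fun h => hv (by rw [h, QuadraticMap.map_zero])
    exact Or.inr <| Or.inr <| Or.inr <| Or.inr <| Or.inr <| Or.inr <| Or.inl ⟨hchar, v, hv, subspace_max hq h5 hH
      (by rw [finrank_span_singleton hv0]; exact one_pos) (by rw [finrank_span_singleton hv0]; omega) hle⟩
  | nondegenerate W h0 hnd hdim hle =>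
    rw [hι] at hdim
    have hpos : 0 < finrank F W := Nat.pos_of_ne_zero fun h => h0 (Submodule.finrank_eq_zero.1 h)
    have heq := subspace_max hq h5 hH hpos (by omega) hle
    rcases Nat.even_or_odd (finrank F W) with hev | hodd
    · obtain ⟨a, ha⟩ := hev
      have h24 : finrank F W = 2 ∨ finrank F W = 4 := by omega
      rcases h24 with h2 | h4
      · by_cases hp : Geo.IsPlusTypeOn (⇑q) W
        · exact Or.inr <| Or.inr <| Or.inr <| Or.inl ⟨four_le_of_plus_plane hq h5 hH hnd h2 hp heq, W, h2, hnd, hp, heq⟩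
        · exact Or.inr <| Or.inr <| Or.inl ⟨W, h2, hnd, hp, heq⟩
      · exact Or.inr <| Or.inr <| Or.inr <| Or.inr <| Or.inl ⟨W, h4, hnd, heq⟩
    · refine Or.inr <| Or.inl ⟨odd_card_of_odd_finrank hq hnd hodd, W, h0, ?_, hodd, by omega, hnd, heq⟩
      rintro rfl
      rw [finrank_top, Module.finrank_pi] at hdim
      omega
  | halves D k hk hD hle =>
    have h6 : finrank F (D 0) = 6 := by rw [hD.decomp.finrank_eq]; omega
    exact Or.inr <| Or.inr <| Or.inr <| Or.inr <| Or.inr <| Or.inl ⟨D 0, h6, hD.nondegenerate 0, subspace_max hq h5 hH (by omega) (by omega) (hle 0)⟩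
  | decomposition t m D hD hline hle =>
    have hcard := card_eq_of_isMDecomposition hD.decomp.decomp
    have ht := hD.decomp.decomp.two_le
    have hm := hD.decomp.decomp.pos
    rw [hι] at hcard
    have ht12 : t ≤ 12 := Nat.le_of_dvd (by norm_num) ⟨m, hcard⟩
    have hcases : (t = 12 ∧ m = 1) ∨ (t = 6 ∧ m = 2) ∨ (t = 4 ∧ m = 3) ∨ (t = 3 ∧ m = 4) ∨ (t = 2 ∧ m = 6) := by
      interval_cases t <;> omega
    rcases hcases with ⟨rfl, rfl⟩ | ⟨rfl, rfl⟩ | ⟨rfl, rfl⟩ | ⟨rfl, rfl⟩ | ⟨rfl, rfl⟩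
    · exact (hminus (plus_of_orth_decomposition hG hD (by decide) (Or.inl (by norm_num)))).elim
    · exact (hminus (plus_of_orth_decomposition hG hD (by decide) (Or.inr even_two))).elim
    · exact (hminus (plus_of_orth_decomposition hG hD (by decide) (Or.inl dvd_rfl))).elim
    · exact Or.inr <| Or.inr <| Or.inr <| Or.inr <| Or.inr <| Or.inr <| Or.inr <| Or.inl ⟨D, hD, fun i hi => hminus (plus_of_three_plus hq hD (by decide) hi),
        decomposition_max hq h5 hH hD.decomp.decomp (by norm_num) (by norm_num) hle⟩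
    · exact (hminus (plus_of_orth_decomposition hG hD even_two (Or.inr (by decide)))).elim
  | pair k D hk hD hts hle =>
    exfalso
    refine hminus ⟨D 0, le_top, hts 0, ?_⟩
    rw [finrank_top, Module.finrank_pi, hD.finrank_eq, hk]
  | field r K hr hne hK hsa hle =>
    have hdvd := dvd_card_of_isFieldSubalgebra hK
    rw [hι] at hdvd
    rcases prime_eq_of_dvd_twelve hr hdvd with rfl | rfl
    · exact Or.inr <| Or.inr <| Or.inr <| Or.inr <| Or.inr <| Or.inr <| Or.inr <| Or.inr <| Or.inl ⟨K, hK, field_max hq h5 hH le_rfl hK hle⟩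
    · exact Or.inr <| Or.inr <| Or.inr <| Or.inr <| Or.inr <| Or.inr <| Or.inr <| Or.inr <| Or.inr <| Or.inl ⟨K, hK, field_max hq h5 hH (by norm_num) hK hle⟩
  | unitaryField K hK hcl hns hsim hle =>
    exact Or.inr <| Or.inr <| Or.inr <| Or.inr <| Or.inr <| Or.inr <| Or.inr <| Or.inr <| Or.inl ⟨K, hK, field_max hq h5 hH le_rfl hK hle⟩
  | tensorSymm n₁ n₂ e P f₁ f₂ hodd h3 h12 hf₁ hf₂ hstr hle =>
    have hcard : 12 = n₁ * n₂ := by simpa using Fintype.card_congr e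
    obtain rfl : n₁ = 3 := by nlinarith
    obtain rfl : n₂ = 4 := by omega
    refine Or.inr <| Or.inr <| Or.inr <| Or.inr <| Or.inr <| Or.inr <| Or.inr <| Or.inr <| Or.inr <| Or.inr <| Or.inl ⟨hodd, five_le_card hodd fun h =>
      not_between hH hle (Orth.three_tensor_between hq h5 h le_rfl hf₁ hf₂ hstr), e, P, f₁, f₂, hf₁, hf₂,
      fun h => hminus (plus_of_symm_tensor hq hodd hf₁ hf₂ hstr h), hstr,
      eq_inf_of_maximal hH hle (omega_not_le_tensor hq h5 (by norm_num) (by norm_num) e P)⟩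
  | tensorAlt n₁ n₂ e P f₁ f₂ h2 h12 hf₁ hf₂ hstr hvan hle =>
    have hcard : 12 = n₁ * n₂ := by simpa using Fintype.card_congr e
    obtain ⟨a, ha⟩ := even_dim_of_symplectic hf₁
    obtain ⟨b, hb⟩ := even_dim_of_symplectic hf₂
    have h13 : n₁ ≤ 3 := by nlinarith
    obtain rfl : n₁ = 2 := by omega
    obtain rfl : n₂ = 6 := by omega
    exact (hminus (plus_of_tensor e P hvan)).elim
  | subfield F₀ r P ζ hr hcard hζ hrat hle =>
    have hr2 : r ≠ 2 := by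
      rintro rfl
      exact hminus (plus_of_index_two hG ⟨6, by omega⟩ hζ hcard hrat)
    exact Or.inr <| Or.inr <| Or.inr <| Or.inr <| Or.inr <| Or.inr <| Or.inr <| Or.inr <| Or.inr <| Or.inr <| Or.inr <| Or.inl
      ⟨F₀, r, P, ζ, hr, hr.odd_of_ne_two hr2, hcard, hζ, hrat, subfield_max hq h5 hH hr hcard hle⟩
  | residual hres => exact Or.inr <| Or.inr <| Or.inr <| Or.inr <| Or.inr <| Or.inr <| Or.inr <| Or.inr <| Or.inr <| Or.inr <| Or.inr <| Or.inr hres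

theorem omega12plus_cases {F : Type*} [Field F] [Fintype F] (Q : (Fin 12 → F) → F) (hQ : Cfsg.Geo.IsNondegenerateQuadraticForm Q) (hplus : Cfsg.Geo.IsPlusTypeOn Q ⊤) (H : Subgroup (Matrix.GeneralLinearGroup (Fin 12) F)) (hH : Cfsg.Geo.IsMaximalIn (Cfsg.Geo.omegaGL Q) H) :
    (∃ W : Submodule F (Fin 12 → F), W ≠ ⊥ ∧ Cfsg.Geo.IsTotallySingularQuad Q W ∧ Module.finrank F W ≠ 5 ∧ H = Cfsg.Geo.subspaceStabilizer W ⊓ Cfsg.Geo.omegaGL Q) ∨
    (Odd (Fintype.card F) ∧ ∃ W : Submodule F (Fin 12 → F), W ≠ ⊥ ∧ W ≠ ⊤ ∧ Odd (Module.finrank F W) ∧ 2 * Module.finrank F W ≠ 12 ∧ Cfsg.Geo.IsNondegenerateOn (QuadraticMap.polar Q) W ∧ H = Cfsg.Geo.subspaceStabilizer W ⊓ Cfsg.Geo.omegaGL Q) ∨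
    (∃ W : Submodule F (Fin 12 → F), Module.finrank F W = 2 ∧ Cfsg.Geo.IsNondegenerateOn (QuadraticMap.polar Q) W ∧ ¬ Cfsg.Geo.IsPlusTypeOn Q W ∧ H = Cfsg.Geo.subspaceStabilizer W ⊓ Cfsg.Geo.omegaGL Q) ∨
    (4 ≤ Fintype.card F ∧ ∃ W : Submodule F (Fin 12 → F), Module.finrank F W = 2 ∧ Cfsg.Geo.IsNondegenerateOn (QuadraticMap.polar Q) W ∧ Cfsg.Geo.IsPlusTypeOn Q W ∧ H = Cfsg.Geo.subspaceStabilizer W ⊓ Cfsg.Geo.omegaGL Q) ∨
    (∃ W : Submodule F (Fin 12 → F), Module.finrank F W = 4 ∧ Cfsg.Geo.IsNondegenerateOn (QuadraticMap.polar Q) W ∧ H = Cfsg.Geo.subspaceStabilizer W ⊓ Cfsg.Geo.omegaGL Q) ∨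
    (¬ Odd (Fintype.card F) ∧ ∃ v : (Fin 12 → F), Q v ≠ 0 ∧ H = Cfsg.Geo.subspaceStabilizer (Submodule.span F {v}) ⊓ Cfsg.Geo.omegaGL Q) ∨
    ((∃ p : ℕ, p.Prime ∧ Odd p ∧ Fintype.card F = p) ∧ ∃ D : Fin 12 → Submodule F (Fin 12 → F), Cfsg.Geo.IsOrthogonalMDecomposition Q 1 D ∧ H = Cfsg.Geo.decompositionStabilizer D ⊓ Cfsg.Geo.omegaGL Q) ∨
    (7 ≤ Fintype.card F ∧ ∃ D : Fin 6 → Submodule F (Fin 12 → F), Cfsg.Geo.IsOrthogonalMDecomposition Q 2 D ∧ (∀ i, Cfsg.Geo.IsPlusTypeOn Q (D i)) ∧ H = Cfsg.Geo.decompositionStabilizer D ⊓ Cfsg.Geo.omegaGL Q) ∨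
    (Fintype.card F ≠ 3 ∧ ∃ D : Fin 6 → Submodule F (Fin 12 → F), Cfsg.Geo.IsOrthogonalMDecomposition Q 2 D ∧ (∀ i, ¬ Cfsg.Geo.IsPlusTypeOn Q (D i)) ∧ H = Cfsg.Geo.decompositionStabilizer D ⊓ Cfsg.Geo.omegaGL Q) ∨
    (Odd (Fintype.card F) ∧ 5 ≤ Fintype.card F ∧ ∃ D : Fin 4 → Submodule F (Fin 12 → F), Cfsg.Geo.IsOrthogonalMDecomposition Q 3 D ∧ H = Cfsg.Geo.decompositionStabilizer D ⊓ Cfsg.Geo.omegaGL Q) ∨
    (3 ≤ Fintype.card F ∧ ∃ D : Fin 3 → Submodule F (Fin 12 → F), Cfsg.Geo.IsOrthogonalMDecomposition Q 4 D ∧ H = Cfsg.Geo.decompositionStabilizer D ⊓ Cfsg.Geo.omegaGL Q) ∨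
    (∃ D : Fin 2 → Submodule F (Fin 12 → F), Cfsg.Geo.IsOrthogonalMDecomposition Q 6 D ∧ H = Cfsg.Geo.decompositionStabilizer D ⊓ Cfsg.Geo.omegaGL Q) ∨
    (∃ D : Fin 2 → Submodule F (Fin 12 → F), Cfsg.Geo.IsMDecomposition 6 D ∧ (∀ i, Cfsg.Geo.IsTotallySingularQuad Q (D i)) ∧ H = Cfsg.Geo.decompositionStabilizer D ⊓ Cfsg.Geo.omegaGL Q) ∨
    (∃ K : Subalgebra F (Matrix (Fin 12) (Fin 12) F), Cfsg.Geo.IsFieldSubalgebra 2 K ∧ H = Cfsg.Geo.subalgebraNormalizer K ⊓ Cfsg.Geo.omegaGL Q) ∨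
    (∃ K : Subalgebra F (Matrix (Fin 12) (Fin 12) F), Cfsg.Geo.IsFieldSubalgebra 3 K ∧ H = Cfsg.Geo.subalgebraNormalizer K ⊓ Cfsg.Geo.omegaGL Q) ∨
    (∃ K : Subalgebra F (Matrix (Fin 12) (Fin 12) F), Cfsg.Geo.IsFieldSubalgebra 2 K ∧ Cfsg.Geo.IsAdjointClosedFor (QuadraticMap.polar Q) K ∧ ¬ Cfsg.Geo.IsSelfAdjointFor (QuadraticMap.polar Q) K ∧ (∀ k ∈ K, ∃ c : F, ∀ v : (Fin 12 → F), Q (Matrix.mulVec k v) = c * Q v) ∧ H = Cfsg.Geo.subalgebraNormalizer K ⊓ Cfsg.Geo.omegaGL Q) ∨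
    (3 ≤ Fintype.card F ∧ ∃ (e : Fin 12 ≃ Fin 2 × Fin 6) (P : Matrix.GeneralLinearGroup (Fin 12) F) (f₁ : (Fin 2 → F) → (Fin 2 → F) → F) (f₂ : (Fin 6 → F) → (Fin 6 → F) → F), Cfsg.Geo.IsSymplecticForm f₁ ∧ Cfsg.Geo.IsSymplecticForm f₂ ∧ Cfsg.Geo.IsTensorFormStructure id (QuadraticMap.polar Q) f₁ f₂ e P ∧ (∀ (x₁ : Fin 2 → F) (x₂ : Fin 6 → F), Q (Matrix.mulVec (P : Matrix (Fin 12) (Fin 12) F) ((fun a : Fin 2 × Fin 6 => x₁ a.1 * x₂ a.2) ∘ e)) = 0) ∧ H = Cfsg.Geo.tensorProductSubgroup 2 6 e P ⊓ Cfsg.Geo.omegaGL Q) ∨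
    (∃ (F₀ : Subfield F) (r : ℕ) (P : Matrix.GeneralLinearGroup (Fin 12) F) (ζ : F), r.Prime ∧ Fintype.card F = Nat.card F₀ ^ r ∧ ζ ≠ 0 ∧ Cfsg.Geo.IsQuadFormRationalStructure (fun v : Fin 12 → F => ζ * Q v) F₀ P ∧ H = Cfsg.Geo.subfieldSubgroup F₀ P ⊓ Cfsg.Geo.omegaGL Q) ∨
    Cfsg.Geo.InOrthogonalResidualClass H := by
  classical
  have hι : Fintype.card (Fin 12) = 12 := Fintype.card_fin 12
  have h5 : 5 ≤ Fintype.card (Fin 12) := by omega
  have h9 : 9 ≤ Fintype.card (Fin 12) := by omega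
  have hn2 : Fintype.card (Fin 12) = 2 * 6 := by omega
  have hG := hQ
  obtain ⟨q, rfl, hq⟩ := Orth.exists_form hQ
  have hHI : H ≤ isometryGroup F (⇑q) := hH.1.le.trans Orth.omega_le_iso
  cases even_outcome_of_not_power hG (by omega) ⟨6, by omega⟩ hHI
      (fun d t hd ht => hι ▸ twelve_not_power d t hd ht) with
  | totallySingular W h0 hts hle =>
    refine Or.inl ⟨W, h0, hts, fun h => ?_, subspace_max hq h5 hH
      (Nat.pos_of_ne_zero fun h => h0 (Submodule.finrank_eq_zero.1 h)) (singular_ne_top hq h5 hts) hle⟩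
    exact not_between hH hle (Orth.submaximal_between hq hn2 h5 hts (by omega) hplus)
  | nonsingularPoint v hchar hv hle =>
    have hv0 : v ≠ 0 := fun h => hv (by rw [h, QuadraticMap.map_zero])
    exact Or.inr <| Or.inr <| Or.inr <| Or.inr <| Or.inr <| Or.inl ⟨hchar, v, hv, subspace_max hq h5 hH
      (by rw [finrank_span_singleton hv0]; exact one_pos) (by rw [finrank_span_singleton hv0]; omega) hle⟩
  | nondegenerate W h0 hnd hdim hle =>
    rw [hι] at hdim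
    have hpos : 0 < finrank F W := Nat.pos_of_ne_zero fun h => h0 (Submodule.finrank_eq_zero.1 h)
    have heq := subspace_max hq h5 hH hpos (by omega) hle
    rcases Nat.even_or_odd (finrank F W) with hev | hodd
    · obtain ⟨a, ha⟩ := hev
      have h24 : finrank F W = 2 ∨ finrank F W = 4 := by omega
      rcases h24 with h2 | h4
      · by_cases hp : Geo.IsPlusTypeOn (⇑q) W
        · exact Or.inr <| Or.inr <| Or.inr <| Or.inl ⟨four_le_of_plus_plane hq h5 hH hnd h2 hp heq, W, h2, hnd, hp, heq⟩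
        · exact Or.inr <| Or.inr <| Or.inl ⟨W, h2, hnd, hp, heq⟩
      · exact Or.inr <| Or.inr <| Or.inr <| Or.inr <| Or.inl ⟨W, h4, hnd, heq⟩
    · refine Or.inr <| Or.inl ⟨odd_card_of_odd_finrank hq hnd hodd, W, h0, ?_, hodd, by omega, hnd, heq⟩
      rintro rfl
      rw [finrank_top, Module.finrank_pi] at hdim
      omega
  | halves D k hk hD hle =>
    obtain rfl : k = 6 := by omega
    exact Or.inr <| Or.inr <| Or.inr <| Or.inr <| Or.inr <| Or.inr <| Or.inr <| Or.inr <| Or.inr <| Or.inr <| Or.inr <| Or.inl ⟨D, orthogonal_of_iso hD (halves_isometric hq hplus hD (by decide) hn2 0 1),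
      decomposition_max hq h5 hH hD.decomp (by norm_num) (by norm_num) (le_decomposition_of_parts hle)⟩
  | decomposition t m D hD hline hle =>
    have hcard := card_eq_of_isMDecomposition hD.decomp.decomp
    have ht := hD.decomp.decomp.two_le
    have hm := hD.decomp.decomp.pos
    rw [hι] at hcard
    have ht12 : t ≤ 12 := Nat.le_of_dvd (by norm_num) ⟨m, hcard⟩
    have hcases : (t = 12 ∧ m = 1) ∨ (t = 6 ∧ m = 2) ∨ (t = 4 ∧ m = 3) ∨ (t = 3 ∧ m = 4) ∨ (t = 2 ∧ m = 6) := by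
      interval_cases t <;> omega
    rcases hcases with ⟨rfl, rfl⟩ | ⟨rfl, rfl⟩ | ⟨rfl, rfl⟩ | ⟨rfl, rfl⟩ | ⟨rfl, rfl⟩
    · obtain ⟨hp, hoddq⟩ := hline rfl
      exact Or.inr <| Or.inr <| Or.inr <| Or.inr <| Or.inr <| Or.inr <| Or.inl ⟨⟨_, hp, hoddq, rfl⟩, D, hD, eq_inf_of_maximal hH hle
        (OrthExplicit.omega_not_le_lines hq h5 (two_ne_zero_of_odd hoddq) hD.decomp.decomp)⟩
    · have h3 : Fintype.card F ≠ 3 := fun h =>
        not_between hH hle (Orth.tiny_between hq h9 hD (Or.inl ⟨h, Or.inl rfl⟩))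
      have heq := decomposition_max hq h5 hH hD.decomp.decomp le_rfl (by omega) hle
      by_cases hall : ∃ i, Geo.IsPlusTypeOn (⇑q) (D i)
      · obtain ⟨i, hi⟩ := hall
        have hall := Orth.plus_of_plus hD hi
        have hno : ¬ (Fintype.card F = 2 ∨ Fintype.card F = 4 ∨ Fintype.card F = 5) := fun h =>
          not_between hH hle (Orth.tiny_between hq h9 hD (Or.inr (Or.inl ⟨rfl, hall, h⟩)))
        exact Or.inr <| Or.inr <| Or.inr <| Or.inr <| Or.inr <| Or.inr <| Or.inr <| Or.inl ⟨seven_le_card (fun h => hno (Or.inl h)) h3 (fun h => hno (Or.inr (Or.inl h)))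
          fun h => hno (Or.inr (Or.inr h)), D, hD, hall, heq⟩
      · exact Or.inr <| Or.inr <| Or.inr <| Or.inr <| Or.inr <| Or.inr <| Or.inr <| Or.inr <| Or.inl ⟨h3, D, hD, fun i hi => hall ⟨i, hi⟩, heq⟩
    · have hoddq := odd_card_of_odd_finrank hq (hD.decomp.nondegenerate 0)
        (by rw [hD.decomp.decomp.finrank_eq]; decide)
      exact Or.inr <| Or.inr <| Or.inr <| Or.inr <| Or.inr <| Or.inr <| Or.inr <| Or.inr <| Or.inr <| Or.inl ⟨hoddq, five_le_card hoddq fun h =>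
        not_between hH hle (Orth.tiny_between hq h9 hD (Or.inl ⟨h, Or.inr rfl⟩)), D, hD,
        decomposition_max hq h5 hH hD.decomp.decomp (by norm_num) (by norm_num) hle⟩
    · have h2 : Fintype.card F ≠ 2 := fun h => not_between hH hle (Orth.tiny_between hq h9 hD
        (Or.inr (Or.inr ⟨rfl, h, plus_of_three hq hplus hD (by decide)⟩)))
      have := Fintype.one_lt_card (α := F)
      exact Or.inr <| Or.inr <| Or.inr <| Or.inr <| Or.inr <| Or.inr <| Or.inr <| Or.inr <| Or.inr <| Or.inr <| Or.inl ⟨by omega, D, hD,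
        decomposition_max hq h5 hH hD.decomp.decomp (by norm_num) (by norm_num) hle⟩
    · exact Or.inr <| Or.inr <| Or.inr <| Or.inr <| Or.inr <| Or.inr <| Or.inr <| Or.inr <| Or.inr <| Or.inr <| Or.inr <| Or.inl ⟨D, hD, decomposition_max hq h5 hH hD.decomp.decomp (by norm_num) (by norm_num) hle⟩
  | pair k D hk hD hts hle =>
    obtain rfl : k = 6 := by omega
    exact Or.inr <| Or.inr <| Or.inr <| Or.inr <| Or.inr <| Or.inr <| Or.inr <| Or.inr <| Or.inr <| Or.inr <| Or.inr <| Or.inr <| Or.inl ⟨D, hD, hts, decomposition_max hq h5 hH hD (by norm_num) (by norm_num) hle⟩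
  | field r K hr hne hK hsa hle =>
    have hdvd := dvd_card_of_isFieldSubalgebra hK
    rw [hι] at hdvd
    rcases prime_eq_of_dvd_twelve hr hdvd with rfl | rfl
    · exact Or.inr <| Or.inr <| Or.inr <| Or.inr <| Or.inr <| Or.inr <| Or.inr <| Or.inr <| Or.inr <| Or.inr <| Or.inr <| Or.inr <| Or.inr <| Or.inl ⟨K, hK, field_max hq h5 hH le_rfl hK hle⟩
    · exact Or.inr <| Or.inr <| Or.inr <| Or.inr <| Or.inr <| Or.inr <| Or.inr <| Or.inr <| Or.inr <| Or.inr <| Or.inr <| Or.inr <| Or.inr <| Or.inr <| Or.inl ⟨K, hK, field_max hq h5 hH (by norm_num) hK hle⟩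
  | unitaryField K hK hcl hns hsim hle =>
    exact Or.inr <| Or.inr <| Or.inr <| Or.inr <| Or.inr <| Or.inr <| Or.inr <| Or.inr <| Or.inr <| Or.inr <| Or.inr <| Or.inr <| Or.inr <| Or.inl ⟨K, hK, field_max hq h5 hH le_rfl hK hle⟩
  | tensorSymm n₁ n₂ e P f₁ f₂ hodd h3 h12 hf₁ hf₂ hstr hle =>
    have hcard : 12 = n₁ * n₂ := by simpa using Fintype.card_congr e
    obtain rfl : n₁ = 3 := by nlinarith
    obtain rfl : n₂ = 4 := by omega
    obtain ⟨e', P', g₁, g₂, hg₁, hg₂, hstr', hvan', hle'⟩ :=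
      tensor_refine hq hG hodd hplus e P hf₁ hf₂ hstr hHI (fun g hg => omega_det (hH.1.le hg)) hle
    exact Or.inr <| Or.inr <| Or.inr <| Or.inr <| Or.inr <| Or.inr <| Or.inr <| Or.inr <| Or.inr <| Or.inr <| Or.inr <| Or.inr <| Or.inr <| Or.inr <| Or.inr <| Or.inr <| Or.inl ⟨by obtain ⟨a, ha⟩ := hodd; have := Fintype.one_lt_card (α := F); omega,
      e', P', g₁, g₂, hg₁, hg₂, hstr', hvan',
      eq_inf_of_maximal hH hle' (omega_not_le_tensor hq h5 le_rfl (by norm_num) e' P')⟩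
  | tensorAlt n₁ n₂ e P f₁ f₂ h2 h12 hf₁ hf₂ hstr hvan hle =>
    have hcard : 12 = n₁ * n₂ := by simpa using Fintype.card_congr e
    obtain ⟨a, ha⟩ := even_dim_of_symplectic hf₁
    obtain ⟨b, hb⟩ := even_dim_of_symplectic hf₂
    have h13 : n₁ ≤ 3 := by nlinarith
    obtain rfl : n₁ = 2 := by omega
    obtain rfl : n₂ = 6 := by omega
    have hq2 : Fintype.card F ≠ 2 := fun h => not_between hH hle
      (Orth.two_tensor_between hq h5 h (by norm_num) hf₁ hf₂ hstr fun z w => by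
        rw [Orth.tmap_apply]; exact hvan z w)
    have := Fintype.one_lt_card (α := F)
    exact Or.inr <| Or.inr <| Or.inr <| Or.inr <| Or.inr <| Or.inr <| Or.inr <| Or.inr <| Or.inr <| Or.inr <| Or.inr <| Or.inr <| Or.inr <| Or.inr <| Or.inr <| Or.inr <| Or.inl ⟨by omega, e, P, f₁, f₂, hf₁, hf₂, hstr, hvan,
      eq_inf_of_maximal hH hle (omega_not_le_tensor hq h5 le_rfl (by norm_num) e P)⟩
  | subfield F₀ r P ζ hr hcard hζ hrat hle =>
    exact Or.inr <| Or.inr <| Or.inr <| Or.inr <| Or.inr <| Or.inr <| Or.inr <| Or.inr <| Or.inr <| Or.inr <| Or.inr <| Or.inr <| Or.inr <| Or.inr <| Or.inr <| Or.inr <| Or.inr <| Or.inl ⟨F₀, r, P, ζ, hr, hcard, hζ, hrat, subfield_max hq h5 hH hr hcard hle⟩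
  | residual hres => exact Or.inr <| Or.inr <| Or.inr <| Or.inr <| Or.inr <| Or.inr <| Or.inr <| Or.inr <| Or.inr <| Or.inr <| Or.inr <| Or.inr <| Or.inr <| Or.inr <| Or.inr <| Or.inr <| Or.inr <| Or.inr hres

end Cfsg.Agent.Aschbacher.OrthEven
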